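import Cfsg.Agent.Lib.BlockCount.PrincipalSum

/-!
# Products of conjugates and divisibility of degrees

If no product of a conjugate of `z` and a conjugate of `w` is conjugate to a non-identity element
of a subgroup `P`, then the sum `∑ χ z * χ w / χ 1 * m χ` (`m χ` the multiplicity of the trivial
character of `P`) is `(F 1) / |P|`, so `|P|` divides `F 1` times any common multiple of the degrees.
-/

set_option autoImplicit false

open scoped Classical ComplexConjugate

namespace Cfsg.Agent.BlockCount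

universe u

variable {G : Type u} [Group G] [Fintype G]

theorem mul_eq_sum_conj {χ : G → ℂ} (hχ : Cfsg.IsIrrCharacter G χ) (a b : G) :
    ∑ x : G, χ (a * (x * b * x⁻¹)) = (Nat.card G : ℂ) * χ a * χ b / χ 1 := by
  obtain ⟨n, ρ, hρ, rfl⟩ := hχ
  haveI := hρ
  set T : Module.End ℂ (Fin n → ℂ) := ∑ x : G, ρ (x * b * x⁻¹) with hT
  have hcomm : ∀ (h : G) (v : Fin n → ℂ), T (ρ h v) = ρ h (T v) := by
    intro h v
    simp only [hT, LinearMap.sum_apply, map_sum]
    refine Fintype.sum_equiv (Equiv.mulLeft h⁻¹) _ _ fun x => ?_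
    rw [← Module.End.mul_apply, ← map_mul, ← Module.End.mul_apply, ← map_mul]
    simp [mul_assoc]
  let f : Representation.IntertwiningMap ρ ρ :=
    LinearMap.intertwiningMap_of_isIntertwiningMap ρ ρ T hcomm
  obtain ⟨c, hc⟩ :=
    (Representation.IsIrreducible.algebraMap_intertwiningMap_bijective_of_isAlgClosed (ρ := ρ)).2 f
  have hTc : T = c • LinearMap.id := by
    refine LinearMap.ext fun v => ?_
    have : (algebraMap ℂ (Representation.IntertwiningMap ρ ρ) c) v = f v := by rw [hc]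
    rw [show f v = T v from rfl] at this
    rw [← this, Algebra.algebraMap_eq_smul_one]
    rfl
  have h1 : ∀ a : G, ∑ x : G, ρ.character (a * (x * b * x⁻¹)) = c * ρ.character a := by
    intro a
    have : LinearMap.trace ℂ (Fin n → ℂ) (ρ a * T) = c * ρ.character a := by
      rw [hTc, mul_smul_comm, map_smul, smul_eq_mul]
      rfl
    rw [← this, hT, Finset.mul_sum, map_sum]
    exact Finset.sum_congr rfl fun x _ => by rw [← map_mul]; rfl
  have h2 := h1 1
  simp only [one_mul, Representation.char_conj, Finset.sum_const, Finset.card_univ,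
    nsmul_eq_mul, ← Nat.card_eq_fintype_card] at h2
  have hne : ρ.character 1 ≠ 0 :=
    Char.IsIrrCharacter.apply_one_ne_zero (χ := ρ.character) ⟨n, ρ, hρ, rfl⟩
  rw [h1 a, mul_right_comm, h2, eq_div_iff hne]
  ring

set_option maxHeartbeats 1000000 in
/-- The central character at an element is an algebraic integer. -/
theorem isIntegral_centralChar {χ : G → ℂ} (hχ : Cfsg.IsIrrCharacter G χ) (b : G) :
    IsIntegral ℤ (Cfsg.centralChar χ b) := by
  obtain ⟨n, ρ, hρ, rfl⟩ := hχ
  haveI := hρ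
  set S := Finset.univ.filter (fun g : G => IsConj b g) with hS
  obtain ⟨c, hc⟩ := Char.exists_opSum_eq_smul (Char.isClassFunction_indicator b) ρ
  have hop : Char.opSum (fun x => if IsConj b x then (1 : ℂ) else 0) ρ =
      c • (1 : Module.End ℂ (Fin n → ℂ)) := LinearMap.ext fun v => by
      convert hc v using 1
      · congr!
      · simp
  have hint : IsIntegral ℤ (c • (1 : Module.End ℂ (Fin n → ℂ))) := by
    let φ : MonoidAlgebra ℤ G →ₐ[ℤ] Module.End ℂ (Fin n → ℂ) :=
      MonoidAlgebra.lift ℤ (Module.End ℂ (Fin n → ℂ)) G ρ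
    have hφ : φ (∑ g ∈ S, MonoidAlgebra.single g 1) = c • 1 := by
      rw [map_sum, ← hop, Char.opSum]
      rw [hS, Finset.sum_filter]
      refine Finset.sum_congr rfl fun g _ => ?_
      split_ifs <;> simp [φ]
    rw [← hφ]
    exact (IsIntegral.of_finite ℤ _).map φ
  have hne : ρ.character 1 ≠ 0 :=
    Char.IsIrrCharacter.apply_one_ne_zero (χ := ρ.character) ⟨n, ρ, hρ, rfl⟩
  have hn : n ≠ 0 := fun h => hne (by simp [h])
  haveI : Nonempty (Fin n) := ⟨⟨0, Nat.pos_of_ne_zero hn⟩⟩
  have hcint : IsIntegral ℤ c := by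
    rw [← Algebra.algebraMap_eq_smul_one] at hint
    exact (isIntegral_algebraMap_iff (algebraMap ℂ (Module.End ℂ (Fin n → ℂ))).injective).mp hint
  have htr := Char.trace_opSum (fun x => if IsConj b x then (1 : ℂ) else 0) ρ
  rw [hop, map_smul, LinearMap.trace_one, smul_eq_mul] at htr
  have hsum : ∑ g : G, (if IsConj b g then (1 : ℂ) else 0) * ρ.character g =
      ((Subgroup.centralizer ({b} : Set G)).index : ℂ) * ρ.character b := by
    rw [card_carrier_eq_index, Nat.card_eq_fintype_card, ← Set.toFinset_card, ← nsmul_eq_mul,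
      ← Finset.sum_const]
    simp only [ite_mul, one_mul, zero_mul, ← Finset.sum_filter]
    refine Finset.sum_congr ?_ fun g hg => ?_
    · ext g
      rw [Finset.mem_filter, Set.mem_toFinset, ConjClasses.mem_carrier_iff_mk_eq,
        ConjClasses.mk_eq_mk_iff_isConj, isConj_comm]
      exact and_iff_right (Finset.mem_univ g)
    · rw [Set.mem_toFinset, ConjClasses.mem_carrier_iff_mk_eq,
        ConjClasses.mk_eq_mk_iff_isConj] at hg
      obtain ⟨x, rfl⟩ := isConj_iff.mp hg.symm
      exact Representation.char_conj ρ b x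
  rw [hsum] at htr
  rw [Cfsg.centralChar, ← htr, Representation.char_one, mul_div_assoc,
    div_self (by simpa using hn), mul_one]
  exact hcint

theorem charDegree_eq_degree (χ : Cfsg.IrrCharacter G) :
    Cfsg.charDegree (χ : G → ℂ) = Char.degree χ := by
  rw [Cfsg.charDegree, Char.apply_one_eq_degree, Complex.natCast_re, Nat.floor_natCast]

theorem apply_one_eq_charDegree (χ : Cfsg.IrrCharacter G) :
    (χ : G → ℂ) 1 = (Cfsg.charDegree (χ : G → ℂ) : ℂ) := by
  rw [charDegree_eq_degree, ← Char.apply_one_eq_degree]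

/-- The degree of an irreducible character divides the order of the group. -/
theorem charDegree_dvd_card (χ : Cfsg.IrrCharacter G) :
    Cfsg.charDegree (χ : G → ℂ) ∣ Nat.card G := by
  have hdpos : Cfsg.charDegree (χ : G → ℂ) ≠ 0 := by
    rw [charDegree_eq_degree]; exact (Char.degree_pos χ).ne'
  have hchar := Char.irr_isCharacter χ
  have h1 := Char.classInner_irr_self χ.2
  rw [Cfsg.classInner, inv_mul_eq_iff_eq_mul₀ Char.card_ne_zero, mul_one] at h1
  have hclass : Cfsg.IsClassFunction G (fun g => (χ : G → ℂ) g * conj ((χ : G → ℂ) g)) := by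
    intro g h
    simp only [Char.IsCharacter.isClassFunction hchar g h]
  have h2 : IsIntegral ℤ ((Nat.card G : ℂ) / (χ : G → ℂ) 1) := by
    rw [← h1]
    have h3 := pregSum_eq_sum_classes 0 hclass
    have h4 : pregSum 0 (fun g => (χ : G → ℂ) g * conj ((χ : G → ℂ) g)) =
        ∑ g : G, (χ : G → ℂ) g * conj ((χ : G → ℂ) g) := by
      rw [pregSum]
      refine Finset.sum_congr ?_ fun _ _ => rfl
      exact Finset.filter_true_of_mem fun g _ h => (orderOf_pos g).ne' (zero_dvd_iff.mp h)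
    rw [← h4, h3, Finset.sum_div]
    refine IsIntegral.sum _ fun C _ => ?_
    rw [show ((Subgroup.centralizer ({Quotient.out C} : Set G)).index : ℂ) *
        ((χ : G → ℂ) (Quotient.out C) * conj ((χ : G → ℂ) (Quotient.out C))) / (χ : G → ℂ) 1 =
        Cfsg.centralChar (χ : G → ℂ) (Quotient.out C) * conj ((χ : G → ℂ) (Quotient.out C)) by
      rw [Cfsg.centralChar]; ring]
    refine (isIntegral_centralChar χ.2 _).mul ?_
    rw [Char.IsCharacter.conj_apply hchar]
    exact (isRepChar_of_isCharacter hchar).isIntegral _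
  obtain ⟨z, hz⟩ := exists_int_of_isIntegral (c := (Cfsg.charDegree (χ : G → ℂ) : ℤ))
    (N := (Nat.card G : ℤ)) h2 (Int.natCast_ne_zero.mpr hdpos) (by
      push_cast
      rw [apply_one_eq_charDegree]
      field_simp)
  rw [apply_one_eq_charDegree, div_eq_iff (Nat.cast_ne_zero.mpr hdpos)] at hz
  exact Int.natCast_dvd_natCast.mp ⟨z, by rw [mul_comm]; exact_mod_cast hz⟩

/-- The class multiplication identity. -/
theorem sum_irr_mul_mul_conj_div (z w y : G) :
    ∑ χ : Cfsg.IrrCharacter G, (χ : G → ℂ) z * (χ : G → ℂ) w * conj ((χ : G → ℂ) y) /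
        (χ : G → ℂ) 1 =
      (Nat.card (Subgroup.centralizer ({y} : Set G)) : ℂ) *
        (Nat.card {x : G // IsConj (z * (x * w * x⁻¹)) y} : ℂ) / (Nat.card G : ℂ) := by
  rw [eq_div_iff Char.card_ne_zero, Finset.sum_mul]
  have h1 : ∀ χ : Cfsg.IrrCharacter G,
      (χ : G → ℂ) z * (χ : G → ℂ) w * conj ((χ : G → ℂ) y) / (χ : G → ℂ) 1 * (Nat.card G : ℂ) =
        ∑ x : G, (χ : G → ℂ) (z * (x * w * x⁻¹)) * conj ((χ : G → ℂ) y) := by
    intro χ
    rw [← Finset.sum_mul, mul_eq_sum_conj χ.2]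
    ring
  rw [Finset.sum_congr rfl (fun χ _ => h1 χ), Finset.sum_comm,
    Finset.sum_congr rfl (fun x _ => Char.sum_irr_mul_conj (z * (x * w * x⁻¹)) y),
    Nat.card_eq_fintype_card (α := {x : G // IsConj (z * (x * w * x⁻¹)) y}),
    Fintype.card_subtype, ← Finset.sum_boole, Finset.mul_sum]
  refine Finset.sum_congr rfl fun x _ => ?_
  split_ifs <;> simp

/-- If no product of conjugates of `z` and `w` is conjugate to a non-identity element of `P`,
then every bound on the `p`-parts of the degrees bounds the `p`-part of the order of `P`. -/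
theorem factorization_card_le {p : ℕ} [Fact p.Prime] (P : Subgroup G) (z w : G) (e : ℕ)
    (hno : ∀ y ∈ P, y ≠ 1 → ∀ x : G, ¬ IsConj (z * (x * w * x⁻¹)) y)
    (hne : Nat.card {x : G // z * (x * w * x⁻¹) = 1} ≠ 0)
    (he : ∀ χ : Cfsg.IrrCharacter G, (Cfsg.charDegree (χ : G → ℂ)).factorization p ≤ e) :
    (Nat.card P).factorization p ≤
      e + (Nat.card {x : G // z * (x * w * x⁻¹) = 1}).factorization p := by
  have hp : p.Prime := Fact.out
  set N₁ := Nat.card {x : G // z * (x * w * x⁻¹) = 1} with hN₁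
  have hdpos : ∀ χ : Cfsg.IrrCharacter G, Cfsg.charDegree (χ : G → ℂ) ≠ 0 := fun χ => by
    rw [charDegree_eq_degree]; exact (Char.degree_pos χ).ne'
  set L := p ^ e * ∏ χ : Cfsg.IrrCharacter G,
    Cfsg.charDegree (χ : G → ℂ) / p ^ (Cfsg.charDegree (χ : G → ℂ)).factorization p with hL
  have hdvd : ∀ χ : Cfsg.IrrCharacter G, Cfsg.charDegree (χ : G → ℂ) ∣ L := by
    intro χ
    rw [← Nat.ordProj_mul_ordCompl_eq_self (Cfsg.charDegree (χ : G → ℂ)) p, hL]
    exact Nat.mul_dvd_mul (pow_dvd_pow p (he χ))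
      (Finset.dvd_prod_of_mem (fun ψ : Cfsg.IrrCharacter G =>
        Cfsg.charDegree (ψ : G → ℂ) / p ^ (Cfsg.charDegree (ψ : G → ℂ)).factorization p)
        (Finset.mem_univ χ))
  have hm : ∀ χ : Cfsg.IrrCharacter G, ∃ m : ℕ,
      ∑ y : P, conj ((χ : G → ℂ) y) = (Nat.card P : ℂ) * m := by
    intro χ
    obtain ⟨m, hm⟩ := ((isRepChar_of_isCharacter (Char.irr_isCharacter χ)).comp P.subtype).sum_eq
    refine ⟨m, ?_⟩
    rw [← map_sum, show ∑ y : P, (χ : G → ℂ) y = _ from hm]
    simp
  choose m hm using hm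
  have hF1 : ∑ χ : Cfsg.IrrCharacter G, (χ : G → ℂ) z * (χ : G → ℂ) w / (χ : G → ℂ) 1 *
      ((Nat.card P : ℂ) * m χ) = (N₁ : ℂ) := by
    simp only [← hm, Finset.mul_sum]
    rw [Finset.sum_comm]
    have h1 : ∀ y : P, ∑ χ : Cfsg.IrrCharacter G,
        (χ : G → ℂ) z * (χ : G → ℂ) w / (χ : G → ℂ) 1 * conj ((χ : G → ℂ) y) =
        if y = 1 then (N₁ : ℂ) else 0 := by
      intro y
      rw [Finset.sum_congr rfl (fun (χ : Cfsg.IrrCharacter G) _ =>
        (by ring : (χ : G → ℂ) z * (χ : G → ℂ) w / (χ : G → ℂ) 1 * conj ((χ : G → ℂ) y) =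
          (χ : G → ℂ) z * (χ : G → ℂ) w * conj ((χ : G → ℂ) y) / (χ : G → ℂ) 1)),
        sum_irr_mul_mul_conj_div]
      by_cases hy : y = 1
      · subst hy
        have hc : Subgroup.centralizer ({((1 : P) : G)} : Set G) = ⊤ := by
          ext x; simp [Subgroup.mem_centralizer_singleton_iff]
        rw [if_pos rfl, hc, Subgroup.card_top,
          Nat.card_congr (Equiv.subtypeEquivRight (p := fun x : G =>
            IsConj (z * (x * w * x⁻¹)) ((1 : P) : G)) (q := fun x => z * (x * w * x⁻¹) = 1)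
            (fun x => by simp [isConj_one_left, isConj_one_right]))]
        rw [← hN₁, mul_div_assoc, mul_div_cancel₀ _ Char.card_ne_zero]
      · have : IsEmpty {x : G // IsConj (z * (x * w * x⁻¹)) (y : G)} :=
          ⟨fun x => hno y y.2 (fun h => hy (Subtype.ext h)) x.1 x.2⟩
        rw [if_neg hy, @Nat.card_of_isEmpty _ this, Nat.cast_zero, mul_zero, zero_div]
    rw [Finset.sum_congr rfl (fun y _ => h1 y), Finset.sum_ite_eq']
    simp
  set S := ∑ χ : Cfsg.IrrCharacter G,
    (χ : G → ℂ) z * (χ : G → ℂ) w * ((L / Cfsg.charDegree (χ : G → ℂ) : ℕ) : ℂ) * (m χ : ℂ) with hS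
  have hSint : IsIntegral ℤ S := by
    refine IsIntegral.sum _ fun χ _ => ?_
    have hr := isRepChar_of_isCharacter (Char.irr_isCharacter χ)
    exact (((hr.isIntegral z).mul (hr.isIntegral w)).mul (isIntegral_algebraMap
      (R := ℤ) (x := ((L / Cfsg.charDegree (χ : G → ℂ) : ℕ) : ℤ)))).mul
      (isIntegral_algebraMap (R := ℤ) (x := (m χ : ℤ)))
  have hS2 : ((Nat.card P : ℤ) : ℂ) * S = (((L : ℤ) * (N₁ : ℤ) : ℤ) : ℂ) := by
    push_cast
    rw [← hF1, hS, Finset.mul_sum, Finset.mul_sum]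
    refine Finset.sum_congr rfl fun χ _ => ?_
    rw [Nat.cast_div (hdvd χ) (Nat.cast_ne_zero.mpr (hdpos χ)), ← apply_one_eq_charDegree]
    ring
  obtain ⟨s, hs⟩ := exists_int_of_isIntegral hSint (Int.natCast_ne_zero.mpr Nat.card_pos.ne') hS2
  have hdvd' : Nat.card P ∣ L * N₁ := by
    rw [← Int.natCast_dvd_natCast]
    refine ⟨s, ?_⟩
    rw [hs] at hS2
    push_cast
    exact_mod_cast hS2.symm
  have hprod : ∏ χ : Cfsg.IrrCharacter G,
      Cfsg.charDegree (χ : G → ℂ) / p ^ (Cfsg.charDegree (χ : G → ℂ)).factorization p ≠ 0 :=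
    Finset.prod_ne_zero_iff.mpr fun χ _ => (Nat.ordCompl_pos p (hdpos χ)).ne'
  have hL0 : L ≠ 0 := mul_ne_zero (pow_ne_zero _ hp.ne_zero) hprod
  have h2 : (Nat.card P).factorization p ≤ (L * N₁).factorization p :=
    (Nat.factorization_le_iff_dvd Nat.card_pos.ne' (mul_ne_zero hL0 hne)).mpr hdvd' p
  refine h2.trans ?_
  rw [Nat.factorization_mul hL0 hne, Finsupp.add_apply, hL,
    Nat.factorization_mul (pow_ne_zero _ hp.ne_zero) hprod, Finsupp.add_apply,
    hp.factorization_pow, Finsupp.single_eq_same,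
    Nat.factorization_eq_zero_of_not_dvd (fun h => ?_), add_zero]
  obtain ⟨χ, -, hχ⟩ := (Prime.dvd_finsetProd_iff hp.prime _).mp h
  exact Nat.not_dvd_ordCompl hp (hdpos χ) hχ

end Cfsg.Agent.BlockCount
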