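import Cfsg.Agent.Lib.Blocks.FirstMain
import Cfsg.Agent.Lib.BrauerPairs.Bridge

/-!
# Blocks of centralisers: induction, the principal block, defects

For a `p`-element `y` every block of `C(y)` induces a block of at least the same defect, the
principal block induces only the principal block and only it does so, and every block whose defect
group contains a conjugate of `y` in its centre comes from a block of the same defect.
-/

set_option autoImplicit false
set_option linter.unusedSectionVars false
set_option linter.style.haveILetI false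

open Cfsg MonoidAlgebra
open scoped Classical Cfsg.Agent.Blocks

namespace Cfsg.Agent.BlockCount

open Agent.Blocks

universe u

variable {G : Type u} [Group G] [Finite G] {M : Ideal AlgInt} [M.IsMaximal]
variable {p : ℕ} [hp : Fact p.Prime]

theorem brauerOmega_eq_omega (Q : Subgroup G) (B : Set (IrrCharacter G))
    (ξ : Subgroup.centralizer (Q : Set G) → ℂ) :
    brauerOmega Q (blockCoeff B) ξ =
      omega ξ (brH Q (Subgroup.centralizer (Q : Set G)) (blockIdem B)) := by
  haveI := Fintype.ofFinite (Subgroup.centralizer (Q : Set G))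
  rw [brauerOmega, finsum_eq_sum_of_fintype, omega, chiL_eq_sum, Finset.sum_div]
  exact Finset.sum_congr rfl fun x _ => by rw [coeff_brH, if_pos x.2, coeff_blockIdem]

/-- Brauer's third main theorem for the centraliser of an abelian `p`-subgroup. -/
theorem isInducedBlock_principal_iff (hpM : (p : AlgInt) ∈ M) {Q : Subgroup G} (hQ : IsPGroup p Q)
    {H : Subgroup G} (hH : H = Subgroup.centralizer (Q : Set G)) (hQH : Q ≤ H)
    {b : Set (IrrCharacter H)} (hb : IsPBlock M b) :
    IsInducedBlock M H b (principalBlock M G) ↔ b = principalBlock M H := by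
  subst hH
  haveI := Fintype.ofFinite G
  haveI : CharP (AlgInt ⧸ M) p := Blocks.charP_residue hpM
  have hHN : Subgroup.centralizer (Q : Set G) ≤ Subgroup.normalizer (Q : Set G) :=
    Subgroup.centralizer_le_normalizer _
  have hB := BrauerPairs.isPBlock_principalBlock (M := M) (G := G)
  have hblk : ∀ H : Subgroup G, BrauerPairs.HasBlocks (AlgInt ⧸ M) H := fun H =>
    BrauerPairs.hasBlocks M H
  have key : IsInducedBlock M _ b (principalBlock M G) ↔
      IsBrauerPairOf p M (principalBlock M G) Q b := by
    constructor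
    · intro h
      refine ⟨⟨hQ, hb⟩, hB, fun ξ hξ => ?_⟩
      obtain ⟨χ, hχ⟩ := block_nonempty hB
      have h1 := IsInducedBlock.omega_sub h hξ hχ (isCentralElt_blockIdem (principalBlock M G))
        (scoeff_blockIdem hB)
      rw [omega_blockIdem, if_pos hχ] at h1
      have h2 := memLocalIdeal_omega_resH_sub_brH hpM hQ hQH hHN
        (isCentralElt_blockIdem (principalBlock M G)) (scoeff_blockIdem hB) ξ
      rw [brauerOmega_eq_omega]
      simpa using MemLocalIdeal.sub h1 h2
    · intro h
      obtain ⟨ξ, hξ⟩ := block_nonempty hb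
      refine isInducedBlock_of_omega hpM hQ le_rfl hHN hQH hb hξ hB fun hI => ?_
      have h1 := h.2.2 ξ hξ
      rw [brauerOmega_eq_omega] at h1
      exact not_memLocalIdeal_one (M := M) (by simpa using MemLocalIdeal.sub hI h1)
  rw [key, BrauerPairs.isBrauerPairOf_iff hB]
  constructor
  · rintro ⟨-, h⟩
    exact BrauerPairs.eq_principalBlock_of_isPrincipal hb
      (BrauerPairs.isPrincipal_of_isPairOf hblk (BrauerPairs.isPrincipal_blkG (M := M)) h)
  · rintro rfl
    exact ⟨hb, BrauerPairs.isPairOf_of_isPrincipal (BrauerPairs.isPrincipal_blkG (M := M)) hQ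
      (BrauerPairs.isPrincipal_blk _)⟩

/-- An inducing block with unit idempotent coefficient at a given element. -/
theorem exists_inducing_block_coeff (hpM : (p : AlgInt) ∈ M) {P H : Subgroup G} (hP : IsPGroup p P)
    (hPH : P ≤ H) (hCH : Subgroup.centralizer (P : Set G) ≤ H)
    (hHN : H ≤ Subgroup.normalizer (P : Set G)) {B : Set (IrrCharacter G)} (hB : IsPBlock M B)
    {g : H} (hg : (g : G) ∈ Subgroup.centralizer (P : Set G))
    (hgB : ¬ MemLocalIdeal M (blockCoeff B (g : G))) :
    ∃ b : Set (IrrCharacter H), IsInducedBlock M H b B ∧ ¬ MemLocalIdeal M (blockCoeff b g) := by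
  haveI : CharP (AlgInt ⧸ M) p := Blocks.charP_residue hpM
  haveI := Fintype.ofFinite H
  set A := (Finset.univ.image fun ξ : IrrCharacter H => blockOf M ξ.1).filter
    (fun b => IsInducedBlock M H b B) with hA
  set e := brH P H (blockIdem B) with he
  have heC : IsCentralElt e := isCentralElt_brH hHN (isCentralElt_blockIdem B)
  have heS : SCoeff M e := scoeff_brH (scoeff_blockIdem hB)
  set f := ∑ b ∈ A, blockIdem b with hf
  have hfC : IsCentralElt f := IsCentralElt.sum _ fun b _ => isCentralElt_blockIdem b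
  have hfS : SCoeff M f := SCoeff.sum _ fun b hb => scoeff_blockIdem (Finset.mem_filter.1 hb).2.1
  by_contra hno
  simp only [not_exists, not_and, not_not] at hno
  have hg0 : MemLocalIdeal M (f.coeff g) := by
    rw [hf, MonoidAlgebra.coeff_sum, Finsupp.finset_sum_apply]
    refine MemLocalIdeal.sum _ fun b hb => ?_
    rw [coeff_blockIdem]
    exact hno b (Finset.mem_filter.1 hb).2
  have hall : ∀ ξ : IrrCharacter H, MemLocalIdeal M (omega ξ.1 (e - f)) := fun ξ => by
    rw [omega_sub, hf, omega_sum]
    simp only [omega_blockIdem]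
    by_cases hi : IsInducedBlock M H (blockOf M ξ.1) B
    · rw [Finset.sum_eq_single (blockOf M ξ.1), if_pos (mem_blockOf_self ξ)]
      · obtain ⟨χ, hχ⟩ := block_nonempty hB
        have h1 := IsInducedBlock.omega_sub hi (mem_blockOf_self ξ) hχ (isCentralElt_blockIdem B)
          (scoeff_blockIdem hB)
        rw [omega_blockIdem, if_pos hχ] at h1
        have h2 := memLocalIdeal_omega_resH_sub_brH hpM hP hPH hHN (isCentralElt_blockIdem B)
          (scoeff_blockIdem hB) ξ
        simpa [he] using MemLocalIdeal.sub h1 h2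
      · exact fun b hb hne => if_neg fun hm => hne (block_eq (Finset.mem_filter.1 hb).2.1 hm)
      · exact fun h => absurd (Finset.mem_filter.2
          ⟨Finset.mem_image.2 ⟨ξ, Finset.mem_univ _, rfl⟩, hi⟩) h
    · rw [Finset.sum_eq_zero fun b hb => ?_, sub_zero]
      · by_contra hI
        exact hi (isInducedBlock_of_omega hpM hP hCH hHN hPH (isPBlock_blockOf ξ)
          (mem_blockOf_self ξ) hB hI)
      · exact if_neg fun hm => hi (block_eq (Finset.mem_filter.1 hb).2.1 hm ▸
          (Finset.mem_filter.1 hb).2)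
  have hN := mcoeff_pow_of_omega (IsCentralElt.sub heC hfC) (SCoeff.sub heS hfS) hall
  rw [← redA_eq_zero_iff (SCoeff.pow (SCoeff.sub heS hfS) _), redA_pow (SCoeff.sub heS hfS)] at hN
  have hee : redA M e * redA M e = redA M e := by
    rw [he, ← redA_brH_mul hpM hP hCH (isCentralElt_blockIdem B) (isCentralElt_blockIdem B)
      (scoeff_blockIdem hB) (scoeff_blockIdem hB), blockIdem_mul_self]
  have hff : redA M f * redA M f = redA M f := by
    rw [← redA_mul hfS hfS]
    congr 1
    refine central_ext (IsCentralElt.mul hfC hfC) hfC fun ξ => ?_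
    rw [omega_mul ξ hfC, hf, omega_sum]
    simp only [omega_blockIdem]
    by_cases hm : blockOf M ξ.1 ∈ A
    · rw [Finset.sum_eq_single (blockOf M ξ.1), if_pos (mem_blockOf_self ξ), one_mul]
      · exact fun b hb hne => if_neg fun hm => hne (block_eq (Finset.mem_filter.1 hb).2.1 hm)
      · exact fun h => absurd hm h
    · rw [Finset.sum_eq_zero, zero_mul]
      exact fun b hb => if_neg fun h => hm (block_eq (Finset.mem_filter.1 hb).2.1 h ▸ hb)
  have hidem : ∀ (x : MonoidAlgebra (AlgInt ⧸ M) H), x * x = x → ∀ k, 1 ≤ k → x ^ k = x :=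
    fun x hx k hk => by
    induction k, hk using Nat.le_induction with
    | base => rw [pow_one]
    | succ k _ ih => rw [pow_succ, ih, hx]
  set N := Fintype.card (IrrCharacter H)
  haveI : CharP (MonoidAlgebra (AlgInt ⧸ M) H) p :=
    charP_of_injective_algebraMap (algebraMap (AlgInt ⧸ M) _).injective p
  have hpow : redA M (e - f) ^ p ^ N = 0 := pow_eq_zero_of_le (Nat.lt_pow_self hp.out.one_lt).le hN
  have hk : 1 ≤ p ^ N := Nat.one_le_pow _ _ hp.out.pos
  rw [redA_sub heS hfS, sub_pow_char_pow_of_commute (p := p) (n := N) (h := IsCentralElt.commute (isCentralElt_redA heC) _),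
    hidem _ hee _ hk, hidem _ hff _ hk, sub_eq_zero, redA_eq_iff heS hfS] at hpow
  have := MemLocalIdeal.add (hpow g) hg0
  rw [MonoidAlgebra.coeff_sub, Finsupp.sub_apply, sub_add_cancel, he, coeff_brH, if_pos hg,
    coeff_blockIdem] at this
  exact hgB this

theorem zpowers_facts (y : G) :
    Subgroup.centralizer ({y} : Set G) = Subgroup.centralizer ((Subgroup.zpowers y : Subgroup G) : Set G) ∧
      Subgroup.zpowers y ≤ Subgroup.centralizer ({y} : Set G) := by
  refine ⟨le_antisymm (fun g hg => ?_) (Subgroup.centralizer_le fun a ha => ?_),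
    Subgroup.zpowers_le.2 (Subgroup.mem_centralizer_singleton_iff.2 rfl)⟩
  · rw [Subgroup.mem_centralizer_iff]
    intro a ha
    obtain ⟨k, rfl⟩ := Subgroup.mem_zpowers_iff.1 ha
    exact (Commute.zpow_left (Subgroup.mem_centralizer_singleton_iff.1 hg : Commute g y).symm k).eq
  · rw [Set.mem_singleton_iff.1 ha]
    exact Subgroup.mem_zpowers y

/-- Non-principal blocks of the centraliser of a `p`-element give non-principal blocks of at
least the same defect. -/
theorem exists_nonprincipal_of_centralizer (hpM : (p : AlgInt) ∈ M) {y : G}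
    (hy : ∃ k : ℕ, orderOf y = p ^ k)
    {b : Set (IrrCharacter (Subgroup.centralizer ({y} : Set G)))} (hb : IsPBlock M b)
    (hne : b ≠ principalBlock M (Subgroup.centralizer ({y} : Set G))) :
    ∃ B : Set (IrrCharacter G), IsPBlock M B ∧ B ≠ principalBlock M G ∧
      blockDefect p b ≤ blockDefect p B := by
  obtain ⟨hC, hQ⟩ := zpowers_facts y
  obtain ⟨k, hk⟩ := hy
  have hP : IsPGroup p (Subgroup.zpowers y) :=
    IsPGroup.of_card (n := k) (by rw [Nat.card_zpowers, hk])
  have hCH : Subgroup.centralizer ((Subgroup.zpowers y : Subgroup G) : Set G) ≤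
      Subgroup.centralizer ({y} : Set G) := hC ▸ le_rfl
  have hHN : Subgroup.centralizer ({y} : Set G) ≤
      Subgroup.normalizer ((Subgroup.zpowers y : Subgroup G) : Set G) :=
    hC ▸ Subgroup.centralizer_le_normalizer _
  obtain ⟨B, hB⟩ := inducedBlockDefined_of_le hpM hP hCH hHN hQ hb
  refine ⟨B, hB.2.1, fun h => hne ((isInducedBlock_principal_iff hpM hP hC hQ hb).1 (h ▸ hB)), ?_⟩
  obtain ⟨D, hD⟩ := exists_defectGroup (p := p) hb
  obtain ⟨E, hE, hle⟩ := IsInducedBlock.exists_defectGroup_ge hpM hB hD
  have h1 := Subgroup.card_le_of_le hle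
  rw [Subgroup.card_map_of_injective (Subgroup.subtype_injective _), card_defectGroup hpM hb hD,
    card_defectGroup hpM hB.2.1 hE] at h1
  exact (Nat.pow_le_pow_iff_right hp.out.one_lt).1 h1

/-- A non-principal block of positive defect comes from one of the same defect at an element of
order `p`. -/
theorem exists_centralizer_nonprincipal (hpM : (p : AlgInt) ∈ M) {B : Set (IrrCharacter G)}
    (hB : IsPBlock M B) (hne : B ≠ principalBlock M G) (hd : 0 < blockDefect p B) :
    ∃ y : G, orderOf y = p ∧ ∃ b : Set (IrrCharacter (Subgroup.centralizer ({y} : Set G))),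
      IsPBlock M b ∧ b ≠ principalBlock M (Subgroup.centralizer ({y} : Set G)) ∧
      blockDefect p B ≤ blockDefect p b := by
  obtain ⟨D, hD⟩ := exists_defectGroup (p := p) hB
  obtain ⟨g, hg, hgD⟩ := isDefectGroup_iff.1 hD
  have hcard := card_defectGroup hpM hB hD
  haveI : Nontrivial D := Finite.one_lt_card_iff_nontrivial.1 (by
    rw [hcard]; exact Nat.one_lt_pow hd.ne' hp.out.one_lt)
  haveI := (SylIn.isPGroup hgD).center_nontrivial
  obtain ⟨n, hn⟩ := IsPGroup.iff_card.1 ((SylIn.isPGroup hgD).to_subgroup (Subgroup.center D))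
  have hn0 : n ≠ 0 := fun h => by
    have := Finite.one_lt_card (α := Subgroup.center D)
    rw [hn, h, pow_zero] at this
    exact lt_irrefl _ this
  obtain ⟨z, hz⟩ := exists_prime_orderOf_dvd_card' (G := Subgroup.center D) p
    (hn ▸ dvd_pow_self p hn0)
  set y : G := ((z : D) : G) with hy
  have hyo : orderOf y = p := by
    rw [hy, Subgroup.orderOf_coe, Subgroup.orderOf_coe, hz]
  obtain ⟨hC, hQ⟩ := zpowers_facts y
  have hP : IsPGroup p (Subgroup.zpowers y) :=
    IsPGroup.of_card (n := 1) (by rw [Nat.card_zpowers, hyo, pow_one])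
  have hCH : Subgroup.centralizer ((Subgroup.zpowers y : Subgroup G) : Set G) ≤
      Subgroup.centralizer ({y} : Set G) := hC ▸ le_rfl
  have hHN : Subgroup.centralizer ({y} : Set G) ≤
      Subgroup.normalizer ((Subgroup.zpowers y : Subgroup G) : Set G) :=
    hC ▸ Subgroup.centralizer_le_normalizer _
  have hgy : g ∈ Subgroup.centralizer ({y} : Set G) := by
    have := Subgroup.mem_centralizer_singleton_iff.1 (hgD.1 (SetLike.coe_mem (z : D)))
    exact Subgroup.mem_centralizer_singleton_iff.2 this.symm
  have hDC : D ≤ Subgroup.centralizer ({y} : Set G) := fun q hq =>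
    Subgroup.mem_centralizer_singleton_iff.2
      (congrArg Subtype.val (Subgroup.mem_center_iff.1 z.2 ⟨q, hq⟩))
  obtain ⟨b, hb, hbg⟩ := exists_inducing_block_coeff hpM hP hQ hCH hHN hB (g := ⟨g, hgy⟩)
    (hC ▸ hgy) hg.2.1
  refine ⟨y, hyo, b, hb.1, fun h => hne ?_, ?_⟩
  · exact IsInducedBlock.unique (h ▸ hb)
      ((isInducedBlock_principal_iff hpM hP hC hQ BrauerPairs.isPBlock_principalBlock).2 rfl)
  obtain ⟨Db, hDb⟩ := exists_defectGroup (p := p) hb.1
  set D' := D.subgroupOf (Subgroup.centralizer ({y} : Set G)) with hD'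
  have hD'p : IsPGroup p D' :=
    (SylIn.isPGroup hgD).of_equiv (Subgroup.subgroupOfEquivOfLe hDC).symm
  obtain ⟨x, hx⟩ := (exists_support_centralizing_iff hpM hb.1 hDb hD'p).1 ⟨⟨g, hgy⟩, hbg, by
    rw [Subgroup.mem_centralizer_iff]
    intro q hq
    exact Subtype.ext (Subgroup.mem_centralizer_singleton_iff.1 (hgD.1 (Subgroup.mem_subgroupOf.1 hq)))⟩
  have h1 := Subgroup.card_le_of_le hx
  rw [card_map_conj, hD', Nat.card_congr (Subgroup.subgroupOfEquivOfLe hDC).toEquiv, hcard,
    card_defectGroup hpM hb.1 hDb] at h1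
  exact (Nat.pow_le_pow_iff_right hp.out.one_lt).1 h1

end Cfsg.Agent.BlockCount
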