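import Cfsg.Agent.Lib.BlockCount.PrincipalSum
import Cfsg.Agent.Lib.BlockCount.Involve
import Cfsg.Agent.Lib.Blocks.Core
import Cfsg.Agent.Lib.Char.Clifford

/-!
# A criterion for membership in the principal block

An irreducible character lies in the principal `p`-block if and only if its sum over the
`p`-regular elements is not zero.  The principal block of a group covers exactly the principal
block of each normal subgroup.
-/

set_option autoImplicit false
set_option linter.style.haveILetI false
set_option linter.unusedSectionVars false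

open scoped Classical ComplexConjugate

namespace Cfsg.Agent.BlockCount

universe u

variable {G : Type u} [Group G] [Fintype G] {p : ℕ} [Fact p.Prime] {M : Ideal Cfsg.AlgInt}

theorem mem_principalBlock_of_pregSum_ne_zero (hM : Cfsg.IsPModular p M)
    {χ : Cfsg.IrrCharacter G} (h : pregSum p (χ : G → ℂ) ≠ 0) :
    χ ∈ Cfsg.principalBlock M G := by
  haveI := hM.2.1
  by_contra hn
  have h0 := Blocks.regular_orthogonality (p := p) hM.2.2 (χ := Char.trivialChar G) (ψ := χ) hn
  apply h
  have h1 := congrArg (starRingEnd ℂ) h0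
  simp only [map_sum, map_mul, Complex.conj_conj, map_zero] at h1
  rw [← h1, pregSum]
  refine Finset.sum_congr ?_ fun x _ => ?_
  · ext x; simp [Cfsg.IsPRegular]
  · simp [Char.trivialChar]

theorem mem_principalBlock_iff (hM : Cfsg.IsPModular p M) (χ : Cfsg.IrrCharacter G) :
    χ ∈ Cfsg.principalBlock M G ↔ pregSum p (χ : G → ℂ) ≠ 0 :=
  ⟨pregSum_ne_zero hM, mem_principalBlock_of_pregSum_ne_zero hM⟩

/-- A weighted form of the congruence between a character of the principal block and the
principal character. -/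
theorem pregSum_mul_congr (hM : Cfsg.IsPModular p M) {χ : Cfsg.IrrCharacter G}
    (hχ : χ ∈ Cfsg.principalBlock M G) {u : G → ℂ} (hu : Cfsg.IsClassFunction G u)
    (hint : ∀ g, IsIntegral ℤ (u g)) :
    Cfsg.MemLocalIdeal M
      (pregSum p u - pregSum p (fun g => u g * (χ : G → ℂ) g) / (χ : G → ℂ) 1) := by
  haveI := hM.2.1
  have hc : Cfsg.IsClassFunction G (χ : G → ℂ) :=
    Char.IsCharacter.isClassFunction (Char.irr_isCharacter χ)
  have huc : Cfsg.IsClassFunction G (fun g => u g * (χ : G → ℂ) g) := fun g h => by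
    simp only [hu g h, hc g h]
  rw [pregSum_eq_sum_classes p hu, pregSum_eq_sum_classes p huc, Finset.sum_div,
    ← Finset.sum_sub_distrib]
  refine Blocks.MemLocalIdeal.sum _ fun C _ => ?_
  have h1 := localIdeal_mul_isIntegral (hχ (Quotient.out C)) (hint (Quotient.out C))
  simp only [Cfsg.centralChar] at h1
  convert h1 using 1
  have := Char.IsIrrCharacter.apply_one_ne_zero χ.2
  field_simp

variable (H : Subgroup G) [Fintype H]

theorem pregSum_subgroup (f : G → ℂ) :
    pregSum p (fun h : H => f h) = pregSum p (fun g => (if g ∈ H then 1 else 0) * f g) := by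
  simp only [pregSum, ite_mul, one_mul, zero_mul, ← Finset.sum_filter, Finset.filter_filter]
  refine Finset.sum_bij (fun h _ => (h : G)) (fun h hh => ?_) (fun a _ b _ hab => Subtype.ext hab)
    (fun g hg => ?_) (fun _ _ => rfl)
  · simpa [h.2] using hh
  · simp only [Finset.mem_filter, Finset.mem_univ, true_and] at hg
    exact ⟨⟨g, hg.2⟩, by simpa using hg.1, rfl⟩

theorem pregSum_indFun (θ : H → ℂ) :
    pregSum p (Cfsg.indFun H θ) = (H.index : ℂ) * pregSum p θ := by
  have hx : ∀ x : G, ∑ g ∈ Finset.univ.filter (fun g : G => ¬ p ∣ orderOf g),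
      Cfsg.extendByZero H θ (x⁻¹ * g * x) = pregSum p θ := by
    intro x
    have h1 : pregSum p θ =
        ∑ g ∈ Finset.univ.filter (fun g : G => ¬ p ∣ orderOf g), Cfsg.extendByZero H θ g := by
      have := pregSum_subgroup (p := p) H (Cfsg.extendByZero H θ)
      rw [show (fun h : H => Cfsg.extendByZero H θ h) = θ from
        funext fun h => Char.extendByZero_coe H θ h] at this
      rw [this, pregSum]
      refine Finset.sum_congr rfl fun g _ => ?_
      by_cases hg : g ∈ H
      · simp [hg]
      · simp [hg, Char.extendByZero_of_notMem H θ hg]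
    rw [h1]
    refine Finset.sum_equiv (MulAut.conj x⁻¹).toEquiv (fun g => ?_) (fun g _ => ?_)
    · simp only [Finset.mem_filter, Finset.mem_univ, true_and]
      exact not_congr (iff_of_eq (congrArg (p ∣ ·) (MulEquiv.orderOf_eq (MulAut.conj x⁻¹) g).symm))
    · congr 1
      simp
  have hH : (Nat.card H : ℂ) ≠ 0 := Nat.cast_ne_zero.2 Nat.card_pos.ne'
  rw [pregSum]
  simp only [Cfsg.indFun, ← Finset.mul_sum]
  rw [Finset.sum_comm, Finset.sum_congr rfl (fun x _ => hx x), Finset.sum_const, Finset.card_univ,
    nsmul_eq_mul, ← Nat.card_eq_fintype_card, ← H.card_mul_index, Nat.cast_mul]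
  field_simp

theorem pregSum_smul (c : ℂ) (f : G → ℂ) : pregSum p (c • f) = c * pregSum p f := by
  simp [pregSum, Finset.mul_sum]

theorem pregSum_finsetSum {ι : Type*} (s : Finset ι) (f : ι → G → ℂ) :
    pregSum p (∑ i ∈ s, f i) = ∑ i ∈ s, pregSum p (f i) := by
  simp only [pregSum, Finset.sum_apply]
  exact Finset.sum_comm

/-- The principal block of any subgroup is induced into the principal block. -/
theorem exists_principalBlock_over (hM : Cfsg.IsPModular p M) {θ : Cfsg.IrrCharacter H}
    (hθ : θ ∈ Cfsg.principalBlock M H) :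
    ∃ χ ∈ Cfsg.principalBlock M G,
      Cfsg.classInner (Cfsg.indFun H (θ : H → ℂ)) (χ : G → ℂ) ≠ 0 := by
  by_contra! h
  have h1 := Char.eq_sum_classInner_smul (Char.isClassFunction_indFun H (θ : H → ℂ))
  have h2 := congrArg (pregSum p) h1
  rw [pregSum_indFun, pregSum_finsetSum] at h2
  simp only [pregSum_smul] at h2
  rw [Finset.sum_eq_zero fun χ _ => ?_, mul_eq_zero] at h2
  · rcases h2 with h2 | h2
    · exact Subgroup.index_ne_zero_of_finite (by exact_mod_cast h2)
    · exact pregSum_ne_zero hM hθ h2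
  · by_cases hχ : χ ∈ Cfsg.principalBlock M G
    · rw [h χ hχ, zero_mul]
    · rw [mem_principalBlock_iff hM, not_not] at hχ
      rw [hχ, mul_zero]

/-- The sum over the p-regular elements of a normal subgroup of a character of the principal
block is not zero. -/
theorem pregSum_restrict_ne_zero (hM : Cfsg.IsPModular p M) [H.Normal]
    {χ : Cfsg.IrrCharacter G} (hχ : χ ∈ Cfsg.principalBlock M G) :
    pregSum p (fun h : H => (χ : G → ℂ) h) ≠ 0 := by
  haveI := hM.2.1
  intro h0
  rw [pregSum_subgroup] at h0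
  have hu : Cfsg.IsClassFunction G (fun g => if g ∈ H then (1 : ℂ) else 0) := fun a b => by
    have : b * a * b⁻¹ ∈ H ↔ a ∈ H :=
      ⟨fun h' => by simpa [mul_assoc] using ‹H.Normal›.conj_mem _ h' b⁻¹,
        fun h' => ‹H.Normal›.conj_mem a h' b⟩
    simp [this]
  have h1 := pregSum_mul_congr hM hχ hu fun g => by
    split_ifs <;> [exact isIntegral_one; exact isIntegral_zero]
  rw [h0, zero_div, sub_zero] at h1
  have h2 : pregSum p (fun g => if g ∈ H then (1 : ℂ) else 0) =
      (Nat.card {h : H // ¬ p ∣ orderOf h} : ℂ) := by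
    have := pregSum_subgroup (p := p) H (fun _ => (1 : ℂ))
    simp only [mul_one] at this
    rw [← this, pregSum, Finset.sum_const, nsmul_eq_mul, mul_one, Nat.card_eq_fintype_card,
      Fintype.card_subtype]
  rw [h2] at h1
  exact not_dvd_card_pRegular p (dvd_of_natCast_mem_localIdeal hM h1)

theorem pregSum_conjFun [H.Normal] (θ : H → ℂ) (g : G) :
    pregSum p (Char.conjFun H θ g) = pregSum p θ := by
  refine Finset.sum_equiv (MulAut.conjNormal g : MulAut H).toEquiv (fun h => ?_) (fun _ _ => rfl)
  simp only [Finset.mem_filter, Finset.mem_univ, true_and]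
  exact not_congr (iff_of_eq (congrArg (p ∣ ·)
    (MulEquiv.orderOf_eq (MulAut.conjNormal g : MulAut H) h).symm))

/-- The constituents on a normal subgroup of a character of the principal block belong to the
principal block. -/
theorem constituent_mem_principalBlock (hM : Cfsg.IsPModular p M) [H.Normal]
    {χ : Cfsg.IrrCharacter G} (hχ : χ ∈ Cfsg.principalBlock M G) {θ : Cfsg.IrrCharacter H}
    (hθ : Cfsg.classInner (Char.resFun H (χ : G → ℂ)) (θ : H → ℂ) ≠ 0) :
    θ ∈ Cfsg.principalBlock M H := by
  refine mem_principalBlock_of_pregSum_ne_zero hM fun h0 => pregSum_restrict_ne_zero H hM hχ ?_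
  rw [show (fun h : H => (χ : G → ℂ) h) = Char.resFun H (χ : G → ℂ) from rfl,
    Char.resFun_eq_smul_orbitSum H χ θ hθ, pregSum_smul, Char.orbitSum, pregSum_finsetSum,
    Finset.sum_eq_zero fun η hη => ?_, mul_zero]
  obtain ⟨g, rfl⟩ := (Char.mem_orbitFinset H).1 hη
  rw [Char.conjChar_coe, pregSum_conjFun, h0]

omit [Fact p.Prime] in
/-- Multiplicities between a group and a subgroup, as natural numbers, with both degree
equations. -/
theorem exists_multiplicity :
    ∃ k : Cfsg.IrrCharacter G → Cfsg.IrrCharacter H → ℕ,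
      (∀ (χ : Cfsg.IrrCharacter G) (θ : Cfsg.IrrCharacter H), Cfsg.classInner (Char.resFun H (χ : G → ℂ)) (θ : H → ℂ) = k χ θ) ∧
      (∀ (χ : Cfsg.IrrCharacter G) (θ : Cfsg.IrrCharacter H), Cfsg.classInner (Cfsg.indFun H (θ : H → ℂ)) (χ : G → ℂ) = k χ θ) ∧
      (∀ χ : Cfsg.IrrCharacter G,
        Cfsg.charDegree (χ : G → ℂ) = ∑ θ, k χ θ * Cfsg.charDegree (θ : H → ℂ)) ∧
      (∀ θ : Cfsg.IrrCharacter H,
        H.index * Cfsg.charDegree (θ : H → ℂ) = ∑ χ, k χ θ * Cfsg.charDegree (χ : G → ℂ)) := by
  choose k hk using fun (χ : Cfsg.IrrCharacter G) (θ : Cfsg.IrrCharacter H) =>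
    Char.IsCharacter.exists_nat_classInner
      (Char.IsCharacter.restrict (Char.irr_isCharacter χ) H) (Char.irr_isCharacter θ)
  have hk' : ∀ (χ : Cfsg.IrrCharacter G) (θ : Cfsg.IrrCharacter H), Cfsg.classInner (Cfsg.indFun H (θ : H → ℂ)) (χ : G → ℂ) = k χ θ := by
    intro χ θ
    rw [Char.classInner_indFun H _ (Char.IsCharacter.isClassFunction (Char.irr_isCharacter χ)),
      ← Char.conj_classInner, hk χ θ, map_natCast]
  refine ⟨k, hk, hk', fun χ => ?_, fun θ => ?_⟩
  · have h1 := congrFun (Char.eq_sum_classInner_smul (Char.IsCharacter.isClassFunction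
      (Char.IsCharacter.restrict (Char.irr_isCharacter χ) H))) 1
    simp only [Finset.sum_apply, Pi.smul_apply, smul_eq_mul, hk] at h1
    apply Nat.cast_injective (R := ℂ)
    push_cast
    rw [← apply_one_eq_charDegree, ← Subgroup.coe_one H, h1]
    exact Finset.sum_congr rfl fun θ _ => by rw [apply_one_eq_charDegree]
  · have h1 := congrFun (Char.eq_sum_classInner_smul
      (Char.isClassFunction_indFun H (θ : H → ℂ))) 1
    simp only [Finset.sum_apply, Pi.smul_apply, smul_eq_mul, hk', Char.indFun_apply_one] at h1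
    apply Nat.cast_injective (R := ℂ)
    push_cast
    rw [← apply_one_eq_charDegree, h1]
    exact Finset.sum_congr rfl fun χ _ => by rw [apply_one_eq_charDegree]

end Cfsg.Agent.BlockCount
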