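import Cfsg.Agent.Lib.BlockCount.Criterion

/-!
# Galois twists of irreducible characters

For an embedding `σ` of a cyclotomic field, `g ↦ χ (g ^ k)` is again irreducible: it satisfies the
functional equation of irreducible characters and has norm one.  Sums over stable sets of
characters are rational.
-/

set_option autoImplicit false
set_option linter.style.haveILetI false
set_option linter.unusedSectionVars false

open scoped Classical ComplexConjugate

namespace Cfsg.Agent.BlockCount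

universe u

/-- The cyclotomic field inside the complex numbers together with its embeddings. -/
theorem exists_cyclotomicField (N : ℕ) [NeZero N] :
    ∃ K : IntermediateField ℚ ℂ, FiniteDimensional ℚ K ∧ (∀ μ : ℂ, μ ^ N = 1 → μ ∈ K) ∧
      ∀ σ : K →ₐ[ℚ] ℂ, ∃ k : ℕ, k.Coprime N ∧
        ∀ (μ : K), (μ : ℂ) ^ N = 1 → σ μ = (μ : ℂ) ^ k := by
  obtain ⟨ζ, hζ⟩ : ∃ ζ : ℂ, IsPrimitiveRoot ζ N := ⟨_, Complex.isPrimitiveRoot_exp N (NeZero.ne N)⟩
  obtain ⟨K, hKdef⟩ : ∃ K : IntermediateField ℚ ℂ, K = IntermediateField.adjoin ℚ {ζ} := ⟨_, rfl⟩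
  have hζK : ζ ∈ K := hKdef ▸ IntermediateField.subset_adjoin ℚ {ζ} rfl
  let g : K := ⟨ζ, hζK⟩
  refine ⟨K, hKdef ▸
      IntermediateField.adjoin.finiteDimensional (hζ.isIntegral (NeZero.pos N)).tower_top,
    fun μ hμ => ?_, fun σ => ?_⟩
  · obtain ⟨a, -, rfl⟩ := hζ.eq_pow_of_pow_eq_one hμ
    exact pow_mem hζK a
  have hg : IsPrimitiveRoot g N :=
    IsPrimitiveRoot.of_map_of_injective (f := K.val) hζ K.val.injective
  obtain ⟨k, -, hk, hk'⟩ := hζ.isPrimitiveRoot_iff.1 (hg.map_of_injective σ.injective)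
  refine ⟨k, hk, fun μ hμ => ?_⟩
  obtain ⟨a, -, ha⟩ := hζ.eq_pow_of_pow_eq_one hμ
  have : μ = g ^ a := Subtype.ext (by simp [g, ha])
  rw [this, map_pow, show σ g = ζ ^ k from hk'.symm, ← pow_mul, mul_comm k, pow_mul]
  simp [g]

variable {G : Type u} [Group G] [Fintype G]

/-- Character values lie in the cyclotomic field, where the embeddings act through power maps. -/
theorem value_mem_field {K : IntermediateField ℚ ℂ}
    (hK : ∀ μ : ℂ, μ ^ Nat.card G = 1 → μ ∈ K) {χ : G → ℂ} (hχ : Cfsg.IsCharacter G χ) (g : G) :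
    χ g ∈ K := by
  obtain ⟨n, μ, -, hμ, hval⟩ := CharInt.exists_roots hχ g
  have h1 := hval 1
  simp only [pow_one] at h1
  rw [h1]
  refine sum_mem fun i _ => hK _ ?_
  obtain ⟨d, hd⟩ := orderOf_dvd_natCard g
  rw [hd, pow_mul, hμ i, one_pow]

theorem map_value_eq {K : IntermediateField ℚ ℂ}
    (hK : ∀ μ : ℂ, μ ^ Nat.card G = 1 → μ ∈ K) {σ : K →ₐ[ℚ] ℂ} {k : ℕ}
    (hσ : ∀ μ : K, (μ : ℂ) ^ Nat.card G = 1 → σ μ = (μ : ℂ) ^ k)
    {χ : G → ℂ} (hχ : Cfsg.IsCharacter G χ) (g : G) :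
    σ ⟨χ g, value_mem_field hK hχ g⟩ = χ (g ^ k) := by
  obtain ⟨n, μ, -, hμ, hval⟩ := CharInt.exists_roots hχ g
  have hN : ∀ i, μ i ^ Nat.card G = 1 := fun i => by
    obtain ⟨d, hd⟩ := orderOf_dvd_natCard g
    rw [hd, pow_mul, hμ i, one_pow]
  have h1 := hval 1
  simp only [pow_one] at h1
  rw [hval k, show (⟨χ g, value_mem_field hK hχ g⟩ : K) = ∑ i, ⟨μ i, hK _ (hN i)⟩ from
    Subtype.ext (by push_cast; exact h1), map_sum]
  exact Finset.sum_congr rfl fun i _ => hσ _ (hN i)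

/-- The twist of an irreducible character by an embedding of the cyclotomic field. -/
theorem isIrrCharacter_powTwist {K : IntermediateField ℚ ℂ}
    (hK : ∀ μ : ℂ, μ ^ Nat.card G = 1 → μ ∈ K) {σ : K →ₐ[ℚ] ℂ} {k : ℕ}
    (hk : k.Coprime (Nat.card G))
    (hσ : ∀ μ : K, (μ : ℂ) ^ Nat.card G = 1 → σ μ = (μ : ℂ) ^ k)
    (χ : Cfsg.IrrCharacter G) : Cfsg.IsIrrCharacter G (fun g => (χ : G → ℂ) (g ^ k)) := by
  set f : G → ℂ := fun g => (χ : G → ℂ) (g ^ k) with hf
  have hc := Char.irr_isCharacter χ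
  have hfc : Cfsg.IsClassFunction G f := fun g h => by
    simp only [hf, conj_pow]
    exact Char.IsCharacter.isClassFunction hc _ _
  have hf1 : f 1 = (χ : G → ℂ) 1 := by simp [hf]
  have hf10 : f 1 ≠ 0 := hf1 ▸ Char.IsIrrCharacter.apply_one_ne_zero χ.2
  -- the functional equation
  have heq : ∀ a b : G, ∑ x : G, f (a * (x * b * x⁻¹)) = (Nat.card G : ℂ) * f a * f b / f 1 := by
    intro a b
    let w : G → K := fun g => ⟨(χ : G → ℂ) g, value_mem_field hK hc g⟩
    have hw : (∑ x : G, w (a * (x * b * x⁻¹))) * w 1 = (Nat.card G : K) * w a * w b :=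
      Subtype.ext (by
        push_cast
        show (∑ x : G, (χ : G → ℂ) (a * (x * b * x⁻¹))) * (χ : G → ℂ) 1 = _
        rw [mul_eq_sum_conj χ.2, div_mul_cancel₀ _ (Char.IsIrrCharacter.apply_one_ne_zero χ.2)])
    have h2 := congrArg σ hw
    simp only [map_mul, map_sum, map_natCast, w, map_value_eq hK hσ hc] at h2
    rw [eq_div_iff hf10]
    exact h2
  set c : Cfsg.IrrCharacter G → ℂ := fun ψ => Cfsg.classInner f (ψ : G → ℂ) with hcdef
  have hexp : f = ∑ ψ, c ψ • (ψ : G → ℂ) := Char.eq_sum_classInner_smul hfc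
  have hprop : ∀ (ψ : Cfsg.IrrCharacter G) (b : G),
      c ψ * ((ψ : G → ℂ) b / (ψ : G → ℂ) 1 - f b / f 1) = 0 := by
    intro ψ b
    have hlin := Fintype.linearIndependent_iff.1 Char.linearIndependent_irr
      (fun φ : Cfsg.IrrCharacter G => c φ * ((φ : G → ℂ) b / (φ : G → ℂ) 1 - f b / f 1))
    refine hlin ?_ ψ
    funext a
    simp only [Finset.sum_apply, Pi.smul_apply, smul_eq_mul, Pi.zero_apply]
    have hG : (Nat.card G : ℂ) ≠ 0 := Char.card_ne_zero
    have e1 : ∀ z : G, f z = ∑ φ, c φ * (φ : G → ℂ) z := fun z => by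
      conv_lhs => rw [hexp]
      simp
    have e2 : ∑ x : G, f (a * (x * b * x⁻¹)) = (Nat.card G : ℂ) *
        ∑ φ : Cfsg.IrrCharacter G, c φ * ((φ : G → ℂ) b / (φ : G → ℂ) 1) * (φ : G → ℂ) a := by
      simp only [e1]
      rw [Finset.sum_comm, Finset.mul_sum]
      refine Finset.sum_congr rfl fun φ _ => ?_
      rw [← Finset.mul_sum, mul_eq_sum_conj φ.2]
      ring
    rw [heq a b] at e2
    have e3 : ∑ φ : Cfsg.IrrCharacter G, c φ * ((φ : G → ℂ) b / (φ : G → ℂ) 1) * (φ : G → ℂ) a =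
        f a * (f b / f 1) := by
      refine mul_left_cancel₀ hG (e2.symm.trans ?_)
      ring
    calc ∑ φ : Cfsg.IrrCharacter G,
          c φ * ((φ : G → ℂ) b / (φ : G → ℂ) 1 - f b / f 1) * (φ : G → ℂ) a
        = ∑ φ : Cfsg.IrrCharacter G, c φ * ((φ : G → ℂ) b / (φ : G → ℂ) 1) * (φ : G → ℂ) a -
            (∑ φ, c φ * (φ : G → ℂ) a) * (f b / f 1) := by
          rw [Finset.sum_mul, ← Finset.sum_sub_distrib]
          exact Finset.sum_congr rfl fun φ _ => by ring
      _ = 0 := by rw [e3, ← e1 a, sub_self]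
  obtain ⟨ψ, hψ⟩ : ∃ ψ, c ψ ≠ 0 := by
    by_contra! h
    refine hf10 ?_
    rw [hexp]
    simp [h]
  have hfψ : f = ((f 1 / (ψ : G → ℂ) 1)) • (ψ : G → ℂ) := by
    funext b
    have h1 := sub_eq_zero.1 ((mul_eq_zero.1 (hprop ψ b)).resolve_left hψ)
    rw [Pi.smul_apply, smul_eq_mul, div_mul_eq_mul_div, mul_div_assoc, h1]
    field_simp
  have hnorm : Cfsg.classInner f f = 1 := by
    rw [← Char.classInner_irr_self χ.2]
    simp only [Cfsg.classInner, hf]
    congr 1
    exact Fintype.sum_equiv (powCoprime hk.symm) _ _ fun g => rfl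
  rw [hfψ, Char.classInner_smul_left, Char.classInner_smul_right, Char.classInner_irr_self ψ.2,
    mul_one, hf1, apply_one_eq_charDegree χ, apply_one_eq_charDegree ψ, map_div₀, map_natCast,
    map_natCast] at hnorm
  have hdψ : (Cfsg.charDegree (ψ : G → ℂ) : ℂ) ≠ 0 := by
    rw [← apply_one_eq_charDegree]; exact Char.IsIrrCharacter.apply_one_ne_zero ψ.2
  field_simp at hnorm
  have hd : Cfsg.charDegree (χ : G → ℂ) = Cfsg.charDegree (ψ : G → ℂ) := by
    have h2 : Cfsg.charDegree (χ : G → ℂ) ^ 2 = Cfsg.charDegree (ψ : G → ℂ) ^ 2 := by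
      exact_mod_cast hnorm
    exact pow_left_injective two_ne_zero h2
  rw [hfψ, hf1, apply_one_eq_charDegree χ, apply_one_eq_charDegree ψ, hd, div_self hdψ, one_smul]
  exact ψ.2

/-- The twist does not change the sum over the p-regular elements. -/
theorem pregSum_powTwist (p : ℕ) {k : ℕ} (hk : k.Coprime (Nat.card G)) (f : G → ℂ) :
    pregSum p (fun g => f (g ^ k)) = pregSum p f := by
  refine Finset.sum_equiv (powCoprime hk.symm) (fun g => ?_) (fun _ _ => rfl)
  simp only [Finset.mem_filter, Finset.mem_univ, true_and, powCoprime_apply]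
  rw [Nat.Coprime.orderOf_pow (Nat.Coprime.coprime_dvd_left (orderOf_dvd_natCard g) hk.symm)]

/-- A set of irreducible characters stable under the power maps has rational integral column
norms. -/
theorem exists_int_sum_normSq (S : Finset (Cfsg.IrrCharacter G))
    (hS : ∀ k : ℕ, k.Coprime (Nat.card G) → ∀ χ ∈ S, ∀ ψ : Cfsg.IrrCharacter G,
      ((ψ : G → ℂ) = fun g => (χ : G → ℂ) (g ^ k)) → ψ ∈ S) (x : G) :
    ∃ z : ℤ, ∑ χ ∈ S, Complex.normSq ((χ : G → ℂ) x) = z := by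
  haveI : NeZero (Nat.card G) := ⟨Nat.card_pos.ne'⟩
  obtain ⟨K, hfin, hK, hemb⟩ := exists_cyclotomicField (Nat.card G)
  let v : Cfsg.IrrCharacter G → G → K := fun χ g =>
    ⟨(χ : G → ℂ) g, value_mem_field hK (Char.irr_isCharacter χ) g⟩
  set L : K := ∑ χ ∈ S, v χ x * v χ x⁻¹ with hL
  have hLC : (L : ℂ) = ∑ χ ∈ S, (χ : G → ℂ) x * (χ : G → ℂ) x⁻¹ := by
    simp [hL, v]
  have hfix : ∀ σ : K →ₐ[ℚ] ℂ, σ L = L := by
    intro σ
    obtain ⟨k, hk, hσ⟩ := hemb σ
    rw [hLC]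
    simp only [hL, map_sum, map_mul, v, map_value_eq hK hσ (Char.irr_isCharacter _)]
    let tw : Cfsg.IrrCharacter G → Cfsg.IrrCharacter G := fun χ =>
      ⟨fun g => (χ : G → ℂ) (g ^ k), isIrrCharacter_powTwist hK hk hσ χ⟩
    have hinj : Function.Injective tw := fun a b h => Subtype.ext (funext fun g => by
      obtain ⟨g', rfl⟩ := (powCoprime hk.symm).surjective g
      exact congrFun (congrArg Subtype.val h) g')
    have himg : S.image tw = S :=
      Finset.eq_of_subset_of_card_le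
        (Finset.image_subset_iff.2 fun χ hχ => hS k hk χ hχ _ rfl)
        (Finset.card_image_of_injective S hinj).ge
    conv_rhs => rw [← himg, Finset.sum_image hinj.injOn]
  have htr := trace_eq_sum_embeddings ℂ (K := ℚ) (L := K) (x := L)
  rw [Finset.sum_congr rfl fun σ _ => hfix σ, Finset.sum_const, nsmul_eq_mul] at htr
  set n := (Finset.univ : Finset (K →ₐ[ℚ] ℂ)).card with hn
  have hn0 : n ≠ 0 := Finset.card_ne_zero.2 ⟨K.val, Finset.mem_univ _⟩
  have hrat : (L : ℂ) = algebraMap ℚ ℂ (Algebra.trace ℚ K L / n) := by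
    rw [map_div₀, map_natCast, htr, mul_div_cancel_left₀ _ (Nat.cast_ne_zero.2 hn0)]
  have hint : IsIntegral ℤ (L : ℂ) := by
    rw [hLC]
    exact IsIntegral.sum _ fun χ _ => (CharInt.isIntegral_char (Char.irr_isCharacter χ) x).mul
      (CharInt.isIntegral_char (Char.irr_isCharacter χ) x⁻¹)
  rw [hrat, isIntegral_algebraMap_iff (algebraMap ℚ ℂ).injective,
    IsIntegrallyClosed.isIntegral_iff] at hint
  obtain ⟨z, hz⟩ := hint
  refine ⟨z, ?_⟩
  apply Complex.ofReal_injective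
  push_cast
  have h1 : (L : ℂ) = (z : ℂ) := by rw [hrat, ← hz]; simp
  rw [← h1, hLC]
  refine Finset.sum_congr rfl fun χ _ => ?_
  rw [← Complex.mul_conj, Char.IsCharacter.conj_apply (Char.irr_isCharacter χ)]

end Cfsg.Agent.BlockCount
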