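import Cfsg.Agent.Lib.BlockCount.Involve

/-!
# Inverted Sylow subgroups

Let `p` be odd, all centralisers of non-identity `p`-elements of odd order and assume that there is
no character of `p`-defect zero.  Then every involution has a conjugate inverting a Sylow
`p`-subgroup, which is hence abelian.
-/

set_option autoImplicit false

open scoped Classical ComplexConjugate

namespace Cfsg.Agent.BlockCount

universe u

variable {G : Type u} [Group G] [Fintype G]

/-- An involution times an element of odd order inverted by it is conjugate to the involution. -/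
theorem exists_conj_eq_of_coset {H : Subgroup G} (hH : Odd (Nat.card H)) {u c : G}
    (hu : u * u = 1) (hc : c ∈ H) (huc : u * c * (u * c) = 1) :
    ∃ d ∈ H, d * u * d⁻¹ = u * c := by
  obtain ⟨k, hk⟩ : ∃ k, orderOf c = 2 * k + 1 := by
    have h1 : Odd (orderOf c) := hH.of_dvd_nat (H.orderOf_dvd_natCard hc)
    exact h1
  have hinv : u * c * u⁻¹ = c⁻¹ := by
    have h2 : u⁻¹ = u := inv_eq_of_mul_eq_one_right hu
    rw [h2]
    exact eq_inv_of_mul_eq_one_left (by rw [show u * c * u * c = u * c * (u * c) by group]; exact huc)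
  set d := c ^ (k + 1) with hd
  have hd2 : d * d = c := by
    rw [hd, ← pow_add, show k + 1 + (k + 1) = orderOf c + 1 by omega, pow_succ, pow_orderOf_eq_one,
      one_mul]
  refine ⟨d⁻¹, H.inv_mem (H.pow_mem hc _), ?_⟩
  have h3 : u * d * u⁻¹ = d⁻¹ := by rw [hd, ← conj_pow, hinv, inv_pow]
  rw [← hd2]
  calc d⁻¹ * u * d⁻¹⁻¹ = d⁻¹ * u * d := by group
    _ = (u * d * u⁻¹) * u * d := by rw [h3]
    _ = u * (d * d) := by group

/-- A sum over the elements, grouped by classes. -/
theorem sum_eq_sum_index_mul {H : Type*} [Group H] [Fintype H] [Fintype (ConjClasses H)]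
    (f : H → ℕ) (hf : ∀ g h : H, f (h * g * h⁻¹) = f g) :
    ∑ g : H, f g = ∑ C : ConjClasses H,
      (Subgroup.centralizer ({Quotient.out C} : Set H)).index * f (Quotient.out C) := by
  rw [← Finset.sum_fiberwise (s := Finset.univ) (g := ConjClasses.mk) (f := f)]
  refine Finset.sum_congr rfl fun C _ => ?_
  have hval : ∀ b ∈ Finset.univ.filter (fun b : H => ConjClasses.mk b = C),
      f b = f (Quotient.out C) := by
    intro b hb
    obtain ⟨c, hc⟩ := isConj_iff.mp (ConjClasses.mk_eq_mk_iff_isConj.mp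
      ((Finset.mem_filter.mp hb).2.trans (Quotient.out_eq C).symm))
    rw [← hc, hf]
  rw [Finset.sum_congr rfl hval, Finset.sum_const, smul_eq_mul]
  congr 1
  rw [card_carrier_eq_index, show ConjClasses.mk (Quotient.out C) = C from Quotient.out_eq C,
    Nat.card_eq_fintype_card, ← Set.toFinset_card]
  congr 1
  ext b
  simp [ConjClasses.mem_carrier_iff_mk_eq]

set_option maxHeartbeats 1000000 in
/-- Some element of a given Sylow subgroup is inverted by a conjugate of `x` and fully centralised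
in that Sylow subgroup. -/
theorem exists_inverted_sylow_centralized {p : ℕ} [Fact p.Prime] (x : G) (hx : x * x = 1)
    (hCx : ¬ p ∣ Nat.card (Subgroup.centralizer ({x} : Set G))) (hpG : p ∣ Nat.card G)
    (hnd : ∀ χ : Cfsg.IrrCharacter G,
      (Cfsg.charDegree (χ : G → ℂ)).factorization p ≠ (Nat.card G).factorization p)
    (P : Sylow p G) :
    ∃ (y : (P : Subgroup G)) (u : G), y ≠ 1 ∧ IsConj x u ∧ u * (y : G) * u⁻¹ = (y : G)⁻¹ ∧
      (Nat.card (Subgroup.centralizer ({(y : G)} : Set G))).factorization p ≤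
        (Nat.card (Subgroup.centralizer ({y} : Set (P : Subgroup G)))).factorization p := by
  have hp : p.Prime := Fact.out
  set a := (Nat.card G).factorization p with ha
  have ha1 : 0 < a := hp.factorization_pos_of_dvd Nat.card_pos.ne' hpG
  have hdpos : ∀ χ : Cfsg.IrrCharacter G, Cfsg.charDegree (χ : G → ℂ) ≠ 0 := fun χ => by
    rw [charDegree_eq_degree]; exact (Char.degree_pos χ).ne'
  have he : ∀ χ : Cfsg.IrrCharacter G,
      (Cfsg.charDegree (χ : G → ℂ)).factorization p ≤ a - 1 := by
    intro χ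
    have h1 : (Cfsg.charDegree (χ : G → ℂ)).factorization p ≤ a :=
      (Nat.factorization_le_iff_dvd (hdpos χ) Nat.card_pos.ne').mpr (charDegree_dvd_card χ) p
    have h2 := hnd χ
    omega
  set R := ∏ χ : Cfsg.IrrCharacter G,
    Cfsg.charDegree (χ : G → ℂ) / p ^ (Cfsg.charDegree (χ : G → ℂ)).factorization p with hR
  have hR0 : R ≠ 0 :=
    Finset.prod_ne_zero_iff.mpr fun χ _ => (Nat.ordCompl_pos p (hdpos χ)).ne'
  have hRp : ¬ p ∣ R := by
    intro h
    obtain ⟨χ, -, hχ⟩ := (Prime.dvd_finsetProd_iff hp.prime _).mp h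
    exact Nat.not_dvd_ordCompl hp (hdpos χ) hχ
  set L := p ^ (a - 1) * R with hL
  have hdvd : ∀ χ : Cfsg.IrrCharacter G, Cfsg.charDegree (χ : G → ℂ) ∣ L := by
    intro χ
    rw [← Nat.ordProj_mul_ordCompl_eq_self (Cfsg.charDegree (χ : G → ℂ)) p, hL, hR]
    exact Nat.mul_dvd_mul (pow_dvd_pow p (he χ))
      (Finset.dvd_prod_of_mem (fun ψ : Cfsg.IrrCharacter G =>
        Cfsg.charDegree (ψ : G → ℂ) / p ^ (Cfsg.charDegree (ψ : G → ℂ)).factorization p)
        (Finset.mem_univ χ))
  -- the function on `P` and its divisibility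
  set f : ↥(P : Subgroup G) → ℕ := fun y => Nat.card (Subgroup.centralizer ({(y : G)} : Set G)) *
      Nat.card {g : G // IsConj (x * (g * x * g⁻¹)) (y : G)} with hf
  clear_value f
  have hm : ∀ χ : Cfsg.IrrCharacter G, ∃ m : ℕ,
      ∑ y : (P : Subgroup G), conj ((χ : G → ℂ) y) = (Nat.card (P : Subgroup G) : ℂ) * m := by
    intro χ
    obtain ⟨m, hm⟩ := ((isRepChar_of_isCharacter (Char.irr_isCharacter χ)).comp
      (P : Subgroup G).subtype).sum_eq
    refine ⟨m, ?_⟩
    rw [← map_sum, show ∑ y : (P : Subgroup G), (χ : G → ℂ) y = _ from hm]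
    simp
  choose m hm using hm
  set S := ∑ χ : Cfsg.IrrCharacter G,
    (χ : G → ℂ) x * (χ : G → ℂ) x * ((L / Cfsg.charDegree (χ : G → ℂ) : ℕ) : ℂ) * (m χ : ℂ) with hS
  have hSint : IsIntegral ℤ S := by
    refine IsIntegral.sum _ fun χ _ => ?_
    have hr := isRepChar_of_isCharacter (Char.irr_isCharacter χ)
    exact (((hr.isIntegral x).mul (hr.isIntegral x)).mul (isIntegral_algebraMap
      (R := ℤ) (x := ((L / Cfsg.charDegree (χ : G → ℂ) : ℕ) : ℤ)))).mul
      (isIntegral_algebraMap (R := ℤ) (x := (m χ : ℤ)))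
  have hS2 : (((Nat.card G : ℤ) * (Nat.card (P : Subgroup G) : ℤ) : ℤ) : ℂ) * S =
      (((L : ℤ) * ((∑ y : (P : Subgroup G), f y : ℕ) : ℤ) : ℤ) : ℂ) := by
    push_cast
    have h1 : ∀ y : (P : Subgroup G), ((f y : ℕ) : ℂ) = (Nat.card G : ℂ) *
        ∑ χ : Cfsg.IrrCharacter G, (χ : G → ℂ) x * (χ : G → ℂ) x * conj ((χ : G → ℂ) y) /
          (χ : G → ℂ) 1 := by
      intro y
      rw [sum_irr_mul_mul_conj_div, mul_div_cancel₀ _ Char.card_ne_zero, hf]
      push_cast
      rfl
    rw [Finset.sum_congr rfl (fun y _ => h1 y), ← Finset.mul_sum, Finset.sum_comm, hS,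
      Finset.mul_sum, Finset.mul_sum, Finset.mul_sum]
    refine Finset.sum_congr rfl fun χ _ => ?_
    rw [← Finset.sum_div, ← Finset.mul_sum, hm χ,
      Nat.cast_div (hdvd χ) (Nat.cast_ne_zero.mpr (hdpos χ)), ← apply_one_eq_charDegree]
    ring
  obtain ⟨s, hs⟩ := exists_int_of_isIntegral hSint
    (mul_ne_zero (Int.natCast_ne_zero.mpr Nat.card_pos.ne')
      (Int.natCast_ne_zero.mpr Nat.card_pos.ne')) hS2
  have hdvd' : p ^ (a + a) ∣ L * ∑ y : (P : Subgroup G), f y := by
    refine dvd_trans (pow_add p a a ▸ Nat.mul_dvd_mul (Nat.ordProj_dvd (Nat.card G) p)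
      (dvd_of_eq P.card_eq_multiplicity.symm)) ?_
    rw [← Int.natCast_dvd_natCast]
    refine ⟨s, ?_⟩
    rw [hs] at hS2
    push_cast
    exact_mod_cast hS2.symm
  have hsum : p ^ (a + 1) ∣ ∑ y : (P : Subgroup G), f y := by
    rw [hL, show a + a = (a - 1) + (a + 1) by omega, pow_add, mul_assoc] at hdvd'
    exact (Nat.Coprime.pow_left _ (hp.coprime_iff_not_dvd.mpr hRp)).dvd_of_dvd_mul_left
      (Nat.dvd_of_mul_dvd_mul_left (pow_pos hp.pos _) hdvd')
  -- split along the classes of `P`
  by_contra hcon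
  push Not at hcon
  have hfclass : ∀ g h : (P : Subgroup G), f (h * g * h⁻¹) = f g := by
    intro y h
    simp only [hf]
    congr 1
    · rw [Subgroup.coe_mul, Subgroup.coe_mul, Subgroup.coe_inv]
      refine Nat.card_congr ((MulAut.conj (h : G)).symm.toEquiv.subtypeEquiv fun g => ?_)
      simp only [Subgroup.mem_centralizer_singleton_iff]
      constructor
      · intro e
        have := congrArg (fun t => (h : G)⁻¹ * t * h) e
        simpa [mul_assoc] using this
      · intro e
        have := congrArg (fun t => (h : G) * t * (h : G)⁻¹) e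
        simpa [mul_assoc] using this
    · refine Nat.card_congr (Equiv.subtypeEquivRight fun g => ?_)
      have h1 : IsConj (y : G) ((h * y * h⁻¹ : (P : Subgroup G)) : G) :=
        isConj_iff.mpr ⟨(h : G), rfl⟩
      exact ⟨fun e => e.trans h1.symm, fun e => e.trans h1⟩
  haveI : Finite (ConjClasses (P : Subgroup G)) :=
    Finite.of_surjective _ ConjClasses.mk_surjective
  haveI := Fintype.ofFinite (ConjClasses (P : Subgroup G))
  have hsumc' := sum_eq_sum_index_mul f hfclass
  set T := (Finset.univ : Finset (ConjClasses (P : Subgroup G))) with hT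
  have hC1 : ConjClasses.mk (1 : (P : Subgroup G)) ∈ T := Finset.mem_univ _
  have hout1 : Quotient.out (ConjClasses.mk (1 : (P : Subgroup G))) = 1 :=
    isConj_one_right.mp (ConjClasses.mk_eq_mk_iff_isConj.mp (Quotient.out_eq _)).symm
  have hrest : ∀ C ∈ T.erase (ConjClasses.mk 1), p ^ (a + 1) ∣
      (Subgroup.centralizer ({Quotient.out C} : Set (P : Subgroup G))).index *
        f (Quotient.out C) := by
    intro C hC
    set y := Quotient.out C with hy
    have hy1 : y ≠ 1 := fun h => (Finset.mem_erase.mp hC).1 (by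
      rw [← h, hy]; exact (Quotient.out_eq C).symm)
    rcases isEmpty_or_nonempty {g : G // IsConj (x * (g * x * g⁻¹)) (y : G)} with he' | ⟨⟨g, hg⟩⟩
    · simp only [hf]
      rw [@Nat.card_of_isEmpty _ he', mul_zero, mul_zero]
      exact dvd_zero _
    obtain ⟨d, hd⟩ := isConj_iff.mp hg
    have hlt := hcon y (d * x * d⁻¹) hy1 (isConj_iff.mpr ⟨d, rfl⟩) (by
      have hxinv : x⁻¹ = x := inv_eq_of_mul_eq_one_right hx
      rw [← hd, show d * x * d⁻¹ * (d * (x * (g * x * g⁻¹)) * d⁻¹) * (d * x * d⁻¹)⁻¹ =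
        d * (x * x) * (g * x * g⁻¹) * x⁻¹ * d⁻¹ by group, hx, mul_one]
      conv_lhs => rw [show g * x * g⁻¹ = g * x⁻¹ * g⁻¹ by rw [hxinv]]
      group)
    set cP := Nat.card (Subgroup.centralizer ({y} : Set (P : Subgroup G))) with hcP
    have hmul : cP * (Subgroup.centralizer ({y} : Set (P : Subgroup G))).index = p ^ a := by
      rw [hcP, Subgroup.card_mul_index, P.card_eq_multiplicity]
    obtain ⟨i, hi, hci⟩ := (Nat.dvd_prime_pow hp).mp (Dvd.intro _ hmul)
    rw [hci, hp.factorization_pow, Finsupp.single_eq_same] at hlt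
    have hidx : (Subgroup.centralizer ({y} : Set (P : Subgroup G))).index = p ^ (a - i) := by
      refine mul_left_cancel₀ (pow_ne_zero i hp.ne_zero) ?_
      rw [← pow_add, show i + (a - i) = a by omega, ← hci, hmul]
    have h1 : p ^ (a - i) * p ^ (i + 1) ∣
        (Subgroup.centralizer ({y} : Set (P : Subgroup G))).index * f y := by
      simp only [hf]
      rw [hidx]
      refine Nat.mul_dvd_mul dvd_rfl (dvd_mul_of_dvd_left ?_ _)
      exact (pow_dvd_pow p (by omega)).trans (Nat.ordProj_dvd _ p)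
    rwa [← pow_add, show a - i + (i + 1) = a + 1 by omega] at h1
  rw [hsumc', ← Finset.add_sum_erase _ _ hC1, ← Nat.dvd_add_iff_left (Finset.dvd_sum hrest),
    hout1] at hsum
  have hidx1 : (Subgroup.centralizer ({1} : Set (P : Subgroup G))).index = 1 := by
    rw [Subgroup.index_eq_one]
    ext g
    simp [Subgroup.mem_centralizer_singleton_iff]
  have hf1 : f 1 = Nat.card G * Nat.card (Subgroup.centralizer ({x} : Set G)) := by
    have hc : Subgroup.centralizer ({((1 : (P : Subgroup G)) : G)} : Set G) = ⊤ := by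
      ext g; simp [Subgroup.mem_centralizer_singleton_iff]
    simp only [hf]
    rw [hc, Subgroup.card_top]
    congr 1
    refine Nat.card_congr (Equiv.subtypeEquivRight fun g => ?_)
    rw [Subgroup.coe_one, Subgroup.mem_centralizer_singleton_iff, isConj_one_left,
      mul_eq_one_iff_inv_eq, inv_eq_of_mul_eq_one_right hx, eq_mul_inv_iff_mul_eq]
    exact eq_comm
  rw [hidx1, one_mul, hf1] at hsum
  have := (hp.pow_dvd_iff_le_factorization (mul_ne_zero Nat.card_pos.ne' Nat.card_pos.ne')).mp hsum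
  rw [Nat.factorization_mul Nat.card_pos.ne' Nat.card_pos.ne', Finsupp.add_apply,
    Nat.factorization_eq_zero_of_not_dvd hCx] at this
  omega

set_option maxHeartbeats 1000000 in
/-- Every involution has a conjugate inverting an abelian Sylow `p`-subgroup. -/
theorem exists_inverted_sylow {p : ℕ} [Fact p.Prime] (hp2 : p ≠ 2) (hpG : p ∣ Nat.card G)
    (hC : ∀ g : G, g ≠ 1 → (∃ k : ℕ, orderOf g = p ^ k) →
      Odd (Nat.card (Subgroup.centralizer ({g} : Set G))))
    (hnd : ∀ χ : Cfsg.IrrCharacter G,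
      (Cfsg.charDegree (χ : G → ℂ)).factorization p ≠ (Nat.card G).factorization p)
    (x : G) (hx : orderOf x = 2) :
    ∃ (Q : Sylow p G) (u : G), IsConj x u ∧ (∀ q ∈ (Q : Subgroup G), u * q * u⁻¹ = q⁻¹) ∧
      ∀ q ∈ (Q : Subgroup G), ∀ r ∈ (Q : Subgroup G), q * r = r * q := by
  have hp : p.Prime := Fact.out
  have hCp : ∀ v : G, orderOf v = 2 → ¬ p ∣ Nat.card (Subgroup.centralizer ({v} : Set G)) := by
    intro v hv hd
    obtain ⟨⟨w, hw⟩, hword⟩ := exists_prime_orderOf_dvd_card' p hd
    rw [Subgroup.orderOf_mk] at hword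
    refine Nat.not_even_iff_odd.mpr (hC w (fun h => hp.one_lt.ne (by rw [← hword, h, orderOf_one]))
      ⟨1, by rw [hword, pow_one]⟩) (even_iff_two_dvd.mpr (hv ▸ Subgroup.orderOf_dvd_natCard _ ?_))
    rw [Subgroup.mem_centralizer_singleton_iff] at hw ⊢
    exact hw.symm
  obtain ⟨P⟩ : Nonempty (Sylow p G) := inferInstance
  have hx2 : x * x = 1 := by rw [← pow_two, ← hx, pow_orderOf_eq_one]
  obtain ⟨⟨y, hyP⟩, u, hy1, hxu, huy, hfull⟩ :=
    exists_inverted_sylow_centralized x hx2 (hCp x hx) hpG hnd P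
  simp only [ne_eq, Subgroup.mk_eq_one] at hy1
  obtain ⟨ky, hky⟩ := (IsPGroup.iff_orderOf.mp P.2) ⟨y, hyP⟩
  rw [Subgroup.orderOf_mk] at hky
  set K := Subgroup.centralizer ({y} : Set G) with hK
  have hKodd : Odd (Nat.card K) := hC y hy1 ⟨ky, hky⟩
  have hu2 : orderOf u = 2 := by
    obtain ⟨c, hc⟩ := isConj_iff.mp hxu
    rw [← hc, show c * x * c⁻¹ = MulAut.conj c x from rfl, MulEquiv.orderOf_eq, hx]
  have huu : u * u = 1 := by rw [← pow_two, ← hu2, pow_orderOf_eq_one]
  have hu' : u⁻¹ = u := inv_eq_of_mul_eq_one_right huu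
  -- `u` normalises `K`
  have huK : ∀ c ∈ K, u * c * u⁻¹ ∈ K := by
    intro c hc
    rw [hK, Subgroup.mem_centralizer_singleton_iff] at hc ⊢
    have h1 : y = u * y⁻¹ * u⁻¹ := by rw [← conj_inv, huy, inv_inv]
    have h3 : c * y⁻¹ = y⁻¹ * c := (Commute.inv_right (show Commute c y from hc)).eq
    rw [h1]
    calc u * c * u⁻¹ * (u * y⁻¹ * u⁻¹) = u * (c * y⁻¹) * u⁻¹ := by group
      _ = u * y⁻¹ * u⁻¹ * (u * c * u⁻¹) := by rw [h3]; group
  let φ : K ≃* K :=
    { toFun := fun c => ⟨u * c * u⁻¹, huK c c.2⟩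
      invFun := fun c => ⟨u * c * u⁻¹, huK c c.2⟩
      left_inv := fun c => Subtype.ext (by
        show u * (u * (c : G) * u⁻¹) * u⁻¹ = c
        rw [hu', show u * (u * (c : G) * u) * u = u * u * c * (u * u) by group, huu]; simp)
      right_inv := fun c => Subtype.ext (by
        show u * (u * (c : G) * u⁻¹) * u⁻¹ = c
        rw [hu', show u * (u * (c : G) * u) * u = u * u * c * (u * u) by group, huu]; simp)
      map_mul' := fun c d => Subtype.ext (by simp [mul_assoc]) }
  have hφφ : ∀ c, φ (φ c) = c := φ.left_inv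
  -- a Sylow subgroup of `K` fixed by `u`
  obtain ⟨S, hS⟩ : ∃ S : Sylow p K, ∀ c ∈ (S : Subgroup K), φ c ∈ (S : Subgroup K) := by
    have hmap : ∀ S : Sylow p K, Nat.card ((S : Subgroup K).map φ.toMonoidHom) =
        p ^ (Nat.card K).factorization p := fun S => by
      rw [Subgroup.card_map_of_injective φ.injective, S.card_eq_multiplicity]
    let τ : Sylow p K → Sylow p K := fun S => Sylow.ofCard _ (hmap S)
    have hτ : ∀ S, τ (τ S) = S := by
      intro S
      refine Sylow.ext ?_
      ext c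
      simp only [τ, Sylow.coe_ofCard, Subgroup.mem_map, MulEquiv.coe_toMonoidHom]
      constructor
      · rintro ⟨d, ⟨e, he, rfl⟩, rfl⟩
        rwa [hφφ]
      · intro hc
        exact ⟨φ c, ⟨c, hc, rfl⟩, hφφ c⟩
    haveI := Fintype.ofFinite (Sylow p K)
    have hoddn : ¬ 2 ∣ Fintype.card (Sylow p K) := by
      obtain ⟨S₀⟩ : Nonempty (Sylow p K) := inferInstance
      rw [← Nat.card_eq_fintype_card, S₀.card_eq_index_normalizer]
      intro h
      exact Nat.not_even_iff_odd.mpr hKodd
        (even_iff_two_dvd.mpr (h.trans (Subgroup.index_dvd_card _)))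
    haveI : Fact (Nat.Prime 2) := ⟨Nat.prime_two⟩
    obtain ⟨S, hS⟩ := Equiv.Perm.exists_fixed_point_of_prime (p := 2) (n := 1) hoddn
      (σ := (⟨τ, τ, hτ, hτ⟩ : Equiv.Perm (Sylow p K))) (by ext S; simp [pow_two, hτ])
    refine ⟨S, fun c hc => ?_⟩
    have hS' : (S : Subgroup K).map φ.toMonoidHom = S := congrArg Sylow.toSubgroup hS
    rw [← hS']
    exact ⟨c, hc, rfl⟩
  set Q := (S : Subgroup K).map K.subtype with hQ
  have hQp : IsPGroup p Q := S.2.map _
  have hQK : Q ≤ K := Subgroup.map_subtype_le _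
  have hcardQ : Nat.card Q = p ^ (Nat.card K).factorization p := by
    rw [hQ, ← Nat.card_congr ((S : Subgroup K).equivMapOfInjective _
      K.subtype_injective).toEquiv, S.card_eq_multiplicity]
  -- `u` inverts `Q`
  let ψ : (S : Subgroup K) →* (S : Subgroup K) :=
    { toFun := fun c => ⟨φ (c : K), hS (c : K) c.2⟩
      map_one' := Subtype.ext (map_one φ)
      map_mul' := fun c d => Subtype.ext (map_mul φ (c : K) (d : K)) }
  have hψinv : Function.Involutive ψ := fun c => Subtype.ext (hφφ (c : K))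
  have hψfpf : MonoidHom.FixedPointFree ψ := by
    intro c hc
    by_contra hne
    refine hCp u hu2 ((S.2.dvd_orderOf hne).trans ?_)
    rw [← Subgroup.orderOf_coe, ← Subgroup.orderOf_coe]
    refine Subgroup.orderOf_dvd_natCard _ ?_
    rw [Subgroup.mem_centralizer_singleton_iff]
    have h1 : u * ((c : K) : G) * u⁻¹ = ((c : K) : G) :=
      congrArg (fun t : (S : Subgroup K) => ((t : K) : G)) hc
    exact (mul_inv_eq_iff_eq_mul.mp h1).symm
  have hψeq := hψfpf.coe_eq_inv_of_involutive hψinv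
  have huQ : ∀ q ∈ Q, u * q * u⁻¹ = q⁻¹ := by
    rintro q ⟨c, hc, rfl⟩
    have := congrArg (fun t : (S : Subgroup K) => ((t : K) : G)) (congrFun hψeq ⟨c, hc⟩)
    simpa [ψ, φ] using this
  have hQab : ∀ q ∈ Q, ∀ r ∈ Q, q * r = r * q := by
    intro q hq r hr
    have h1 := huQ (q * r) (Q.mul_mem hq hr)
    rw [← conj_mul, huQ q hq, huQ r hr, mul_inv_rev] at h1
    have := congrArg Inv.inv h1
    simpa [mul_inv_rev] using this.symm
  -- `y ∈ Q`
  have hyQ : y ∈ Q := by
    have hyK : y ∈ K := by rw [hK, Subgroup.mem_centralizer_singleton_iff]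
    refine ⟨⟨y, hyK⟩, ?_, rfl⟩
    have hpg : IsPGroup p (Subgroup.zpowers (⟨y, hyK⟩ : K)) := by
      refine IsPGroup.of_card (n := ky) ?_
      rw [Nat.card_zpowers, Subgroup.orderOf_mk, hky]
    have hW := IsPGroup.to_sup_of_normal_right' S.2 hpg (by
      intro c hc
      refine Subgroup.centralizer_le_normalizer _ ?_
      intro w hw
      obtain ⟨i, rfl⟩ := Subgroup.mem_zpowers_iff.mp hw
      have h1 : Commute (⟨y, hyK⟩ : K) c :=
        Subtype.ext ((Subgroup.mem_centralizer_singleton_iff.mp c.2).symm)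
      exact (h1.zpow_left i).eq)
    show (⟨y, hyK⟩ : K) ∈ (S : Subgroup K)
    rw [← S.3 hW le_sup_left]
    exact Subgroup.mem_sup_right (Subgroup.mem_zpowers _)
  -- `Q` is a Sylow subgroup
  set C := Subgroup.centralizer (Q : Set G) with hCdef
  have hCK : C ≤ K := Subgroup.centralizer_le (Set.singleton_subset_iff.mpr hyQ)
  have hCodd : Odd (Nat.card C) := hKodd.of_dvd_nat (Subgroup.card_dvd_of_le hCK)
  obtain ⟨P', hQP'⟩ := hQp.exists_le_sylow
  have hsyl : (P' : Subgroup G) = Q := by
    by_contra hne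
    have hlt : Q.subgroupOf (P' : Subgroup G) < ⊤ := by
      refine lt_top_iff_ne_top.mpr fun h => hne ?_
      exact le_antisymm (Subgroup.subgroupOf_eq_top.mp h) hQP'
    haveI : Group.IsNilpotent (P' : Subgroup G) := P'.2.isNilpotent
    have hgrow : Q.subgroupOf (P' : Subgroup G) <
        Subgroup.normalizer ((Q.subgroupOf (P' : Subgroup G) : Subgroup (P' : Subgroup G)) :
          Set (P' : Subgroup G)) := Group.normalizerCondition_of_isNilpotent _ hlt
    obtain ⟨⟨v, hvP'⟩, hvN, hvQ⟩ := SetLike.exists_of_lt hgrow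
    rw [Subgroup.mem_subgroupOf] at hvQ
    set W := Subgroup.normalizer (Q : Set G) ⊓ (P' : Subgroup G) with hW
    have hvW : v ∈ W := by
      refine ⟨?_, hvP'⟩
      refine Subgroup.mem_normalizer_iff.mpr fun w => ?_
      constructor
      · intro hw
        exact ((Subgroup.mem_normalizer_iff.mp hvN) ⟨w, hQP' hw⟩).mp hw
      · intro hw
        have hwP : w ∈ (P' : Subgroup G) := by
          have h1 := (P' : Subgroup G).mul_mem ((P' : Subgroup G).mul_mem
            ((P' : Subgroup G).inv_mem hvP') (hQP' hw)) hvP'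
          simpa [mul_assoc] using h1
        exact ((Subgroup.mem_normalizer_iff.mp hvN) ⟨w, hwP⟩).mpr hw
    have hWp : IsPGroup p W := P'.2.to_le inf_le_right
    -- involutions in the coset `u C`
    set I := {t : G // t * t = 1 ∧ u⁻¹ * t ∈ C} with hI
    have hIconj : ∀ w ∈ W, ∀ t : G, t * t = 1 → u⁻¹ * t ∈ C → u⁻¹ * (w * t * w⁻¹) ∈ C := by
      intro w hw t ht htC
      have htq : ∀ q ∈ Q, t * q * t⁻¹ = q⁻¹ := by
        intro q hq
        have h1 : u⁻¹ * t * q = q * (u⁻¹ * t) := (htC q hq).symm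
        have h2 : t = u * (u⁻¹ * t) := by rw [mul_inv_cancel_left]
        rw [h2, show u * (u⁻¹ * t) * q = u * (u⁻¹ * t * q) by group, h1,
          show u * (q * (u⁻¹ * t)) * (u * (u⁻¹ * t))⁻¹ = u * q * u⁻¹ by group]
        exact huQ q hq
      intro q hq
      have hwn := Subgroup.mem_normalizer_iff.mp hw.1
      have hq' : w⁻¹ * q * w ∈ Q := (hwn _).mpr (by simpa [mul_assoc] using hq)
      have h3 : w * t * w⁻¹ * q * (w * t * w⁻¹)⁻¹ = q⁻¹ := by
        have h4 := htq _ hq'
        calc w * t * w⁻¹ * q * (w * t * w⁻¹)⁻¹ = w * (t * (w⁻¹ * q * w) * t⁻¹) * w⁻¹ := by group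
          _ = q⁻¹ := by rw [h4]; group
      have h5 : u * q⁻¹ * u⁻¹ = q := by rw [huQ _ (Q.inv_mem hq), inv_inv]
      have h6 : u⁻¹ * (w * t * w⁻¹) * q * (u⁻¹ * (w * t * w⁻¹))⁻¹ = q := by
        calc u⁻¹ * (w * t * w⁻¹) * q * (u⁻¹ * (w * t * w⁻¹))⁻¹
            = u⁻¹ * (w * t * w⁻¹ * q * (w * t * w⁻¹)⁻¹) * u := by group
          _ = u * q⁻¹ * u⁻¹ := by rw [h3, hu']
          _ = q := h5
      exact (mul_inv_eq_iff_eq_mul.mp h6).symm
    letI : MulAction W I :=
      { smul := fun w t => ⟨(w : G) * t.1 * (w : G)⁻¹, by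
          have e : (w : G) * t.1 * (w : G)⁻¹ * ((w : G) * t.1 * (w : G)⁻¹) =
              (w : G) * (t.1 * t.1) * (w : G)⁻¹ := by group
          exact ⟨by rw [e, t.2.1]; simp, hIconj w w.2 t.1 t.2.1 t.2.2⟩⟩
        one_smul := fun t => Subtype.ext (by
          show ((1 : W) : G) * t.1 * ((1 : W) : G)⁻¹ = t.1
          simp)
        mul_smul := fun w w' t => Subtype.ext (by
          show ((w * w' : W) : G) * t.1 * ((w * w' : W) : G)⁻¹ =
            (w : G) * ((w' : G) * t.1 * (w' : G)⁻¹) * (w : G)⁻¹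
          simp [mul_assoc]) }
    have hfree : ∀ t : I, MulAction.stabilizer W t = ⊥ := by
      intro t
      refine (Subgroup.eq_bot_iff_forall _).mpr fun w hw => ?_
      by_contra hne
      have ht2 : orderOf t.1 = 2 := by
        haveI : Fact (Nat.Prime 2) := ⟨Nat.prime_two⟩
        refine orderOf_eq_prime (by rw [pow_two]; exact t.2.1) fun h => ?_
        have := t.2.2
        rw [h, mul_one] at this
        have h2 := this y hyQ
        have h3 := huy
        rw [hu'] at h3 h2
        rw [show u * y * u = u * (y * u) by group, h2, ← mul_assoc, huu, one_mul] at h3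
        have h4 : y ^ 2 = 1 := by rw [pow_two]; exact mul_eq_one_iff_eq_inv.mpr h3
        have h5 : orderOf y ∣ 2 := orderOf_dvd_of_pow_eq_one h4
        rcases Nat.eq_zero_or_pos ky with h0 | h0
        · exact hy1 (orderOf_eq_one_iff.mp (by rw [hky, h0, pow_zero]))
        · exact hp2 ((Nat.prime_dvd_prime_iff_eq hp Nat.prime_two).mp
            ((hky ▸ dvd_pow_self p h0.ne').trans h5))
      refine hCp t.1 ht2 ((hWp.dvd_orderOf hne).trans ?_)
      rw [← Subgroup.orderOf_coe]
      refine Subgroup.orderOf_dvd_natCard _ ?_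
      rw [Subgroup.mem_centralizer_singleton_iff]
      exact mul_inv_eq_iff_eq_mul.mp (congrArg Subtype.val hw)
    have hdvdI : Nat.card W ∣ Nat.card I := by
      haveI := Fintype.ofFinite I
      rw [Nat.card_congr (MulAction.selfEquivSigmaOrbitsQuotientStabilizer W I), Nat.card_sigma]
      refine Finset.dvd_sum fun t _ => ?_
      rw [hfree, ← Subgroup.index, Subgroup.index_bot]
    -- all these involutions are conjugate under `C`
    have hcardI : Nat.card I ∣ Nat.card C := by
      have hbij : Nat.card I =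
          (Subgroup.centralizer ({u} : Set G)).relIndex C := by
        rw [Subgroup.relIndex, Subgroup.index]
        have huC : ∀ c ∈ C, u⁻¹ * (c * u * c⁻¹) ∈ C := by
          intro c hc
          have hcu : u⁻¹ * c * u ∈ C := by
            intro q hq
            have h1 := hc q⁻¹ (Q.inv_mem hq)
            have h2 : u * q * u⁻¹ = q⁻¹ := huQ q hq
            calc q * (u⁻¹ * c * u) = u⁻¹ * (u * q * u⁻¹ * c) * u := by group
              _ = u⁻¹ * (c * (u * q * u⁻¹)) * u := by rw [h2, h1]
              _ = u⁻¹ * c * u * q := by group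
          rw [show u⁻¹ * (c * u * c⁻¹) = u⁻¹ * c * u * c⁻¹ by group]
          exact C.mul_mem hcu (C.inv_mem hc)
        refine (Nat.card_congr (Equiv.ofBijective
          (Quotient.lift (fun c : C => (⟨(c : G) * u * (c : G)⁻¹, by
            have e : (c : G) * u * (c : G)⁻¹ * ((c : G) * u * (c : G)⁻¹) =
                (c : G) * (u * u) * (c : G)⁻¹ := by group
            rw [e, huu]; simp, huC c c.2⟩ : I)) ?_) ⟨?_, ?_⟩)).symm
        · intro a b hab
          have h1 := (QuotientGroup.leftRel_apply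
            (s := (Subgroup.centralizer ({u} : Set G)).subgroupOf C)).mp hab
          rw [Subgroup.mem_subgroupOf, Subgroup.mem_centralizer_singleton_iff] at h1
          refine Subtype.ext ?_
          have h2 := congrArg (fun t => (a : G) * t * (b : G)⁻¹) h1
          push_cast at h2
          simp only [mul_assoc, mul_inv_cancel_left] at h2
          simp only [mul_assoc]
          simpa [mul_assoc] using h2.symm
        · intro a b hab
          induction a using Quotient.inductionOn with | _ a => ?_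
          induction b using Quotient.inductionOn with | _ b => ?_
          simp only [Quotient.lift_mk, Subtype.mk.injEq] at hab
          refine Quotient.sound ((QuotientGroup.leftRel_apply
            (s := (Subgroup.centralizer ({u} : Set G)).subgroupOf C)).mpr ?_)
          rw [Subgroup.mem_subgroupOf, Subgroup.mem_centralizer_singleton_iff]
          push_cast
          have h2 := congrArg (fun t => (a : G)⁻¹ * t * (b : G)) hab
          simp [mul_assoc] at h2
          simpa [mul_assoc] using h2.symm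
        · rintro ⟨t, ht, htC⟩
          obtain ⟨d, hd, hdu⟩ := exists_conj_eq_of_coset hCodd huu htC
            (by rw [mul_inv_cancel_left]; exact ht)
          rw [mul_inv_cancel_left] at hdu
          exact ⟨Quotient.mk'' ⟨d, hd⟩, Subtype.ext hdu⟩
      rw [hbij]
      exact Subgroup.relIndex_dvd_card _ _
    have h1 : Nat.card W ≤ Nat.card Q := by
      obtain ⟨j, hj⟩ := hWp.exists_card_eq
      have h2 : p ^ j ∣ Nat.card K :=
        hj ▸ (hdvdI.trans hcardI).trans (Subgroup.card_dvd_of_le hCK)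
      rw [hj, hcardQ]
      exact Nat.pow_le_pow_right hp.pos
        ((hp.pow_dvd_iff_le_factorization Nat.card_pos.ne').mp h2)
    have h2 : Q = W :=
      Subgroup.eq_of_le_of_card_ge (le_inf Subgroup.le_normalizer hQP') h1
    exact hvQ (h2 ▸ hvW)
  exact ⟨P', u, hxu, hsyl ▸ huQ, hsyl ▸ hQab⟩

end Cfsg.Agent.BlockCount
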