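import Cfsg.Agent.Lib.BlockCount.StronglyEmbedded
import Cfsg.Agent.Lib.SmallSimple.FiveThirtySix
import Cfsg.Agent.Lib.ThreePrimes.Chars
import Cfsg.Agent.Lib.Coprime.Sylow
import Cfsg.Agent.Lib.Coprime.Factorization
import Cfsg.Agent.Lib.PCore.PSolvable
import Cfsg.Agent.Lib.ZStar.Main

/-!
# Odd centralisers of `p`-elements and transitive actions of degree `p ^ r`

Let `p` be odd, all centralisers of non-identity `p`-elements of odd order, `G` of even order,
faithful and transitive on `p ^ r` points and without character of `p`-defect zero.  The Sylow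
`p`-subgroups are abelian, regular and each involution inverts one, so fixes exactly one point.

If no Sylow `p`-subgroup is normal they form a TI-set, the product of two involutions with
different fixed points lies in a Sylow `p`-subgroup inverted by both, and counting shows that each
involution inverts an odd number of them.  Hence a Sylow 2-subgroup has only one involution, which
is central by the Z*-theorem: absurd.  So the Sylow `p`-subgroup is normal, and a character over a
nontrivial linear character of it has 2-defect zero.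

The odd order theorem enters as a hypothesis.
-/

set_option autoImplicit false
set_option linter.style.haveILetI false
set_option linter.unusedSectionVars false

namespace Cfsg.Agent.BlockCount.OddCent

open Subgroup Cfsg
open scoped Pointwise ComplexConjugate

universe u v

variable {G : Type u} [Group G] [Fintype G] {Ω : Type v} [MulAction G Ω] [Finite Ω]
  {p r : ℕ} [Fact p.Prime]

section Transitive

variable [FaithfulSMul G Ω]

/-- A transitive subgroup on `p ^ r` points normalises no nontrivial `p'`-subgroup. -/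
theorem eq_bot_of_normalized (hΩ : Nat.card Ω = p ^ r) {P D : Subgroup G}
    (htr : ∀ a b : Ω, ∃ g ∈ P, g • a = b) (hPD : P ≤ normalizer (D : Set G))
    (hD : (Nat.card D).Coprime p) : D = ⊥ := by
  classical
  refine (eq_bot_iff_forall _).mpr fun d hd => FaithfulSMul.eq_of_smul_eq_smul (α := Ω) fun a => ?_
  rw [one_smul]
  -- all orbits of `D` have the same size
  have hsize : ∀ b : Ω, Nat.card (MulAction.orbit D b) = Nat.card (MulAction.orbit D a) := by
    intro b
    obtain ⟨g, hg, rfl⟩ := htr a b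
    have h : g • MulAction.orbit D a = MulAction.orbit D (g • a) := by
      ext x
      rw [Set.mem_smul_set_iff_inv_smul_mem, MulAction.mem_orbit_iff, MulAction.mem_orbit_iff]
      constructor
      · rintro ⟨⟨e, he⟩, hex⟩
        refine ⟨⟨g * e * g⁻¹, (mem_normalizer_iff.mp (hPD hg) e).mp he⟩, ?_⟩
        show (g * e * g⁻¹) • g • a = x
        rw [Subgroup.smul_def] at hex
        rw [smul_smul, inv_mul_cancel_right, mul_smul, hex, smul_inv_smul]
      · rintro ⟨⟨e, he⟩, hex⟩
        refine ⟨⟨g⁻¹ * e * g, ?_⟩, ?_⟩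
        · exact (mem_normalizer_iff.mp (hPD hg) _).mpr (by simpa [mul_assoc] using he)
        · show (g⁻¹ * e * g) • a = g⁻¹ • x
          rw [Subgroup.smul_def] at hex
          rw [mul_smul, mul_smul, hex]
    rw [← h, Nat.card_coe_set_eq, Set.ncard_smul_set, ← Nat.card_coe_set_eq]
  have hdvd : Nat.card (MulAction.orbit D a) ∣ p ^ r := by
    haveI := Fintype.ofFinite (Quotient (MulAction.orbitRel D Ω))
    rw [← hΩ, Nat.card_congr (MulAction.selfEquivSigmaOrbits D Ω), Nat.card_sigma]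
    exact Finset.dvd_sum fun o _ => dvd_of_eq (hsize _).symm
  have hdvd' : Nat.card (MulAction.orbit D a) ∣ Nat.card D := by
    rw [Nat.card_congr (MulAction.orbitEquivQuotientStabilizer D a)]
    exact Subgroup.index_dvd_card _
  have h1 : Nat.card (MulAction.orbit D a) = 1 :=
    Nat.eq_one_of_dvd_coprimes (hD.pow_right r) hdvd' hdvd
  obtain ⟨hs, -⟩ := Nat.card_eq_one_iff_unique.mp h1
  exact congrArg Subtype.val (hs.elim ⟨d • a, ⟨⟨d, hd⟩, rfl⟩⟩ ⟨a, MulAction.mem_orbit_self a⟩)

/-- A Sylow subgroup is transitive on `p ^ r` points. -/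
theorem sylow_transitive (hpre : MulAction.IsPretransitive G Ω) (hΩ : Nat.card Ω = p ^ r)
    (P : Sylow p G) (a b : Ω) : ∃ g ∈ (P : Subgroup G), g • a = b := by
  have hp : p.Prime := Fact.out
  have hG : Nat.card G = p ^ r * Nat.card (MulAction.stabilizer G a) := by
    rw [← hΩ, ← (MulAction.stabilizer G a).index_mul_card,
      MulAction.index_stabilizer_of_transitive]
  have h2 := (MulAction.stabilizer P a).card_mul_index
  rw [MulAction.index_stabilizer, P.card_eq_multiplicity] at h2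
  have hle : Nat.card (MulAction.stabilizer P a) ∣ Nat.card (MulAction.stabilizer G a) := by
    have h3 : (MulAction.stabilizer P a).map (P : Subgroup G).subtype ≤
        MulAction.stabilizer G a := by
      rintro _ ⟨x, hx, rfl⟩
      exact hx
    rw [← card_map_of_injective (P : Subgroup G).subtype_injective]
    exact card_dvd_of_le h3
  obtain ⟨i, hi, hci⟩ := (Nat.dvd_prime_pow hp).mp (Dvd.intro _ h2)
  have hir : p ^ (r + i) ∣ Nat.card G := by
    rw [hG, pow_add, ← hci]
    exact Nat.mul_dvd_mul_left _ hle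
  have h4 : r + i ≤ (Nat.card G).factorization p :=
    (hp.pow_dvd_iff_le_factorization Nat.card_pos.ne').mp hir
  rw [hci] at h2
  have horb : (MulAction.orbit P a).ncard = p ^ ((Nat.card G).factorization p - i) := by
    refine mul_left_cancel₀ (pow_ne_zero i hp.ne_zero) ?_
    rw [h2, ← pow_add]
    congr 1
    omega
  have htop : MulAction.orbit P a = Set.univ := by
    refine Set.eq_of_subset_of_ncard_le (Set.subset_univ _) ?_ Set.finite_univ
    rw [Set.ncard_univ, horb, hΩ]
    exact Nat.pow_le_pow_right hp.pos (by omega)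
  obtain ⟨⟨g, hg⟩, hgb⟩ : b ∈ MulAction.orbit P a := htop ▸ Set.mem_univ b
  exact ⟨g, hg, hgb⟩

end Transitive

/-- The facts used throughout. -/
structure Data (G : Type u) [Group G] (Ω : Type v) [MulAction G Ω] (p : ℕ) : Prop where
  ne_two : p ≠ 2
  odd_cent : ∀ g : G, g ≠ 1 → (∃ k : ℕ, orderOf g = p ^ k) →
    Odd (Nat.card (centralizer ({g} : Set G)))
  trans : ∀ (P : Sylow p G) (a b : Ω), ∃ g ∈ (P : Subgroup G), g • a = b
  reg : ∀ (P : Sylow p G) (a : Ω) (g : G), g ∈ (P : Subgroup G) → g • a = a → g = 1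
  comm : ∀ P : Sylow p G, ∀ a ∈ (P : Subgroup G), ∀ b ∈ (P : Subgroup G), a * b = b * a
  self_cent : ∀ P : Sylow p G, centralizer ((P : Subgroup G) : Set G) ≤ P
  inverted : ∀ v : G, orderOf v = 2 →
    ∃ P : Sylow p G, ∀ q ∈ (P : Subgroup G), v * q * v⁻¹ = q⁻¹
  odd_le : ∀ (P : Sylow p G) (K : Subgroup G), Odd (Nat.card K) → (P : Subgroup G) ≤ K →
    K ≤ normalizer ((P : Subgroup G) : Set G)

theorem exists_pow_of_mem (P : Sylow p G) {a : G} (ha : a ∈ (P : Subgroup G)) :
    ∃ k : ℕ, orderOf a = p ^ k := by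
  obtain ⟨k, hk⟩ := (IsPGroup.iff_orderOf.mp P.2) ⟨a, ha⟩
  exact ⟨k, by rw [← hk, Subgroup.orderOf_mk]⟩

theorem odd_orderOf_of_mem (hp2 : p ≠ 2) (P : Sylow p G) {a : G} (ha : a ∈ (P : Subgroup G)) :
    Odd (orderOf a) := by
  obtain ⟨k, hk⟩ := exists_pow_of_mem P ha
  rw [hk]
  exact ((Nat.Prime.odd_of_ne_two Fact.out hp2)).pow

theorem mul_self_of_orderOf_two {v : G} (hv : orderOf v = 2) : v * v = 1 := by
  rw [← pow_two, ← hv, pow_orderOf_eq_one]

theorem inv_of_orderOf_two {v : G} (hv : orderOf v = 2) : v⁻¹ = v :=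
  inv_eq_of_mul_eq_one_right (mul_self_of_orderOf_two hv)

theorem ne_one_of_orderOf_two {v : G} (hv : orderOf v = 2) : v ≠ 1 := by
  rintro rfl
  rw [orderOf_one] at hv
  omega

theorem eq_one_of_sq_of_odd {a : G} (ho : Odd (orderOf a)) (h : a * a = 1) : a = 1 := by
  have h2 : orderOf a ∣ 2 := orderOf_dvd_of_pow_eq_one (by rw [pow_two, h])
  rcases (Nat.dvd_prime Nat.prime_two).mp h2 with h1 | h1
  · exact orderOf_eq_one_iff.mp h1
  · rw [h1] at ho
    exact absurd ho (by decide)

theorem data [FaithfulSMul G Ω] (hFT : FTConsumers.OddOrder.{u}) (hp2 : p ≠ 2)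
    (hpG : p ∣ Nat.card G) (h2G : 2 ∣ Nat.card G)
    (hC : ∀ g : G, g ≠ 1 → (∃ k : ℕ, orderOf g = p ^ k) →
      Odd (Nat.card (centralizer ({g} : Set G))))
    (hnd : ∀ χ : IrrCharacter G,
      (charDegree (χ : G → ℂ)).factorization p ≠ (Nat.card G).factorization p)
    (hpre : MulAction.IsPretransitive G Ω) (hΩ : Nat.card Ω = p ^ r) :
    Data G Ω p := by
  classical
  have htrans := fun P : Sylow p G => sylow_transitive hpre hΩ P
  obtain ⟨z, hz⟩ := exists_prime_orderOf_dvd_card' 2 h2G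
  obtain ⟨Q₀, -, -, -, hab₀⟩ := exists_inverted_sylow hp2 hpG hC hnd z hz
  have hcomm : ∀ P : Sylow p G, ∀ a ∈ (P : Subgroup G), ∀ b ∈ (P : Subgroup G),
      a * b = b * a := by
    intro P a ha b hb
    obtain ⟨g, hg⟩ := MulAction.exists_smul_eq G Q₀ P
    rw [← hg] at ha hb
    obtain ⟨a', ha', rfl⟩ := ha
    obtain ⟨b', hb', rfl⟩ := hb
    simp only [MulDistribMulAction.toMonoidEnd_apply, MulDistribMulAction.toMonoidHom_apply]
    rw [← smul_mul', ← smul_mul', hab₀ a' ha' b' hb']
  have hfix : ∀ (P : Sylow p G) (x : G) (a : Ω),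
      (∀ q ∈ (P : Subgroup G), q * x = x * q) → x • a = a → x = 1 := by
    intro P x a hx hxa
    refine FaithfulSMul.eq_of_smul_eq_smul (α := Ω) fun b => ?_
    obtain ⟨q, hq, rfl⟩ := htrans P a b
    rw [one_smul, ← mul_smul, ← hx q hq, mul_smul, hxa]
  refine ⟨hp2, hC, htrans, fun P a g hg hga => hfix P g a (fun q hq => hcomm P q hq g hg) hga,
    hcomm, ?_, ?_, ?_⟩
  · intro P x hx
    obtain ⟨a⟩ : Nonempty Ω := (Nat.card_pos_iff.mp
      (hΩ ▸ pow_pos (Fact.out : p.Prime).pos r)).1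
    obtain ⟨q, hq, hqa⟩ := htrans P a (x • a)
    have h1 : q⁻¹ * x = 1 := hfix P _ a (fun t ht => by
      rw [← mul_assoc, hcomm P t ht q⁻¹ (inv_mem hq), mul_assoc, mul_assoc,
        show t * x = x * t from hx t ht])
      (by rw [mul_smul, ← hqa, inv_smul_smul])
    rw [inv_mul_eq_one] at h1
    exact h1 ▸ hq
  · intro v hv
    obtain ⟨Q, u, hvu, hu, -⟩ := exists_inverted_sylow hp2 hpG hC hnd v hv
    obtain ⟨c, hc⟩ := isConj_iff.mp hvu
    refine ⟨c⁻¹ • Q, fun q hq => ?_⟩
    rw [Sylow.coe_subgroup_smul, mem_pointwise_smul_iff_inv_smul_mem] at hq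
    have h1 := hu _ hq
    simp only [map_inv, inv_inv, MulAut.smul_def, MulAut.conj_apply] at h1
    rw [← hc] at h1
    have h2 := congrArg (fun t => c⁻¹ * t * c) h1
    simpa [mul_assoc] using h2
  · intro P K hK hPK
    haveI : Group.IsSolvable K := hFT K hK
    have htop := pPrimeCore_sup_normalizer_eq_top (P.subtype hPK)
      (fun x hx y hy => Subtype.ext (hcomm P x hx y hy))
    set D := (pPrimeCore p K).map K.subtype with hDdef
    have hPD : (P : Subgroup G) ≤ normalizer (D : Set G) := by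
      intro g hg
      refine mem_normalizer_iff.mpr fun x => ⟨?_, ?_⟩
      · rintro ⟨k, hk, rfl⟩
        exact ⟨_, (inferInstance : (pPrimeCore p K).Normal).conj_mem k hk ⟨g, hPK hg⟩, rfl⟩
      · rintro ⟨k, hk, hkx⟩
        refine ⟨_, (inferInstance : (pPrimeCore p K).Normal).conj_mem k hk ⟨g⁻¹, hPK (inv_mem hg)⟩,
          ?_⟩
        change (k : G) = g * x * g⁻¹ at hkx
        show g⁻¹ * (k : G) * g⁻¹⁻¹ = x
        rw [hkx]
        group
    have hD : D = ⊥ := eq_bot_of_normalized hΩ (htrans P) hPD (by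
      rw [hDdef, card_map_of_injective K.subtype_injective]
      exact PCore.coprime_card_pPrimeCore)
    rw [(map_eq_bot_iff_of_injective _ K.subtype_injective).mp hD, bot_sup_eq] at htop
    intro x hx
    have hn := htop ▸ mem_top (⟨x, hx⟩ : K)
    refine mem_normalizer_iff.mpr fun y => ?_
    constructor
    · intro hy
      exact (mem_normalizer_iff.mp hn ⟨y, hPK hy⟩).mp hy
    · intro hy
      have h1 := (mem_normalizer_iff.mp (inv_mem hn) ⟨x * y * x⁻¹, hPK hy⟩).mp hy
      simpa [Sylow.coe_subtype, mem_subgroupOf, mul_assoc] using h1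

/-- A `p`-element normalising a Sylow subgroup lies in it. -/
theorem mem_of_normalizes (P : Sylow p G) {x : G} (hx : ∃ k : ℕ, orderOf x = p ^ k)
    (hN : x ∈ normalizer ((P : Subgroup G) : Set G)) : x ∈ (P : Subgroup G) := by
  obtain ⟨k, hk⟩ := hx
  have h : IsPGroup p (zpowers x) := IsPGroup.of_card (n := k) (by rw [Nat.card_zpowers, hk])
  exact (h.inf_normalizer_sylow P ▸ mem_inf.mpr ⟨mem_zpowers x, hN⟩ :
    x ∈ zpowers x ⊓ (P : Subgroup G)).2

variable (h : Data G Ω p)
include h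

theorem Data.ti {P P' : Sylow p G} {y : G} (hy : y ∈ (P : Subgroup G))
    (hy' : y ∈ (P' : Subgroup G)) (hy1 : y ≠ 1) : P = P' := by
  have hle : ∀ Q : Sylow p G, y ∈ (Q : Subgroup G) →
      (Q : Subgroup G) ≤ centralizer ({y} : Set G) :=
    fun Q hQ x hx => mem_centralizer_singleton_iff.mpr (h.comm Q x hx y hQ)
  have hN := h.odd_le P _ (h.odd_cent y hy1 (exists_pow_of_mem P hy)) (hle P hy)
  refine (Sylow.ext (P'.3 P.2 fun x hx => ?_)).symm ▸ rfl
  exact mem_of_normalizes P (exists_pow_of_mem P' hx) (hN (hle P' hy' hx))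

theorem Data.not_dvd_centralizer {v : G} (hv : orderOf v = 2) :
    ¬ p ∣ Nat.card (centralizer ({v} : Set G)) := by
  intro hd
  obtain ⟨⟨w, hw⟩, hword⟩ := exists_prime_orderOf_dvd_card' p hd
  rw [Subgroup.orderOf_mk] at hword
  refine Nat.not_even_iff_odd.mpr (h.odd_cent w (fun h1 => (Fact.out : p.Prime).one_lt.ne
      (by rw [← hword, h1, orderOf_one])) ⟨1, by rw [hword, pow_one]⟩)
    (even_iff_two_dvd.mpr (hv ▸ Subgroup.orderOf_dvd_natCard _ ?_))
  rw [mem_centralizer_singleton_iff] at hw ⊢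
  exact hw.symm

/-- An involution normalising a Sylow subgroup inverts it. -/
theorem Data.inverts {v : G} (hv : orderOf v = 2) (P : Sylow p G)
    (hN : ∀ q ∈ (P : Subgroup G), v * q * v⁻¹ ∈ (P : Subgroup G))
    {q : G} (hq : q ∈ (P : Subgroup G)) : v * q * v⁻¹ = q⁻¹ := by
  have hc : q * (v * q * v⁻¹) ∈ (P : Subgroup G) := mul_mem hq (hN q hq)
  refine eq_inv_of_mul_eq_one_right ?_
  by_contra hne
  obtain ⟨k, hk⟩ := exists_pow_of_mem P hc
  have hk0 : k ≠ 0 := fun h0 => hne (orderOf_eq_one_iff.mp (by rw [hk, h0, pow_zero]))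
  refine h.not_dvd_centralizer hv (((hk ▸ dvd_pow_self p hk0).trans ?_))
  refine Subgroup.orderOf_dvd_natCard _ ?_
  rw [mem_centralizer_singleton_iff]
  have hvv := mul_self_of_orderOf_two hv
  have hvi := inv_of_orderOf_two hv
  have h1 : q * (v * q * v⁻¹) = v * q * v⁻¹ * q := h.comm P q hq _ (hN q hq)
  calc q * (v * q * v⁻¹) * v = q * v * q := by group
    _ = v * v * q * v⁻¹ * q := by rw [hvv, one_mul, hvi]
    _ = v * (q * (v * q * v⁻¹)) := by rw [h1]; group

/-- An involution fixes exactly one point. -/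
theorem Data.existsUnique_fixed [Nonempty Ω] {v : G} (hv : orderOf v = 2) :
    ∃! a : Ω, v • a = a := by
  obtain ⟨P, hP⟩ := h.inverted v hv
  obtain ⟨a₀⟩ := ‹Nonempty Ω›
  obtain ⟨q, hq, hqa⟩ := h.trans P a₀ (v • a₀)
  obtain ⟨k, hk⟩ := odd_orderOf_of_mem h.ne_two P hq
  set t := q ^ (k + 1) with ht
  have ht2 : t * t = q := by
    rw [ht, ← pow_add, show k + 1 + (k + 1) = orderOf q + 1 by omega, pow_succ,
      pow_orderOf_eq_one, one_mul]
  refine ⟨t • a₀, ?_, fun b hb => ?_⟩
  · show v • t • a₀ = t • a₀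
    rw [show v • t • a₀ = (v * t * v⁻¹) • v • a₀ by rw [smul_smul, smul_smul]; group,
      hP t (pow_mem hq _), ← hqa, smul_smul, ← ht2, inv_mul_cancel_left]
  · obtain ⟨s, hs, rfl⟩ := h.trans P (t • a₀) b
    have hfixed : v • t • a₀ = t • a₀ := by
      rw [show v • t • a₀ = (v * t * v⁻¹) • v • a₀ by rw [smul_smul, smul_smul]; group,
        hP t (pow_mem hq _), ← hqa, smul_smul, ← ht2, inv_mul_cancel_left]
    change v • s • t • a₀ = s • t • a₀ at hb
    rw [show v • s • t • a₀ = (v * s * v⁻¹) • v • t • a₀ by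
      rw [smul_smul, smul_smul (v * s * v⁻¹)]; group, hP s hs, hfixed] at hb
    have h2 : (s * s) • t • a₀ = t • a₀ := by
      have h3 := congrArg (fun x => s • x) hb
      simp only [smul_inv_smul] at h3
      rw [mul_smul]
      exact h3.symm
    have h4 := eq_one_of_sq_of_odd (odd_orderOf_of_mem h.ne_two P hs)
      (h.reg P _ _ (mul_mem hs hs) h2)
    rw [h4, one_smul]

section Unique

variable [Nonempty Ω]

/-- Involutions with different fixed points have product of odd order. -/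
theorem Data.odd_orderOf_mul {u v : G} (hu : orderOf u = 2) (hv : orderOf v = 2) {a b : Ω}
    (ha : u • a = a) (hb : v • b = b) (hab : a ≠ b) : Odd (orderOf (u * v)) := by
  by_contra hodd
  rw [Nat.not_odd_iff_even, even_iff_two_dvd] at hodd
  set n := orderOf (u * v) with hn
  have hn0 : 0 < n := orderOf_pos _
  set z := (u * v) ^ (n / 2) with hz
  have hz2 : orderOf z = 2 := by
    rw [hz, orderOf_pow_of_dvd (by omega) (Nat.div_dvd_of_dvd hodd), ← hn,
      Nat.div_div_self hodd hn0.ne']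
  have huu := mul_self_of_orderOf_two hu
  have hvv := mul_self_of_orderOf_two hv
  have hui := inv_of_orderOf_two hu
  have hvi := inv_of_orderOf_two hv
  have hinvu : u * z * u⁻¹ = z := by
    rw [hz, ← conj_pow, show u * (u * v) * u⁻¹ = (u * v)⁻¹ by
      rw [mul_inv_rev, hui, hvi, ← mul_assoc, huu, one_mul], inv_pow]
    exact inv_of_orderOf_two hz2
  have hinvv : v * z * v⁻¹ = z := by
    rw [hz, ← conj_pow, show v * (u * v) * v⁻¹ = (u * v)⁻¹ by
      rw [mul_inv_rev, hui, hvi, mul_assoc, mul_assoc, hvv, mul_one], inv_pow]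
    exact inv_of_orderOf_two hz2
  have key : ∀ {w : G} {c : Ω}, orderOf w = 2 → w • c = c → w * z * w⁻¹ = z → z • c = c := by
    intro w c hw hc hwz
    refine (h.existsUnique_fixed hw).unique ?_ hc
    rw [smul_smul, show w * z = z * w from mul_inv_eq_iff_eq_mul.mp hwz, mul_smul, hc]
  exact hab ((h.existsUnique_fixed hz2).unique (key hu ha hinvu) (key hv hb hinvv))

/-- Involutions with different fixed points are conjugate under the group they generate. -/
theorem Data.exists_conj {u v : G} (hu : orderOf u = 2) (hv : orderOf v = 2) {a b : Ω}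
    (ha : u • a = a) (hb : v • b = b) (hab : a ≠ b) :
    ∃ d ∈ zpowers (u * v), d * u * d⁻¹ = v := by
  have huu := mul_self_of_orderOf_two hu
  have hvv := mul_self_of_orderOf_two hv
  have hc : u * (u * v) = v := by rw [← mul_assoc, huu, one_mul]
  obtain ⟨d, hd, hdu⟩ := exists_conj_eq_of_coset (H := zpowers (u * v))
    (by rw [Nat.card_zpowers]; exact h.odd_orderOf_mul hu hv ha hb hab) huu
    (mem_zpowers _) (by rw [hc, hvv])
  exact ⟨d, hd, hdu.trans hc⟩

/-- The centraliser of a product of two involutions with different fixed points is odd. -/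
theorem Data.odd_centralizer_mul {u v : G} (hu : orderOf u = 2) (hv : orderOf v = 2) {a b : Ω}
    (ha : u • a = a) (hb : v • b = b) (hab : a ≠ b) :
    Odd (Nat.card (centralizer ({u * v} : Set G))) := by
  by_contra hodd
  rw [Nat.not_odd_iff_even, even_iff_two_dvd] at hodd
  obtain ⟨⟨s, hs⟩, hs2⟩ := exists_prime_orderOf_dvd_card' 2 hodd
  rw [Subgroup.orderOf_mk] at hs2
  obtain ⟨c, hc, -⟩ := h.existsUnique_fixed hs2
  have huu := mul_self_of_orderOf_two hu
  have hvv := mul_self_of_orderOf_two hv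
  have hui := inv_of_orderOf_two hu
  have hvi := inv_of_orderOf_two hv
  set g := u * v with hg
  have hug : u * g * u⁻¹ = g⁻¹ := by
    rw [hg, mul_inv_rev, hui, hvi, ← mul_assoc, huu, one_mul]
  have hvg : v * g * v⁻¹ = g⁻¹ := by
    rw [hg, mul_inv_rev, hui, hvi, mul_assoc, mul_assoc, hvv, mul_one]
  have hsg : s * g * s⁻¹ = g :=
    mul_inv_eq_iff_eq_mul.mpr (mem_centralizer_singleton_iff.mp hs)
  obtain ⟨w, e, hw, he, hwg, hne⟩ : ∃ (w : G) (e : Ω), orderOf w = 2 ∧ w • e = e ∧
      w * g * w⁻¹ = g⁻¹ ∧ c ≠ e := by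
    by_cases hca : c = a
    · exact ⟨v, b, hv, hb, hvg, fun h1 => hab (hca.symm.trans h1)⟩
    · exact ⟨u, a, hu, ha, hug, hca⟩
  obtain ⟨d, hd, hdw⟩ := h.exists_conj hs2 hw hc he hne
  have hswg : ∀ x : G, x ∈ zpowers (s * w) → x * g * x⁻¹ = g ∨ x * g * x⁻¹ = g⁻¹ := by
    intro x hx
    rw [zpowers_eq_closure] at hx
    induction hx using Subgroup.closure_induction (k := {s * w}) with
    | mem y hy =>
      rw [Set.mem_singleton_iff.mp hy, show s * w * g * (s * w)⁻¹ = s * (w * g * w⁻¹) * s⁻¹ by group,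
        hwg, ← conj_inv, hsg]
      exact Or.inr rfl
    | one => simp
    | mul y z _ _ hy hz =>
      rw [show y * z * g * (y * z)⁻¹ = y * (z * g * z⁻¹) * y⁻¹ by group]
      rcases hz with hz | hz <;> rw [hz]
      · exact hy
      · rw [← conj_inv]
        rcases hy with hy | hy <;> rw [hy]
        · exact Or.inr rfl
        · exact Or.inl (inv_inv g)
    | inv y _ hy =>
      rcases hy with hy | hy
      · refine Or.inl ?_
        conv_lhs => rw [← hy]
        group
      · refine Or.inr ?_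
        have hy' := congrArg Inv.inv hy
        rw [conj_inv, inv_inv] at hy'
        conv_lhs => rw [← hy']
        group
  have hwg' : w * g * w⁻¹ = g := by
    rw [← hdw, show d * s * d⁻¹ * g * (d * s * d⁻¹)⁻¹ =
      d * (s * (d⁻¹ * g * d⁻¹⁻¹) * s⁻¹) * d⁻¹ by group]
    have hsdg : s * (d⁻¹ * g * d⁻¹⁻¹) * s⁻¹ = d⁻¹ * g * d⁻¹⁻¹ := by
      rcases hswg d⁻¹ (inv_mem hd) with h1 | h1 <;> rw [h1]
      · exact hsg
      · rw [← conj_inv, hsg]
    rw [hsdg]
    group
  have hg1 : g = 1 := eq_one_of_sq_of_odd (h.odd_orderOf_mul hu hv ha hb hab) (by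
    rw [hwg] at hwg'
    rw [← mul_eq_one_iff_inv_eq.mpr hwg'])
  have huv : v = u := (eq_inv_of_mul_eq_one_right (hg ▸ hg1)).trans hui
  exact hab ((h.existsUnique_fixed hu).unique ha (huv ▸ hb))

/-- The centraliser of a product of two involutions with different fixed points has order
divisible by `p`. -/
theorem Data.dvd_centralizer_mul (hpG : p ∣ Nat.card G)
    (hnd : ∀ χ : IrrCharacter G,
      (charDegree (χ : G → ℂ)).factorization p ≠ (Nat.card G).factorization p)
    {u v : G} (hu : orderOf u = 2) (hv : orderOf v = 2) {a b : Ω}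
    (ha : u • a = a) (hb : v • b = b) (hab : a ≠ b) :
    p ∣ Nat.card (centralizer ({u * v} : Set G)) := by
  classical
  have hp : p.Prime := Fact.out
  obtain ⟨d, -, hd⟩ := h.exists_conj hu hv ha hb hab
  have huu := mul_self_of_orderOf_two hu
  have hui := inv_of_orderOf_two hu
  have hvv := mul_self_of_orderOf_two hv
  have hvi := inv_of_orderOf_two hv
  have hKodd := h.odd_centralizer_mul hu hv ha hb hab
  set g := u * v with hg
  have hug : u * g * u⁻¹ = g⁻¹ := by
    rw [hg, mul_inv_rev, hui, hvi, ← mul_assoc, huu, one_mul]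
  set C := centralizer ({u} : Set G) with hC
  have hCmem : ∀ {c : G}, c ∈ C ↔ c * u * c⁻¹ = u := fun {c} =>
    mem_centralizer_singleton_iff.trans mul_inv_eq_iff_eq_mul.symm
  -- the set of `x` with `u * x u x⁻¹` conjugate to `g`
  have hX : {x : G | IsConj (u * (x * u * x⁻¹)) g} = (C : Set G) * ({d} * (C : Set G)) := by
    ext x
    simp only [Set.mem_mul, Set.mem_singleton_iff, Set.mem_ofPred_eq, SetLike.mem_coe]
    constructor
    · intro hx
      obtain ⟨e, he⟩ := isConj_iff.mp hx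
      set u' := e * u * e⁻¹ with hu'
      set v' := e * x * u * (e * x)⁻¹ with hv'
      have huv : u' * v' = g := by rw [← he, hu', hv']; group
      have hu'u' : u' * u' = 1 := by
        rw [hu', show e * u * e⁻¹ * (e * u * e⁻¹) = e * (u * u) * e⁻¹ by group, huu, mul_one,
          mul_inv_cancel]
      have hv'v' : v' * v' = 1 := by
        rw [hv', show e * x * u * (e * x)⁻¹ * (e * x * u * (e * x)⁻¹) =
          e * x * (u * u) * (e * x)⁻¹ by group, huu, mul_one, mul_inv_cancel]
      have hu'g : u' * g * u'⁻¹ = g⁻¹ := by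
        have hu'i : u'⁻¹ = u' := inv_eq_of_mul_eq_one_right hu'u'
        have hv'i : v'⁻¹ = v' := inv_eq_of_mul_eq_one_right hv'v'
        rw [← huv, hu'i, mul_inv_rev u' v', hu'i, hv'i, ← mul_assoc u' u' v', hu'u', one_mul]
      have hc : u⁻¹ * u' ∈ centralizer ({g} : Set G) := by
        rw [mem_centralizer_singleton_iff, ← mul_inv_eq_iff_eq_mul,
          show u⁻¹ * u' * g * (u⁻¹ * u')⁻¹ = u⁻¹ * (u' * g * u'⁻¹) * u by group, hu'g]
        have h0 : u * g⁻¹ * u⁻¹ = g := by rw [← conj_inv, hug, inv_inv]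
        conv_rhs => rw [← h0]
        rw [hui]
      obtain ⟨d', hd', hdu'⟩ := exists_conj_eq_of_coset hKodd huu hc
        (by rw [mul_inv_cancel_left]; exact hu'u')
      rw [mul_inv_cancel_left] at hdu'
      have hd'g : d' * g * d'⁻¹ = g :=
        mul_inv_eq_iff_eq_mul.mpr (mem_centralizer_singleton_iff.mp hd')
      have hv'd : v' = d' * v * d'⁻¹ := by
        have h1 : u' * v' = u' * (d' * v * d'⁻¹) := by
          rw [huv]
          conv_lhs => rw [← hd'g, hg]
          rw [← hdu']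
          group
        exact mul_left_cancel h1
      refine ⟨e⁻¹ * d', hCmem.mpr ?_, d * ((d' * d)⁻¹ * (e * x)), ⟨d, rfl, _, hCmem.mpr ?_, rfl⟩,
        by group⟩
      · rw [show e⁻¹ * d' * u * (e⁻¹ * d')⁻¹ = e⁻¹ * (d' * u * d'⁻¹) * e by group, hdu', hu']
        group
      · rw [show (d' * d)⁻¹ * (e * x) * u * ((d' * d)⁻¹ * (e * x))⁻¹ =
          (d' * d)⁻¹ * v' * (d' * d) by rw [hv']; group, hv'd, ← hd]
        group
    · rintro ⟨k, hk, -, ⟨d₀, rfl, k₂, hk₂, rfl⟩, rfl⟩
      refine IsConj.symm (isConj_iff.mpr ⟨k, ?_⟩)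
      have h2 := hCmem.mp hk₂
      have h1 := hCmem.mp hk
      rw [show k * (d₀ * k₂) * u * (k * (d₀ * k₂))⁻¹ =
        k * (d₀ * (k₂ * u * k₂⁻¹) * d₀⁻¹) * k⁻¹ by group, h2, hd, hg]
      calc k * (u * v) * k⁻¹ = (k * u * k⁻¹) * (k * v * k⁻¹) := by group
        _ = u * (k * v * k⁻¹) := by rw [h1]
  -- its order is prime to `p`
  set N := Nat.card {x : G // IsConj (u * (x * u * x⁻¹)) g} with hN
  have hNp : ¬ p ∣ N := by
    intro hpN
    set D := C.map (MulAut.conj d).toMonoidHom with hD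
    have hset : (C : Set G) * ({d} * (C : Set G)) = (fun x => x * d) '' ((C : Set G) * (D : Set G))
        := by
      ext x
      simp only [Set.mem_mul, Set.mem_singleton_iff, Set.mem_image, SetLike.mem_coe, hD,
        Subgroup.mem_map, MulEquiv.coe_toMonoidHom, MulAut.conj_apply]
      constructor
      · rintro ⟨k, hk, -, ⟨d₀, rfl, k₂, hk₂, rfl⟩, rfl⟩
        exact ⟨_, ⟨k, hk, _, ⟨k₂, hk₂, rfl⟩, rfl⟩, by group⟩
      · rintro ⟨-, ⟨k, hk, -, ⟨k₂, hk₂, rfl⟩, rfl⟩, rfl⟩
        exact ⟨k, hk, _, ⟨d, rfl, k₂, hk₂, rfl⟩, by group⟩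
    have hN' : N = Nat.card ((C : Set G) * (D : Set G) : Set G) := by
      rw [hN, ← Nat.card_image_of_injective (fun x y e => mul_right_cancel e)
        ((C : Set G) * (D : Set G)), ← hset, ← hX]
      rfl
    have h1 := Coprime.ncard_mul_mul_card_inf C D
    rw [← hN', card_map_of_injective (MulAut.conj d).injective] at h1
    exact hp.not_dvd_mul (h.not_dvd_centralizer hu) (h.not_dvd_centralizer hu)
      (h1 ▸ hpN.mul_right _)
  -- the class multiplication identity
  set A := (Nat.card G).factorization p with hA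
  have hA1 : 0 < A := hp.factorization_pos_of_dvd Nat.card_pos.ne' hpG
  have hdpos : ∀ χ : IrrCharacter G, charDegree (χ : G → ℂ) ≠ 0 := fun χ => by
    rw [charDegree_eq_degree]; exact (Char.degree_pos χ).ne'
  have he : ∀ χ : IrrCharacter G, (charDegree (χ : G → ℂ)).factorization p ≤ A - 1 := by
    intro χ
    have h1 : (charDegree (χ : G → ℂ)).factorization p ≤ A :=
      (Nat.factorization_le_iff_dvd (hdpos χ) Nat.card_pos.ne').mpr (charDegree_dvd_card χ) p
    have h2 := hnd χ
    omega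
  set R := ∏ χ : IrrCharacter G,
    charDegree (χ : G → ℂ) / p ^ (charDegree (χ : G → ℂ)).factorization p with hR
  have hRp : ¬ p ∣ R := by
    intro h1
    obtain ⟨χ, -, hχ⟩ := (Prime.dvd_finsetProd_iff hp.prime _).mp h1
    exact Nat.not_dvd_ordCompl hp (hdpos χ) hχ
  set L := p ^ (A - 1) * R with hL
  have hdvd : ∀ χ : IrrCharacter G, charDegree (χ : G → ℂ) ∣ L := by
    intro χ
    rw [← Nat.ordProj_mul_ordCompl_eq_self (charDegree (χ : G → ℂ)) p, hL, hR]
    exact Nat.mul_dvd_mul (pow_dvd_pow p (he χ))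
      (Finset.dvd_prod_of_mem (fun ψ : IrrCharacter G =>
        charDegree (ψ : G → ℂ) / p ^ (charDegree (ψ : G → ℂ)).factorization p)
        (Finset.mem_univ χ))
  set S := ∑ χ : IrrCharacter G, (χ : G → ℂ) u * (χ : G → ℂ) u * conj ((χ : G → ℂ) g) *
    ((L / charDegree (χ : G → ℂ) : ℕ) : ℂ) with hS
  have hSint : IsIntegral ℤ S := by
    refine IsIntegral.sum _ fun χ _ => ?_
    have hr := isRepChar_of_isCharacter (Char.irr_isCharacter χ)
    rw [Char.IsCharacter.conj_apply (Char.irr_isCharacter χ)]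
    exact (((hr.isIntegral u).mul (hr.isIntegral u)).mul (hr.isIntegral _)).mul
      (isIntegral_algebraMap (R := ℤ) (x := ((L / charDegree (χ : G → ℂ) : ℕ) : ℤ)))
  have hS2 : ((Nat.card G : ℤ) : ℂ) * S =
      (((L : ℤ) * ((Nat.card (centralizer ({g} : Set G)) * N : ℕ) : ℤ) : ℤ) : ℂ) := by
    have h1 := sum_irr_mul_mul_conj_div u u g
    rw [eq_div_iff Char.card_ne_zero] at h1
    push_cast
    rw [hN, ← h1, hS, Finset.mul_sum, Finset.sum_mul, Finset.mul_sum]
    refine Finset.sum_congr rfl fun χ _ => ?_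
    rw [Nat.cast_div (hdvd χ) (Nat.cast_ne_zero.mpr (hdpos χ)), ← apply_one_eq_charDegree]
    ring
  obtain ⟨s, hs⟩ := exists_int_of_isIntegral hSint (Int.natCast_ne_zero.mpr Nat.card_pos.ne') hS2
  have hdvd' : Nat.card G ∣ L * (Nat.card (centralizer ({g} : Set G)) * N) := by
    rw [← Int.natCast_dvd_natCast]
    refine ⟨s, ?_⟩
    rw [hs] at hS2
    push_cast
    exact_mod_cast hS2.symm
  have h2 : p ^ (A - 1) * p ∣ p ^ (A - 1) *
      (R * (Nat.card (centralizer ({g} : Set G)) * N)) := by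
    rw [← pow_succ, show A - 1 + 1 = A by omega, ← mul_assoc, ← hL]
    exact (Nat.ordProj_dvd (Nat.card G) p).trans hdvd'
  rcases hp.dvd_mul.mp (Nat.dvd_of_mul_dvd_mul_left (pow_pos hp.pos _) h2) with h3 | h3
  · exact absurd h3 hRp
  · exact (hp.dvd_mul.mp h3).resolve_right hNp

/-- Two involutions with different fixed points have their product in a Sylow subgroup inverted
by the first. -/
theorem Data.exists_sylow_mul (hpG : p ∣ Nat.card G)
    (hnd : ∀ χ : IrrCharacter G,
      (charDegree (χ : G → ℂ)).factorization p ≠ (Nat.card G).factorization p)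
    {u v : G} (hu : orderOf u = 2) (hv : orderOf v = 2) {a b : Ω}
    (ha : u • a = a) (hb : v • b = b) (hab : a ≠ b) :
    ∃ P : Sylow p G, u * v ∈ (P : Subgroup G) ∧
      ∀ q ∈ (P : Subgroup G), u * q * u⁻¹ = q⁻¹ := by
  have hp : p.Prime := Fact.out
  have hKodd := h.odd_centralizer_mul hu hv ha hb hab
  have hpK := h.dvd_centralizer_mul hpG hnd hu hv ha hb hab
  have hgodd := h.odd_orderOf_mul hu hv ha hb hab
  have huu := mul_self_of_orderOf_two hu
  have hui := inv_of_orderOf_two hu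
  have hvi := inv_of_orderOf_two hv
  set g := u * v with hg
  set K := centralizer ({g} : Set G) with hK
  have hug : u * g * u⁻¹ = g⁻¹ := by
    rw [hg, mul_inv_rev, hui, hvi, ← mul_assoc, huu, one_mul]
  have hAK : zpowers u ≤ normalizer (K : Set G) := by
    have h0 : ∀ x, x ∈ K → u * x * u⁻¹ ∈ K := by
      intro x hx
      rw [hK, mem_centralizer_singleton_iff] at hx ⊢
      have h1 : u * (x * g⁻¹) * u⁻¹ = u * (g⁻¹ * x) * u⁻¹ := by
        rw [(Commute.inv_right (show Commute x g from hx)).eq]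
      have h2 : u * g⁻¹ * u⁻¹ = g := by rw [← conj_inv, hug, inv_inv]
      calc u * x * u⁻¹ * g = u * x * u⁻¹ * (u * g⁻¹ * u⁻¹) := by rw [h2]
        _ = u * (x * g⁻¹) * u⁻¹ := by group
        _ = u * (g⁻¹ * x) * u⁻¹ := h1
        _ = (u * g⁻¹ * u⁻¹) * (u * x * u⁻¹) := by group
        _ = g * (u * x * u⁻¹) := by rw [h2]
    rw [zpowers_le]
    refine mem_normalizer_iff.mpr fun x => ⟨h0 x, fun hx => ?_⟩
    have := h0 _ hx
    rw [hui] at this
    rwa [show u * (u * x * u) * u = u * u * x * (u * u) by group, huu, one_mul, mul_one] at this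
  obtain ⟨R, hR⟩ := Coprime.exists_invariant_sylow hAK (by
    rw [Nat.card_zpowers, hu]; exact hKodd.coprime_two_left)
    (Or.inl inferInstance) p
  obtain ⟨P, hP⟩ := (R.2.map K.subtype).exists_le_sylow
  obtain ⟨y, hy, hy1⟩ : ∃ y ∈ (R : Subgroup K).map K.subtype, y ≠ (1 : G) := by
    by_contra hcon
    push Not at hcon
    have h1 := R.card_eq_multiplicity
    rw [← card_map_of_injective K.subtype_injective, (eq_bot_iff_forall _).mpr hcon,
      card_bot] at h1
    have h2 := hp.factorization_pos_of_dvd Nat.card_pos.ne' hpK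
    exact absurd h1.symm (Nat.one_lt_pow h2.ne' hp.one_lt).ne'
  have hgy : g * y * g⁻¹ = y :=
    mul_inv_eq_iff_eq_mul.mpr (mem_centralizer_singleton_iff.mp (map_subtype_le _ hy)).symm
  have huy : u * y * u⁻¹ ∈ (P : Subgroup G) :=
    hP ((mem_normalizer_iff.mp (hR (mem_zpowers u)) y).mp hy)
  have hy' := hP hy
  -- conjugates of `P` by `u` and `g`
  have huP : u • P = P := h.ti (y := u * y * u⁻¹) ⟨y, hy', rfl⟩ huy
    (fun h1 => hy1 (conj_eq_one_iff.mp h1))
  have hgP : g • P = P := h.ti (y := y) ⟨y, hy', hgy⟩ hy' hy1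
  have hinv : ∀ q ∈ (P : Subgroup G), u * q * u⁻¹ = q⁻¹ := fun q hq =>
    h.inverts hu P (fun t ht => huP ▸ ⟨t, ht, rfl⟩) hq
  refine ⟨P, ?_, hinv⟩
  have hg2 : g * g ∈ (P : Subgroup G) := h.self_cent P fun q hq => by
    have hc : g * q * g⁻¹ ∈ (P : Subgroup G) := hgP ▸ ⟨q, hq, rfl⟩
    have h1 := hinv _ hc
    rw [show u * (g * q * g⁻¹) * u⁻¹ = (u * g * u⁻¹) * (u * q * u⁻¹) * (u * g * u⁻¹)⁻¹ by group,
      hug, hinv q hq] at h1
    have h2 := congrArg (fun t => g * t⁻¹ * g⁻¹) h1
    simp only [inv_inv] at h2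
    rw [show g * (g⁻¹ * q⁻¹ * g)⁻¹ * g⁻¹ = q by group] at h2
    calc q * (g * g) = g * (g * q * g⁻¹) * g⁻¹ * (g * g) := by rw [← h2]
      _ = g * g * q := by group
  obtain ⟨k, hk⟩ := hgodd
  have h3 : g = (g * g) ^ (k + 1) := by
    rw [← pow_two, ← pow_mul, show 2 * (k + 1) = orderOf g + 1 by omega, pow_succ,
      pow_orderOf_eq_one, one_mul]
  rw [h3]
  exact pow_mem hg2 _

end Unique

/-- The fixed point of an involution. -/
theorem Data.exists_pt [Nonempty Ω] : ∃ f : {v : G // orderOf v = 2} → Ω,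
    ∀ v a, v.1 • a = a ↔ a = f v := by
  choose f hf hf' using fun v : {v : G // orderOf v = 2} => h.existsUnique_fixed v.2
  exact ⟨f, fun v a => ⟨hf' v a, fun e => e ▸ hf v⟩⟩

omit h in
theorem odd_card_involutions_top (h2G : 2 ∣ Nat.card G) :
    Odd (Nat.card {v : G // orderOf v = 2}) := by
  haveI : Fact (Nat.Prime 2) := ⟨Nat.prime_two⟩
  have h1 := SmallSimple.odd_card_involutions (H := (⊤ : Subgroup G))
    (by rwa [Subgroup.card_top])
  rwa [Nat.card_congr (Equiv.subtypeEquivRight (q := fun v : G => orderOf v = 2) fun v => by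
    simp only [mem_top, true_and, ← pow_two]
    exact ⟨fun hv => orderOf_eq_prime hv.1 hv.2, fun hv =>
      ⟨hv ▸ pow_orderOf_eq_one v, ne_one_of_orderOf_two hv⟩⟩)] at h1

open scoped Classical in
/-- An involution inverts an odd number of Sylow subgroups. -/
theorem Data.odd_card_inverted [FaithfulSMul G Ω] (hpre : MulAction.IsPretransitive G Ω)
    (hpG : p ∣ Nat.card G) (h2G : 2 ∣ Nat.card G)
    (hnd : ∀ χ : IrrCharacter G,
      (charDegree (χ : G → ℂ)).factorization p ≠ (Nat.card G).factorization p)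
    (hr : 1 ≤ r) (hΩ : Nat.card Ω = p ^ r) {u : G} (hu : orderOf u = 2) :
    Odd (Nat.card {P : Sylow p G // ∀ q ∈ (P : Subgroup G), u * q * u⁻¹ = q⁻¹}) := by
  have hp : p.Prime := Fact.out
  haveI : Nonempty Ω := (Nat.card_pos_iff.mp (hΩ ▸ pow_pos hp.pos r)).1
  haveI := Fintype.ofFinite Ω
  obtain ⟨f, hf⟩ := h.exists_pt
  have hequiv : ∀ (c : G) (v : {v : G // orderOf v = 2}) (hc : orderOf (c * v.1 * c⁻¹) = 2),
      f ⟨c * v.1 * c⁻¹, hc⟩ = c • f v := by
    intro c v hc
    refine ((hf ⟨_, hc⟩ _).mp ?_).symm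
    show (c * v.1 * c⁻¹) • c • f v = c • f v
    rw [smul_smul, inv_mul_cancel_right, mul_smul, (hf v _).mpr rfl]
  set a := f ⟨u, hu⟩ with ha
  set m := Nat.card {v : {v : G // orderOf v = 2} // f v = a} with hm
  -- all fibres have the same size
  have hfib : ∀ b : Ω, Nat.card {v : {v : G // orderOf v = 2} // f v = b} = m := by
    intro b
    obtain ⟨c, rfl⟩ := hpre.exists_smul_eq a b
    let e : {v : G // orderOf v = 2} ≃ {v : G // orderOf v = 2} :=
      (MulAut.conj c).toEquiv.subtypeEquiv fun v => by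
        rw [MulEquiv.toEquiv_eq_coe, EquivLike.coe_coe, MulEquiv.orderOf_eq]
    refine (Nat.card_congr (e.subtypeEquiv fun v => ?_)).symm
    show f v = a ↔ f ⟨c * v.1 * c⁻¹, _⟩ = c • a
    exact ⟨fun e => (hequiv c v _).trans (congrArg _ e),
      fun e => smul_left_cancel c ((hequiv c v _).symm.trans e)⟩
  have hI : Nat.card {v : G // orderOf v = 2} = p ^ r * m := by
    rw [← Nat.card_congr (Equiv.sigmaFiberEquiv f), Nat.card_sigma,
      Finset.sum_congr rfl (fun b _ => hfib b), Finset.sum_const, Finset.card_univ,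
      ← Nat.card_eq_fintype_card, hΩ, smul_eq_mul]
  have hmodd : Odd m := (Nat.odd_mul.mp (hI ▸ odd_card_involutions_top h2G)).2
  -- the involutions with another fixed point
  set Su := {P : Sylow p G // ∀ q ∈ (P : Subgroup G), u * q * u⁻¹ = q⁻¹}
  have huu := mul_self_of_orderOf_two hu
  have hmk : ∀ (P : Su) (q : G), q ∈ (P.1 : Subgroup G) → q ≠ 1 →
      ∃ hv : orderOf (u * q) = 2, f ⟨u * q, hv⟩ ≠ a := by
    intro P q hq hq1
    have hne : u * q ≠ 1 := fun h1 => by
      have h3 := odd_orderOf_of_mem h.ne_two P.1 hq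
      rw [← inv_eq_of_mul_eq_one_right h1, orderOf_inv, hu] at h3
      exact absurd h3 (by decide)
    have hv : orderOf (u * q) = 2 := orderOf_eq_prime (by
      rw [pow_two, show u * q * (u * q) = (u * q * u⁻¹) * (u * u) * q by group, P.2 q hq, huu,
        mul_one, inv_mul_cancel]) hne
    refine ⟨hv, fun h1 => hq1 ?_⟩
    have h2 : (u * q) • a = a := (hf ⟨_, hv⟩ a).mpr h1.symm
    have h3 : u • a = a := (hf ⟨u, hu⟩ a).mpr rfl
    rw [mul_smul] at h2
    refine h.reg P.1 a q hq ?_
    have h4 := congrArg (fun x => u • x) h2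
    simp only [smul_smul, ← mul_assoc, huu, one_mul, h3] at h4
    exact h4
  let F : (Σ P : Su, {q : (P.1 : Subgroup G) // q ≠ 1}) →
      {v : {v : G // orderOf v = 2} // ¬ f v = a} := fun x =>
    ⟨⟨u * x.2.1.1, (hmk x.1 x.2.1.1 x.2.1.2 (fun e => x.2.2 (Subtype.ext e))).1⟩,
      (hmk x.1 x.2.1.1 x.2.1.2 (fun e => x.2.2 (Subtype.ext e))).2⟩
  have hF : Function.Bijective F := by
    constructor
    · rintro ⟨P, ⟨q, hq⟩, hq1⟩ ⟨P', ⟨q', hq'⟩, hq1'⟩ e
      have e' : u * q = u * q' := congrArg (fun v => v.1.1) e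
      obtain rfl := mul_left_cancel e'
      obtain rfl : P = P' := Subtype.ext (h.ti hq hq' (fun e => hq1 (Subtype.ext e)))
      rfl
    · rintro ⟨⟨v, hv⟩, hva⟩
      obtain ⟨P, hP, hPu⟩ := h.exists_sylow_mul hpG hnd hu hv ((hf ⟨u, hu⟩ a).mpr rfl)
        ((hf ⟨v, hv⟩ _).mpr rfl) (fun e => hva e.symm)
      refine ⟨⟨⟨P, hPu⟩, ⟨u * v, hP⟩, fun e => hva ?_⟩, Subtype.ext (Subtype.ext ?_)⟩
      · have e1 : u * v = 1 := congrArg Subtype.val e
        have e2 : v = u := (eq_inv_of_mul_eq_one_right e1).trans (inv_of_orderOf_two hu)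
        subst e2
        rfl
      · show u * (u * v) = v
        rw [← mul_assoc, huu, one_mul]
  haveI := Fintype.ofFinite Su
  have hk : Nat.card {v : {v : G // orderOf v = 2} // ¬ f v = a} =
      Nat.card Su * (p ^ r - 1) := by
    rw [← Nat.card_congr (Equiv.ofBijective F hF), Nat.card_sigma]
    have h1 : ∀ P : Su, Nat.card {q : (P.1 : Subgroup G) // q ≠ 1} = p ^ r - 1 := by
      intro P
      have hPc : Nat.card (P.1 : Subgroup G) = p ^ r := by
        rw [← hΩ]
        refine Nat.card_congr (Equiv.ofBijective (fun q => q.1 • a) ⟨fun q q' e => ?_, fun b => ?_⟩)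
        · have e' := h.reg P.1 a (q.1⁻¹ * q'.1) (mul_mem (inv_mem q.2) q'.2)
            (by rw [mul_smul, ← (show q.1 • a = q'.1 • a from e), inv_smul_smul])
          exact Subtype.ext (inv_mul_eq_one.mp e')
        · obtain ⟨g, hg, hgb⟩ := h.trans P.1 a b
          exact ⟨⟨g, hg⟩, hgb⟩
      rw [← hPc, Nat.card_eq_fintype_card, Nat.card_eq_fintype_card, Fintype.card_subtype_compl,
        Fintype.card_subtype_eq]
    rw [Finset.sum_congr rfl (fun P _ => h1 P), Finset.sum_const, Finset.card_univ,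
      ← Nat.card_eq_fintype_card, smul_eq_mul]
  have hsplit : m + Nat.card {v : {v : G // orderOf v = 2} // ¬ f v = a} = p ^ r * m := by
    rw [← hI, hm, ← Nat.card_sum]
    exact Nat.card_congr (Equiv.sumCompl fun v => f v = a)
  have hpr : 2 ≤ p ^ r := le_trans hp.two_le (Nat.le_self_pow (by omega) p)
  rw [hk, show p ^ r * m = m + m * (p ^ r - 1) by
    obtain ⟨j, hj⟩ := Nat.exists_eq_add_of_le hpr
    rw [hj, show 2 + j - 1 = j + 1 by omega]
    ring] at hsplit
  have := Nat.eq_of_mul_eq_mul_right (by omega) (Nat.add_left_cancel hsplit)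
  rwa [this]

/-- A Sylow `p`-subgroup is normal. -/
theorem Data.exists_normal [FaithfulSMul G Ω] (hpre : MulAction.IsPretransitive G Ω)
    (hpG : p ∣ Nat.card G) (h2G : 2 ∣ Nat.card G)
    (hnd : ∀ χ : IrrCharacter G,
      (charDegree (χ : G → ℂ)).factorization p ≠ (Nat.card G).factorization p)
    (hr : 1 ≤ r) (hΩ : Nat.card Ω = p ^ r) :
    ∃ P : Sylow p G, (P : Subgroup G).Normal := by
  classical
  have hp : p.Prime := Fact.out
  haveI : Fact (Nat.Prime 2) := ⟨Nat.prime_two⟩
  haveI : Nonempty Ω := (Nat.card_pos_iff.mp (hΩ ▸ pow_pos hp.pos r)).1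
  by_contra hno
  push Not at hno
  -- the odd core is trivial
  have hO : oddCore G = ⊥ := by
    obtain ⟨P⟩ : Nonempty (Sylow p G) := inferInstance
    have hPodd : Odd (Nat.card (P : Subgroup G)) := by
      rw [P.card_eq_multiplicity]
      exact (hp.odd_of_ne_two h.ne_two).pow
    have hKN : oddCore G ≤ normalizer ((P : Subgroup G) : Set G) := by
      refine le_sup_left.trans (h.odd_le P (oddCore G ⊔ (P : Subgroup G)) ?_ le_sup_right)
      exact (PCore.odd_card_oddCore.mul hPodd).of_dvd_nat (PCore.card_sup_dvd _ _)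
    rcases eq_or_ne (oddCore G ⊓ (P : Subgroup G)) ⊥ with hd | hd
    · refine (eq_bot_iff_forall _).mpr fun x hx => ?_
      have hxP : x ∈ (P : Subgroup G) := h.self_cent P fun q hq' => by
        have hq : q ∈ (P : Subgroup G) := hq'
        have h1 : q * x * q⁻¹ * x⁻¹ ∈ oddCore G ⊓ (P : Subgroup G) := by
          refine mem_inf.mpr ⟨mul_mem ((inferInstance : (oddCore G).Normal).conj_mem x hx q) (inv_mem hx), ?_⟩
          rw [mul_assoc q x, mul_assoc q]
          exact mul_mem hq ((mem_normalizer_iff.mp (hKN hx) q⁻¹).mp (inv_mem hq))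
        rw [hd, mem_bot, mul_inv_eq_one, mul_inv_eq_iff_eq_mul] at h1
        exact h1
      exact (eq_bot_iff_forall _).mp hd x ⟨hx, hxP⟩
    · exfalso
      obtain ⟨⟨y, hyK, hyP⟩, hy1⟩ : ∃ y : (oddCore G ⊓ (P : Subgroup G) : Subgroup G), y ≠ 1 :=
        ne_bot_iff_exists_ne_one.mp hd
      refine hno P (normalizer_eq_top_iff.mp (top_le_iff.mp fun g _ => ?_))
      refine Sylow.smul_eq_iff_mem_normalizer.mp ?_
      have hgy : g * y * g⁻¹ ∈ oddCore G :=
        (inferInstance : (oddCore G).Normal).conj_mem y hyK g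
      obtain ⟨k, hk⟩ := exists_pow_of_mem P hyP
      have hgyP : g * y * g⁻¹ ∈ (P : Subgroup G) := mem_of_normalizes P
        ⟨k, by rw [← hk]; exact (MulAut.conj g).orderOf_eq y⟩ (hKN hgy)
      exact h.ti (y := g * y * g⁻¹) ⟨y, hyP, rfl⟩ hgyP
        (fun e => hy1 (Subtype.ext (conj_eq_one_iff.mp e)))
  -- a central involution of a Sylow 2-subgroup
  obtain ⟨T⟩ : Nonempty (Sylow 2 G) := inferInstance
  have hT2 : 2 ∣ Nat.card (T : Subgroup G) := T.dvd_card_of_dvd_card h2G
  haveI : Nontrivial (T : Subgroup G) := Finite.one_lt_card_iff_nontrivial.mp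
    (lt_of_lt_of_le (by norm_num) (Nat.le_of_dvd Nat.card_pos hT2))
  haveI := T.2.center_nontrivial
  obtain ⟨n, hn0, hn⟩ := (T.2.to_subgroup (Subgroup.center (T : Subgroup G))).nontrivial_iff_card.mp
    inferInstance
  obtain ⟨⟨⟨u, huT⟩, huc⟩, hu⟩ := exists_prime_orderOf_dvd_card'
    (G := Subgroup.center (T : Subgroup G)) 2 (hn ▸ dvd_pow_self 2 hn0.ne')
  rw [Subgroup.orderOf_mk, Subgroup.orderOf_mk] at hu
  have hcomm : ∀ t ∈ (T : Subgroup G), t * u = u * t := fun t ht =>
    congrArg Subtype.val (Subgroup.mem_center_iff.mp huc ⟨t, ht⟩)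
  -- it fixes an inverted Sylow subgroup
  set Su := {P : Sylow p G // ∀ q ∈ (P : Subgroup G), u * q * u⁻¹ = q⁻¹}
  have hodd : Odd (Nat.card Su) := h.odd_card_inverted hpre hpG h2G hnd hr hΩ hu
  letI : MulAction (T : Subgroup G) Su :=
    { smul := fun t P => ⟨(t : G) • P.1, fun q hq => by
        obtain ⟨q', hq', rfl⟩ := hq
        show u * ((t : G) * q' * (t : G)⁻¹) * u⁻¹ = ((t : G) * q' * (t : G)⁻¹)⁻¹
        rw [conj_inv, ← P.2 q' hq']
        have e := hcomm t t.2
        calc u * ((t : G) * q' * (t : G)⁻¹) * u⁻¹ = (u * t) * q' * (u * t)⁻¹ := by group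
          _ = (t * u) * q' * (t * u)⁻¹ := by rw [e]
          _ = _ := by group⟩
      one_smul := fun P => Subtype.ext (one_smul G P.1)
      mul_smul := fun s t P => Subtype.ext (mul_smul (s : G) (t : G) P.1) }
  obtain ⟨⟨P, hPu⟩, hPfix⟩ := T.2.nonempty_fixed_point_of_prime_not_dvd_card Su
    (fun h2 => Nat.not_even_iff_odd.mpr hodd (even_iff_two_dvd.mpr h2))
  have hTP : ∀ t ∈ (T : Subgroup G), ∀ q ∈ (P : Subgroup G), t * q * t⁻¹ ∈ (P : Subgroup G) := by
    intro t ht q hq
    have e : t • P = P := congrArg Subtype.val (hPfix ⟨t, ht⟩)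
    rw [← e]
    exact ⟨q, hq, rfl⟩
  -- so it is the only involution of `T`
  have huniq : ∀ w ∈ (T : Subgroup G), w ^ 2 = 1 → w = 1 ∨ w = u := by
    intro w hwT hw
    rcases eq_or_ne w 1 with rfl | hw1
    · exact Or.inl rfl
    refine Or.inr ?_
    have hw2 : orderOf w = 2 := orderOf_eq_prime hw hw1
    have hwP : ∀ q ∈ (P : Subgroup G), w * q * w⁻¹ = q⁻¹ :=
      fun q hq => h.inverts hw2 P (hTP w hwT) hq
    have hc : u * w ∈ centralizer ((P : Subgroup G) : Set G) := fun q hq => by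
      have e : u * w * q * (u * w)⁻¹ = q := by
        rw [show u * w * q * (u * w)⁻¹ = u * (w * q * w⁻¹) * u⁻¹ by group, hwP q hq,
          hPu _ (inv_mem hq), inv_inv]
      exact (mul_inv_eq_iff_eq_mul.mp e).symm
    have h1 : u * w = 1 := by
      have hP' := h.self_cent P hc
      obtain ⟨i, hi⟩ := (IsPGroup.iff_orderOf.mp T.2) ⟨u * w, mul_mem huT hwT⟩
      rw [Subgroup.orderOf_mk] at hi
      have h3 := odd_orderOf_of_mem h.ne_two P hP'
      rw [hi] at h3
      rcases Nat.eq_zero_or_pos i with rfl | hi0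
      · exact orderOf_eq_one_iff.mp (by rw [hi, pow_zero])
      · exact absurd h3 (Nat.not_odd_iff_even.mpr (Nat.even_pow.mpr ⟨even_two, hi0.ne'⟩))
    exact (eq_inv_of_mul_eq_one_right h1).trans (inv_of_orderOf_two hu)
  have hK4 := fun E => ZStar.no_kleinFour_of_unique huniq E
  have hcen := ZStar.mem_center_of_oddCore_eq_bot
    (ZStar.inZStar (ZStar.isolated_of_no_kleinFour hK4 hu)) hO
  obtain ⟨a, ha, huniqa⟩ := h.existsUnique_fixed hu
  have hall : ∀ b : Ω, b = a := fun b => by
    obtain ⟨c, rfl⟩ := hpre.exists_smul_eq a b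
    refine huniqa _ ?_
    show u • c • a = c • a
    rw [smul_smul, ← (Subgroup.mem_center_iff.mp hcen c), mul_smul, ha]
  haveI : Subsingleton Ω := ⟨fun b c => (hall b).trans (hall c).symm⟩
  rw [Nat.card_of_subsingleton a] at hΩ
  exact absurd hΩ.symm (Nat.one_lt_pow (by omega) hp.one_lt).ne'

end Cfsg.Agent.BlockCount.OddCent

namespace Cfsg.Agent.BlockCount

open Subgroup Cfsg

universe u v

/-- Odd centralisers of `p`-elements and a transitive action of `p`-power degree. -/
theorem defect_zero_or_pSolvable_of_transitive (hFT : FTConsumers.OddOrder.{u})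
    {G : Type u} [Group G] [Finite G] {Ω : Type v} [MulAction G Ω] [FaithfulSMul G Ω] [Finite Ω]
    (hpre : MulAction.IsPretransitive G Ω) (p : ℕ) [Fact p.Prime] (hp2 : p ≠ 2)
    (hpG : p ∣ Nat.card G) (h2G : 2 ∣ Nat.card G)
    (hC : ∀ g : G, g ≠ 1 → (∃ k : ℕ, orderOf g = p ^ k) →
      Odd (Nat.card (centralizer ({g} : Set G))))
    (r : ℕ) (hr : 1 ≤ r) (hΩ : Nat.card Ω = p ^ r) :
    (∃ χ : IrrCharacter G,
      (charDegree (χ : G → ℂ)).factorization p = (Nat.card G).factorization p) ∨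
    (IsPSolvable p G ∧ ∃ χ : IrrCharacter G,
      (charDegree (χ : G → ℂ)).factorization 2 = (Nat.card G).factorization 2) := by
  classical
  refine or_iff_not_imp_left.mpr fun hno => ?_
  have hnd : ∀ χ : IrrCharacter G,
      (charDegree (χ : G → ℂ)).factorization p ≠ (Nat.card G).factorization p :=
    fun χ e => hno ⟨χ, e⟩
  letI := Fintype.ofFinite G
  have h := OddCent.data hFT hp2 hpG h2G hC hnd hpre hΩ
  obtain ⟨P, hP⟩ := h.exists_normal hpre hpG h2G hnd hr hΩ
  haveI := hP
  have hp : p.Prime := Fact.out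
  refine ⟨PCore.isPSolvable_of_normal (P : Subgroup G) (PCore.isPSolvable_of_isPGroup P.2)
    (PCore.isPSolvable_of_coprime ?_), ?_⟩
  · rw [← Subgroup.index_eq_card]
    exact ((hp.coprime_iff_not_dvd).mpr P.not_dvd_index).symm
  -- a nontrivial linear character of `P`
  obtain ⟨y, hy1⟩ : ∃ y : (P : Subgroup G), y ≠ 1 := by
    have h1 : 1 < Nat.card (P : Subgroup G) :=
      lt_of_lt_of_le hp.one_lt (Nat.le_of_dvd Nat.card_pos (P.dvd_card_of_dvd_card hpG))
    haveI := Finite.one_lt_card_iff_nontrivial.mp h1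
    exact exists_ne 1
  letI : CommGroup (P : Subgroup G) :=
    { (inferInstance : Group (P : Subgroup G)) with
      mul_comm := fun a b => Subtype.ext (h.comm P a a.2 b b.2) }
  obtain ⟨f, hf⟩ := CommGroup.exists_apply_ne_one_of_hasEnoughRootsOfUnity (P : Subgroup G) ℂ hy1
  haveI := Fintype.ofFinite (P : Subgroup G)
  set θ := ThreePrimes.linC f with hθ
  obtain ⟨χ, hχ⟩ := ThreePrimes.exists_index_inertia_dvd (P : Subgroup G) θ
  rw [hθ, ThreePrimes.degree_linC, mul_one, ← hθ] at hχ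
  refine ⟨χ, ?_⟩
  set I := Char.inertia (P : Subgroup G) θ.1 with hI
  have hIodd : ¬ 2 ∣ Nat.card I := by
    intro h2
    haveI : Fact (Nat.Prime 2) := ⟨Nat.prime_two⟩
    obtain ⟨⟨v, hvI⟩, hv⟩ := exists_prime_orderOf_dvd_card' 2 h2
    rw [Subgroup.orderOf_mk] at hv
    have hinv : ∀ q ∈ (P : Subgroup G), v * q * v⁻¹ = q⁻¹ :=
      fun q hq => h.inverts hv P (fun t ht => hP.conj_mem t ht v) hq
    refine hf ?_
    have h1 := (Char.mem_inertia_iff (P : Subgroup G)).mp hvI y y⁻¹
      (by rw [hinv y y.2]; rfl)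
    rw [hθ, ThreePrimes.linC_apply, ThreePrimes.linC_apply] at h1
    have h3 : f y⁻¹ = f y := Units.ext h1
    have h2 : f y * f y = 1 := by
      calc f y * f y = f y⁻¹ * f y := by rw [h3]
        _ = 1 := by rw [← map_mul, inv_mul_cancel, map_one]
    obtain ⟨k, hk⟩ := OddCent.odd_orderOf_of_mem hp2 P y.2
    have h4 : y ^ orderOf (y : G) = 1 := by
      rw [Subgroup.orderOf_coe, pow_orderOf_eq_one]
    have h5 := congrArg f h4
    rw [map_pow, map_one, hk, pow_succ, pow_mul, pow_two, h2, one_pow, one_mul] at h5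
    exact h5
  have hdeg : charDegree (χ : G → ℂ) ≠ 0 := by
    rw [charDegree_eq_degree]; exact (Char.degree_pos χ).ne'
  refine le_antisymm
    ((Nat.factorization_le_iff_dvd hdeg Nat.card_pos.ne').mpr (charDegree_dvd_card χ) 2) ?_
  rw [← I.card_mul_index, Nat.factorization_mul Nat.card_pos.ne' I.index_ne_zero_of_finite,
    Finsupp.add_apply, Nat.factorization_eq_zero_of_not_dvd hIodd, zero_add, charDegree_eq_degree]
  exact (Nat.factorization_le_iff_dvd I.index_ne_zero_of_finite (Char.degree_pos χ).ne').mpr hχ 2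

end Cfsg.Agent.BlockCount
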