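import Mathlib

/-!
# Sums of characters over the p-regular elements

For every complex representation of a finite group `G` the sum of the character over the
`p`-regular elements is an integer divisible by the `p'`-part of the order of `G`
(a generalisation of a theorem of Frobenius).  The proof restricts to the subgroups `H` with a
cyclic normal subgroup of `q`-power index (`q` a prime different from `p`) and multiplies
permutation characters on their cosets.
-/

set_option autoImplicit false

open scoped Classical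

namespace Cfsg.Agent.BlockCount

universe u v

variable {G : Type u} [Group G]

/-- Sum of a function over the `p`-regular elements. -/
noncomputable def pregSum [Fintype G] (p : ℕ) (f : G → ℂ) : ℂ :=
  ∑ g ∈ Finset.univ.filter (fun g : G => ¬ p ∣ orderOf g), f g

/-- `f` is the trace function of a finite-dimensional complex representation. -/
def IsRepChar (G : Type u) [Group G] (f : G → ℂ) : Prop :=
  ∃ (V : Type) (_ : AddCommGroup V) (_ : Module ℂ V) (_ : FiniteDimensional ℂ V)
    (ρ : Representation ℂ G V), ρ.character = f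

theorem IsRepChar.comp {H : Type v} [Group H] {f : G → ℂ} (hf : IsRepChar G f) (φ : H →* G) :
    IsRepChar H (fun h => f (φ h)) := by
  obtain ⟨V, i1, i2, i3, ρ, rfl⟩ := hf
  exact ⟨V, i1, i2, i3, ρ.comp φ, rfl⟩

theorem IsRepChar.conj_eq {f : G → ℂ} (hf : IsRepChar G f) (g h : G) :
    f (h * g * h⁻¹) = f g := by
  obtain ⟨V, i1, i2, i3, ρ, rfl⟩ := hf
  exact Representation.char_conj ρ g h

theorem IsRepChar.mul {f f' : G → ℂ} (hf : IsRepChar G f) (hf' : IsRepChar G f') :
    IsRepChar G (f * f') := by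
  obtain ⟨V, i1, i2, i3, ρ, rfl⟩ := hf
  obtain ⟨W, j1, j2, j3, σ, rfl⟩ := hf'
  exact ⟨TensorProduct ℂ V W, inferInstance, inferInstance, inferInstance, ρ.tprod σ,
    Representation.char_tensor ρ σ⟩

/-- The permutation representation on functions. -/
noncomputable def funRep (X : Type v) [MulAction G X] : Representation ℂ G (X → ℂ) where
  toFun g := LinearMap.funLeft ℂ ℂ (fun x => g⁻¹ • x)
  map_one' := by ext f x; simp [LinearMap.funLeft]
  map_mul' g h := by ext f x; simp [LinearMap.funLeft, mul_smul]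

theorem funRep_character (X : Type v) [MulAction G X] [Finite X] (g : G) :
    (funRep (G := G) X).character g = (Nat.card {x : X // g • x = x} : ℂ) := by
  haveI := Fintype.ofFinite X
  unfold Representation.character
  rw [LinearMap.trace_eq_matrix_trace ℂ (Pi.basisFun ℂ X), Matrix.trace]
  simp only [Matrix.diag, LinearMap.toMatrix_apply, Pi.basisFun_repr, Pi.basisFun_apply]
  rw [Nat.card_eq_fintype_card, Fintype.card_subtype, ← Finset.sum_boole]
  refine Finset.sum_congr rfl (fun x _ => ?_)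
  simp only [funRep, MonoidHom.coe_mk, OneHom.coe_mk, LinearMap.funLeft_apply, Pi.single_apply]
  simp [eq_inv_smul_iff, inv_smul_eq_iff, eq_comm]

theorem IsRepChar.sum_eq {f : G → ℂ} [Fintype G] (hf : IsRepChar G f) :
    ∃ r : ℕ, ∑ g : G, f g = (Nat.card G : ℂ) * r := by
  obtain ⟨V, i1, i2, i3, ρ, rfl⟩ := hf
  have hne : (Nat.card G : ℂ) ≠ 0 := Nat.cast_ne_zero.mpr Nat.card_pos.ne'
  haveI := invertibleOfNonzero hne
  refine ⟨Module.finrank ℂ (Representation.invariants ρ), ?_⟩
  rw [← Representation.card_inv_mul_sum_char_eq_finrank ρ, ← mul_assoc, mul_inv_cancel₀ hne,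
    one_mul]

theorem isIntegral_trace_of_pow_eq_one {V : Type v} [AddCommGroup V] [Module ℂ V]
    [FiniteDimensional ℂ V] (f : Module.End ℂ V) {n : ℕ} (hn : 0 < n) (hf : f ^ n = 1) :
    IsIntegral ℤ (LinearMap.trace ℂ V f) := by
  let b := Module.finBasis ℂ V
  rw [LinearMap.trace_eq_matrix_trace ℂ b, Matrix.trace_eq_sum_roots_charpoly]
  refine IsIntegral.multiset_sum fun μ hμ => ?_
  rw [LinearMap.charpoly_toMatrix] at hμ
  have h1 : f.HasEigenvalue μ :=
    (Module.End.hasEigenvalue_iff_isRoot_charpoly f μ).mpr (Polynomial.isRoot_of_mem_roots hμ)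
  obtain ⟨w, hw⟩ := h1.exists_hasEigenvector
  have h2 := hw.pow_apply n
  rw [hf] at h2
  simp only [Module.End.one_apply] at h2
  have h3 : μ ^ n = 1 := by
    by_contra h
    have h4 : (μ ^ n - 1) • w = 0 := by rw [sub_smul, one_smul, ← h2, sub_self]
    rcases smul_eq_zero.mp h4 with h5 | h5
    · exact h (sub_eq_zero.mp h5)
    · exact hw.2 h5
  exact IsIntegral.of_pow hn (h3 ▸ isIntegral_one)

theorem IsRepChar.isIntegral [Finite G] {f : G → ℂ} (hf : IsRepChar G f) (g : G) :
    IsIntegral ℤ (f g) := by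
  obtain ⟨V, i1, i2, i3, ρ, rfl⟩ := hf
  refine isIntegral_trace_of_pow_eq_one (ρ g) (orderOf_pos g) ?_
  rw [← map_pow, pow_orderOf_eq_one, map_one]

/-- The character of a representation on a subspace of fixed points of a normal subgroup. -/
theorem IsRepChar.fixed_normal [Fintype G] {f : G → ℂ} (hf : IsRepChar G f) (K : Subgroup G)
    [hK : K.Normal] :
    ∃ F : G → ℂ, IsRepChar G F ∧ (∀ x k : G, k ∈ K → F (x * k) = F x) ∧
      ∀ H : Subgroup G, K ≤ H → ∑ g : H, f g = ∑ g : H, F g := by
  obtain ⟨V, i1, i2, i3, ρ, rfl⟩ := hf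
  let W : Submodule ℂ V := Representation.invariants (ρ.comp K.subtype)
  have hW : ∀ g : G, ∀ w ∈ W, ρ g w ∈ W := by
    intro g w hw k
    have h1 : ρ (k : G) (ρ g w) = ρ g (ρ (g⁻¹ * (k : G) * g) w) := by
      rw [← Module.End.mul_apply, ← map_mul, ← Module.End.mul_apply, ← map_mul]
      congr 2
      group
    have h2 : ρ (g⁻¹ * (k : G) * g) w = w :=
      hw ⟨g⁻¹ * (k : G) * g, by simpa using hK.conj_mem (k : G) k.2 g⁻¹⟩
    show ρ (k : G) (ρ g w) = ρ g w
    rw [h1, h2]
  let σ : Representation ℂ G W :=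
    { toFun := fun g => (ρ g).restrict (hW g)
      map_one' := by ext w; simp [LinearMap.restrict_apply]
      map_mul' := fun g h => by ext w; simp [LinearMap.restrict_apply] }
  refine ⟨σ.character, ⟨W, inferInstance, inferInstance, inferInstance, σ, rfl⟩, ?_, ?_⟩
  · intro x k hk
    have hk1 : σ k = 1 := by
      ext w
      exact w.2 ⟨k, hk⟩
    simp [Representation.character, map_mul, hk1]
  intro H hKH
  have hne : (Nat.card H : ℂ) ≠ 0 := Nat.cast_ne_zero.mpr Nat.card_pos.ne'
  haveI := invertibleOfNonzero hne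
  have e1 := Representation.card_inv_mul_sum_char_eq_finrank (ρ.comp H.subtype)
  have e2 := Representation.card_inv_mul_sum_char_eq_finrank (σ.comp H.subtype)
  refine mul_left_cancel₀ (inv_ne_zero hne) (e1.trans (Eq.trans ?_ e2.symm))
  norm_cast
  refine LinearEquiv.finrank_eq
    { toFun := fun v => ⟨⟨v.1, fun k => v.2 ⟨(k : G), hKH k.2⟩⟩, fun h => Subtype.ext (v.2 h)⟩
      map_add' := fun _ _ => rfl
      map_smul' := fun _ _ => rfl
      invFun := fun w => ⟨w.1.1, fun h => congrArg Subtype.val (w.2 h)⟩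
      left_inv := fun _ => rfl
      right_inv := fun _ => rfl }

/-- `X` is an integral multiple of `N`. -/
def IntMultiple (N : ℕ) (X : ℂ) : Prop := ∃ z : ℤ, X = (N : ℂ) * z

theorem IntMultiple.add {N : ℕ} {X Y : ℂ} (h : IntMultiple N X) (h' : IntMultiple N Y) :
    IntMultiple N (X + Y) := by
  obtain ⟨a, rfl⟩ := h
  obtain ⟨b, rfl⟩ := h'
  exact ⟨a + b, by push_cast; ring⟩

theorem IntMultiple.sub {N : ℕ} {X Y : ℂ} (h : IntMultiple N X) (h' : IntMultiple N Y) :
    IntMultiple N (X - Y) := by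
  obtain ⟨a, rfl⟩ := h
  obtain ⟨b, rfl⟩ := h'
  exact ⟨a - b, by push_cast; ring⟩

theorem IntMultiple.int_mul {N : ℕ} {X : ℂ} (h : IntMultiple N X) (c : ℤ) :
    IntMultiple N ((c : ℂ) * X) := by
  obtain ⟨a, rfl⟩ := h
  exact ⟨c * a, by push_cast; ring⟩

theorem IntMultiple.of_dvd {N M : ℕ} {X : ℂ} (h : IntMultiple M X) (hd : N ∣ M) :
    IntMultiple N X := by
  obtain ⟨a, rfl⟩ := h
  obtain ⟨c, rfl⟩ := hd
  exact ⟨c * a, by push_cast; ring⟩

/-- An algebraic integer with an integral multiple is an integer. -/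
theorem exists_int_of_isIntegral {S : ℂ} {c N : ℤ} (hS : IsIntegral ℤ S) (hc : c ≠ 0)
    (h : (c : ℂ) * S = (N : ℂ)) : ∃ z : ℤ, S = (z : ℂ) := by
  have h1 : S = algebraMap ℚ ℂ ((N : ℚ) / (c : ℚ)) := by
    rw [map_div₀, map_intCast, map_intCast, eq_div_iff (Int.cast_ne_zero.mpr hc), mul_comm, h]
  rw [h1, isIntegral_algebraMap_iff (algebraMap ℚ ℂ).injective,
    IsIntegrallyClosed.isIntegral_iff] at hS
  obtain ⟨z, hz⟩ := hS
  refine ⟨z, ?_⟩
  rw [h1, ← hz]
  simp

section Cyclic

variable [Fintype G]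

/-- An element commuting with a non-identity element of a cyclic normal Sylow `p`-subgroup
centralises all of it. -/
theorem centralizes_of_commute {p : ℕ} [Fact p.Prime] (A : Subgroup G) [A.Normal] [IsCyclic A]
    (hA : IsPGroup p A) (hidx : ¬ p ∣ A.index) {a g : G} (ha : a ∈ A) (hne : a ≠ 1)
    (hc : g * a = a * g) : g ∈ Subgroup.centralizer (A : Set G) := by
  obtain ⟨c, hcg⟩ := IsCyclic.exists_generator (α := A)
  obtain ⟨n, hn⟩ := Subgroup.mem_zpowers_iff.mp
    (hcg (⟨g * c * g⁻¹, (inferInstance : A.Normal).conj_mem c c.2 g⟩ : A))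
  have hn' : g * c * g⁻¹ = (c : G) ^ n := by
    have := congrArg Subtype.val hn
    simpa using this.symm
  have hall : ∀ x ∈ A, g * x * g⁻¹ = x ^ n := by
    intro x hx
    obtain ⟨m, hm⟩ := Subgroup.mem_zpowers_iff.mp (hcg ⟨x, hx⟩)
    have hm' : x = (c : G) ^ m := by
      have := congrArg Subtype.val hm
      simpa using this.symm
    rw [hm', ← conj_zpow, hn', ← zpow_mul, ← zpow_mul, mul_comm]
  have hiter : ∀ k : ℕ, ∀ x ∈ A, g ^ k * x * (g ^ k)⁻¹ = x ^ (n ^ k : ℤ) := by
    intro k
    induction k with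
    | zero => intro x _; simp
    | succ k ih =>
      intro x hx
      have h1 : g ^ (k + 1) * x * (g ^ (k + 1))⁻¹ = g * (g ^ k * x * (g ^ k)⁻¹) * g⁻¹ := by
        rw [pow_succ']; group
      rw [h1, ih x hx, hall _ (A.zpow_mem hx _), ← zpow_mul, pow_succ', mul_comm]
  have hn1 : (p : ℤ) ∣ n - 1 := by
    have h1 : a ^ n = a := by
      rw [← hall a ha, hc, mul_inv_cancel_right]
    have h2 : a ^ (n - 1) = 1 := by rw [zpow_sub, h1, zpow_one, mul_inv_cancel]
    have h3 : p ∣ orderOf a := by
      have h4 := hA.dvd_orderOf (g := (⟨a, ha⟩ : A)) (by simpa [Subtype.ext_iff] using hne)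
      rwa [Subgroup.orderOf_mk] at h4
    exact (Int.natCast_dvd_natCast.mpr h3).trans (orderOf_dvd_iff_zpow_eq_one.mpr h2)
  obtain ⟨e, he⟩ := hA.exists_card_eq
  have h5 : ((p : ℤ) ^ (e + 1)) ∣ n ^ (p ^ e) - 1 := by
    have := dvd_sub_pow_of_dvd_sub (R := ℤ) (p := p) hn1 e
    simpa using this
  have hpe : g ^ (p ^ e) ∈ Subgroup.centralizer (A : Set G) := by
    rw [Subgroup.mem_centralizer_iff]
    intro x hx
    have h6 := hiter (p ^ e) x hx
    have h7 : x ^ (n ^ (p ^ e) - 1) = 1 := by
      rw [← orderOf_dvd_iff_zpow_eq_one]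
      refine dvd_trans ?_ h5
      refine dvd_trans (Int.natCast_dvd_natCast.mpr (A.orderOf_dvd_natCard hx)) ?_
      rw [he]
      push_cast
      exact pow_dvd_pow _ (Nat.le_succ _)
    rw [zpow_sub, zpow_one, mul_inv_eq_one] at h7
    rw [h7, mul_inv_eq_iff_eq_mul] at h6
    exact h6.symm
  have hidx' : g ^ A.index ∈ Subgroup.centralizer (A : Set G) := by
    have h8 : A ≤ Subgroup.centralizer (A : Set G) := by
      letI := IsCyclic.commGroup (α := A)
      intro x hx
      rw [Subgroup.mem_centralizer_iff]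
      intro y hy
      exact congrArg Subtype.val (mul_comm (⟨y, hy⟩ : A) ⟨x, hx⟩)
    exact h8 (Subgroup.pow_index_mem A g)
  have hcop : Nat.gcd (p ^ e) A.index = 1 :=
    Nat.Coprime.pow_left e ((Fact.out : p.Prime).coprime_iff_not_dvd.mpr hidx)
  have hbez := Nat.gcd_eq_gcd_ab (p ^ e) A.index
  rw [hcop] at hbez
  have hg : g = (g ^ (p ^ e)) ^ Nat.gcdA (p ^ e) A.index *
      (g ^ A.index) ^ Nat.gcdB (p ^ e) A.index := by
    rw [← zpow_natCast g (p ^ e), ← zpow_natCast g A.index, ← zpow_mul, ← zpow_mul, ← zpow_add,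
      ← hbez]
    simp
  rw [hg]
  exact mul_mem (zpow_mem hpe _) (zpow_mem hidx' _)

/-- The class of `a` has as many elements as the index of its centraliser. -/
theorem card_carrier_eq_index (a : G) :
    (Subgroup.centralizer ({a} : Set G)).index = Nat.card (ConjClasses.mk a).carrier := by
  rw [← ConjAct.orbit_eq_carrier_conjClasses, Nat.card_congr
    (MulAction.orbitEquivQuotientStabilizer (ConjAct G) a), ← Subgroup.index,
    Subgroup.centralizer_eq_comap_stabilizer]
  exact Subgroup.index_comap_of_surjective _ ConjAct.toConjAct.surjective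

/-- Sum of a function constant on the classes in a conjugation-invariant set all of whose
elements have classes of size `m`. -/
theorem exists_sum_eq_mul_of_class_size {F : G → ℂ} (hF : ∀ g h : G, F (h * g * h⁻¹) = F g)
    (hint : ∀ g, IsIntegral ℤ (F g)) (T : Finset G) (hT : ∀ a ∈ T, ∀ h : G, h * a * h⁻¹ ∈ T)
    (m : ℕ) (hm : ∀ a ∈ T, (Subgroup.centralizer ({a} : Set G)).index = m) :
    ∃ w : ℂ, IsIntegral ℤ w ∧ ∑ a ∈ T, F a = (m : ℂ) * w := by
  refine ⟨∑ C ∈ T.image ConjClasses.mk, F (Quotient.out C), IsIntegral.sum _ fun C _ => hint _, ?_⟩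
  rw [← Finset.sum_fiberwise_of_maps_to (g := ConjClasses.mk) (t := T.image ConjClasses.mk)
    (fun a ha => Finset.mem_image_of_mem _ ha), Finset.mul_sum]
  refine Finset.sum_congr rfl fun C hC => ?_
  obtain ⟨a, haT, rfl⟩ := Finset.mem_image.mp hC
  have hfib : T.filter (fun b => ConjClasses.mk b = ConjClasses.mk a) =
      (ConjClasses.mk a).carrier.toFinset := by
    ext b
    simp only [Finset.mem_filter, Set.mem_toFinset, ConjClasses.mem_carrier_iff_mk_eq]
    constructor
    · exact fun h => h.2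
    · intro h
      refine ⟨?_, h⟩
      obtain ⟨c, hc⟩ := isConj_iff.mp (ConjClasses.mk_eq_mk_iff_isConj.mp h.symm)
      rw [← hc]
      exact hT a haT c
  rw [hfib]
  have hval : ∀ b ∈ (ConjClasses.mk a).carrier.toFinset,
      F b = F (Quotient.out (ConjClasses.mk a)) := by
    intro b hb
    rw [Set.mem_toFinset, ConjClasses.mem_carrier_iff_mk_eq] at hb
    have h1 : ConjClasses.mk (Quotient.out (ConjClasses.mk a)) = ConjClasses.mk b := by
      rw [hb]; exact Quotient.out_eq _
    obtain ⟨c, hc⟩ := isConj_iff.mp (ConjClasses.mk_eq_mk_iff_isConj.mp h1)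
    rw [← hc, hF]
  rw [Finset.sum_congr rfl hval, Finset.sum_const, nsmul_eq_mul]
  congr 2
  rw [Set.toFinset_card, ← hm a haT, ← Nat.card_eq_fintype_card]
  exact (card_carrier_eq_index a).symm

/-- If `A` is a cyclic normal Sylow `p`-subgroup then the sum of a character over the
`p`-regular elements is an integral multiple of the index of `A`. -/
theorem pregSum_cyclic_sylow {p : ℕ} [Fact p.Prime] (A : Subgroup G) [A.Normal] [IsCyclic A]
    (hA : IsPGroup p A) (hidx : ¬ p ∣ A.index) {f : G → ℂ} (hf : IsRepChar G f) :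
    IntMultiple A.index (pregSum p f) := by
  have hp : p.Prime := Fact.out
  obtain ⟨e, he⟩ := hA.exists_card_eq
  set H₀ := Subgroup.centralizer (A : Set G) with hH₀
  have hAH₀ : A ≤ H₀ := by
    letI := IsCyclic.commGroup (α := A)
    intro x hx
    rw [hH₀, Subgroup.mem_centralizer_iff]
    intro y hy
    exact congrArg Subtype.val (mul_comm (⟨y, hy⟩ : A) ⟨x, hx⟩)
  have hmemA : ∀ x : G, (∃ k, orderOf x = p ^ k) → x ∈ A := by
    rintro x ⟨k, hk⟩
    have h1 : x ^ A.index ∈ A := Subgroup.pow_index_mem A x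
    have hcop : Nat.gcd (p ^ k) A.index = 1 :=
      Nat.Coprime.pow_left k (hp.coprime_iff_not_dvd.mpr hidx)
    have hbez := Nat.gcd_eq_gcd_ab (p ^ k) A.index
    rw [hcop] at hbez
    have hx : x = (x ^ A.index) ^ Nat.gcdB (p ^ k) A.index := by
      have h2 : x ^ (1 : ℤ) = (x ^ A.index) ^ Nat.gcdB (p ^ k) A.index := by
        rw [show (1 : ℤ) = _ from by exact_mod_cast hbez, zpow_add, zpow_mul, zpow_natCast,
          ← hk, pow_orderOf_eq_one, one_zpow, one_mul, zpow_mul, zpow_natCast]
      rwa [zpow_one] at h2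
    rw [hx]
    exact A.zpow_mem h1 _
  have hout : ∀ g : G, g ∉ H₀ → ¬ p ∣ orderOf g := by
    intro g hg hdvd
    refine hg (centralizes_of_commute A hA hidx (a := g ^ (orderOf g / p)) ?_ ?_ ?_)
    · exact hmemA _ ⟨1, by rw [pow_one]; exact orderOf_pow_orderOf_div (orderOf_pos g).ne' hdvd⟩
    · intro h
      have h1 := orderOf_pow_orderOf_div (orderOf_pos g).ne' hdvd
      rw [h, orderOf_one] at h1
      exact hp.one_lt.ne h1
    · rw [← pow_succ, ← pow_succ']
  -- the complement inside the centraliser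
  have hdvdA : (A.subgroupOf H₀).index ∣ A.index := by
    rw [← Subgroup.relIndex]
    exact Subgroup.relIndex_dvd_index_of_normal A H₀
  have hcard : Nat.card (A.subgroupOf H₀) = p ^ e := by
    rw [Nat.card_congr (Subgroup.subgroupOfEquivOfLe hAH₀).toEquiv, he]
  obtain ⟨K', hK'⟩ := Subgroup.exists_right_complement'_of_coprime (N := A.subgroupOf H₀) (by
    rw [hcard]
    exact Nat.Coprime.pow_left e
      (Nat.Coprime.coprime_dvd_right hdvdA (hp.coprime_iff_not_dvd.mpr hidx)))
  have hK'idx : Nat.card K' = (A.subgroupOf H₀).index := (Subgroup.IsComplement'.index_eq_card hK'.symm).symm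
  set K : Subgroup G := K'.map H₀.subtype with hK
  have hKreg : ∀ x : G, x ∈ K ↔ x ∈ H₀ ∧ ¬ p ∣ orderOf x := by
    intro x
    constructor
    · rintro ⟨k, hk, rfl⟩
      refine ⟨k.2, fun h => hidx ?_⟩
      refine dvd_trans ?_ hdvdA
      rw [← hK'idx]
      refine h.trans ?_
      rw [Subgroup.coe_subtype, Subgroup.orderOf_coe]
      exact K'.orderOf_dvd_natCard hk
    · rintro ⟨hx, hord⟩
      obtain ⟨⟨a, k⟩, hak⟩ := hK'.2 ⟨x, hx⟩
      simp only at hak
      have hak' : ((a : H₀) : G) * ((k : H₀) : G) = x := congrArg Subtype.val hak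
      have haA : ((a : H₀) : G) ∈ A := a.2
      have hcomm : Commute ((a : H₀) : G) ((k : H₀) : G) :=
        Subgroup.mem_centralizer_iff.mp (k : H₀).2 _ haA
      have ha1 : orderOf ((a : H₀) : G) ∣ p ^ e := he ▸ A.orderOf_dvd_natCard haA
      have hk1 : orderOf ((k : H₀) : G) ∣ A.index := by
        refine dvd_trans ?_ hdvdA
        rw [← hK'idx, Subgroup.orderOf_coe]
        exact K'.orderOf_dvd_natCard k.2
      have hco : (orderOf ((a : H₀) : G)).Coprime (orderOf ((k : H₀) : G)) :=
        Nat.Coprime.coprime_dvd_left ha1 (Nat.Coprime.coprime_dvd_right hk1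
          (Nat.Coprime.pow_left e (hp.coprime_iff_not_dvd.mpr hidx)))
      have hox := hcomm.orderOf_mul_eq_mul_orderOf_of_coprime hco
      rw [hak'] at hox
      have ha0 : orderOf ((a : H₀) : G) = 1 := by
        obtain ⟨i, -, hi⟩ := (Nat.dvd_prime_pow hp).mp ha1
        rcases Nat.eq_zero_or_pos i with h0 | h0
        · rw [hi, h0, pow_zero]
        · exact absurd (hox ▸ Dvd.dvd.mul_right (hi ▸ dvd_pow_self p h0.ne') _) hord
      rw [← hak', orderOf_eq_one_iff.mp ha0, one_mul]
      exact ⟨(k : H₀), k.2, rfl⟩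
  haveI hKn : K.Normal := ⟨fun x hx g => by
    rw [hKreg] at hx ⊢
    refine ⟨?_, ?_⟩
    · exact (inferInstance : H₀.Normal).conj_mem x hx.1 g
    · rw [show g * x * g⁻¹ = MulAut.conj g x from rfl, MulEquiv.orderOf_eq]
      exact hx.2⟩
  have hKH₀ : K ≤ H₀ := fun x hx => ((hKreg x).mp hx).1
  have hKcard : Nat.card K = (A.subgroupOf H₀).index := by
    rw [hK, ← hK'idx]
    exact Nat.card_congr (K'.equivMapOfInjective _ H₀.subtype_injective).toEquiv.symm
  -- split the sum
  have hsplit : pregSum p f = (∑ g : G, f g) - (∑ g : H₀, f g) + ∑ g : K, f g := by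
    have e1 : ∑ g : H₀, f g = ∑ g ∈ Finset.univ.filter (fun g : G => g ∈ H₀), f g :=
      (Finset.sum_subtype _ (by simp) f).symm
    have e2 : ∑ g : K, f g =
        ∑ g ∈ Finset.univ.filter (fun g : G => g ∈ H₀ ∧ ¬ p ∣ orderOf g), f g :=
      (Finset.sum_subtype _ (by simp [hKreg]) f).symm
    rw [e1, e2, pregSum, Finset.sum_filter, Finset.sum_filter, Finset.sum_filter,
      ← Finset.sum_sub_distrib, ← Finset.sum_add_distrib]
    refine Finset.sum_congr rfl fun g _ => ?_
    by_cases h : g ∈ H₀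
    · simp [h]
    · simp [h, hout g h]
  obtain ⟨r₁, hr₁⟩ := hf.sum_eq
  obtain ⟨F, hF, hFK, hFeq⟩ := hf.fixed_normal K
  -- the sum over the centraliser
  have hH₀sum : ∑ g : H₀, F g = (Nat.card K : ℂ) * ∑ a : A, F a := by
    have hbij : Function.Bijective (fun x : A × K =>
        (⟨(x.1 : G) * x.2, H₀.mul_mem (hAH₀ x.1.2) (hKH₀ x.2.2)⟩ : H₀)) := by
      refine (Fintype.bijective_iff_injective_and_card _).mpr ⟨?_, ?_⟩
      · rintro ⟨a, k⟩ ⟨a', k'⟩ h
        have h' : (a : G) * k = (a' : G) * k' := congrArg Subtype.val h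
        have h1 : ((a' : G)⁻¹ * a) = k' * k⁻¹ := by
          refine eq_mul_inv_of_mul_eq ?_
          rw [mul_assoc, h']; simp
        have h2 : ((a' : G)⁻¹ * a) = 1 := by
          have hmA : ((a' : G)⁻¹ * a) ∈ A := A.mul_mem (A.inv_mem a'.2) a.2
          have hmK : ((a' : G)⁻¹ * a) ∈ K := h1 ▸ K.mul_mem k'.2 (K.inv_mem k.2)
          by_contra hne
          have h4 := hA.dvd_orderOf (g := (⟨_, hmA⟩ : A))
            (fun h => hne (congrArg Subtype.val h))
          rw [Subgroup.orderOf_mk] at h4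
          exact ((hKreg _).mp hmK).2 h4
        have ha : (a : G) = a' := (inv_mul_eq_one.mp h2).symm
        rw [ha, mul_right_inj] at h'
        exact Prod.ext (Subtype.ext ha) (Subtype.ext h')
      · rw [← Nat.card_eq_fintype_card, ← Nat.card_eq_fintype_card, Nat.card_prod, hKcard,
          ← Subgroup.card_mul_index (A.subgroupOf H₀), hcard, he]
    rw [← hbij.sum_comp (fun g : H₀ => F g), Fintype.sum_prod_type, Finset.mul_sum]
    refine Finset.sum_congr rfl fun a _ => ?_
    rw [Finset.sum_congr rfl (fun (k : K) _ => hFK (a : G) (k : G) k.2), Finset.sum_const,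
      Finset.card_univ, nsmul_eq_mul, Nat.card_eq_fintype_card]
  have hKsum : ∑ g : K, F g = (Nat.card K : ℂ) * F 1 := by
    rw [Finset.sum_congr rfl (fun (k : K) _ =>
      (by simpa using hFK 1 (k : G) k.2 : F (k : G) = F 1)), Finset.sum_const, Finset.card_univ,
      nsmul_eq_mul, Nat.card_eq_fintype_card]
  -- the non-identity elements of `A`
  set T := Finset.univ.filter (fun g : G => g ∈ A ∧ g ≠ 1) with hT
  have hTsum : ∑ a : A, F a = F 1 + ∑ g ∈ T, F g := by
    rw [(Finset.sum_subtype (Finset.univ.filter (fun g : G => g ∈ A)) (by simp) F).symm,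
      ← Finset.add_sum_erase _ _ (by simp : (1 : G) ∈ Finset.univ.filter (fun g : G => g ∈ A))]
    congr 1
    refine Finset.sum_congr ?_ fun _ _ => rfl
    ext g
    simp [hT, and_comm]
  obtain ⟨w, hw, hw'⟩ := exists_sum_eq_mul_of_class_size hF.conj_eq hF.isIntegral T
    (fun a ha h => by
      simp only [hT, Finset.mem_filter, Finset.mem_univ, true_and] at ha ⊢
      refine ⟨(inferInstance : A.Normal).conj_mem a ha.1 h, fun h1 => ha.2 ?_⟩
      exact conj_eq_one_iff.mp h1) H₀.index
    (fun a ha => by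
      simp only [hT, Finset.mem_filter, Finset.mem_univ, true_and] at ha
      congr 1
      refine le_antisymm (fun g hg => ?_) ?_
      · exact centralizes_of_commute A hA hidx ha.1 ha.2
          (Subgroup.mem_centralizer_singleton_iff.mp hg)
      · exact Subgroup.centralizer_le (Set.singleton_subset_iff.mpr ha.1))
  obtain ⟨r₂, hr₂⟩ := (hF.comp A.subtype).sum_eq
  obtain ⟨V', i1, i2, i3, σ, hσ⟩ := hF
  have hF1 : F 1 = (Module.finrank ℂ V' : ℂ) := by rw [← hσ]; exact Representation.char_one σ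
  obtain ⟨z, hz⟩ := exists_int_of_isIntegral (c := (H₀.index : ℤ))
    (N := (Nat.card A : ℤ) * r₂ - Module.finrank ℂ V') hw
    (Int.natCast_ne_zero.mpr Subgroup.index_ne_zero_of_finite) (by
      push_cast
      rw [← hw', ← hr₂, ← hF1]
      show ∑ g ∈ T, F g = (∑ a : A, F a) - F 1
      rw [hTsum]
      ring)
  have hidx2 : A.index = Nat.card K * H₀.index := by
    rw [hKcard, ← Subgroup.relIndex_mul_index hAH₀]
    rfl
  rw [hsplit, hr₁, hFeq H₀ hKH₀, hFeq K le_rfl, hH₀sum, hKsum, hTsum, hw', hz]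
  refine ⟨(Nat.card A : ℤ) * r₁ - z, ?_⟩
  rw [← Subgroup.card_mul_index A, hidx2]
  push_cast
  ring

end Cyclic

section Main

variable [Fintype G]

/-- Number of fixed points of `g` on the cosets of `H`. -/
noncomputable def fixCount (H : Subgroup G) (g : G) : ℕ := Nat.card {y : G ⧸ H // g • y = y}

/-- For every element `x` and prime `q` there is a subgroup with a normal cyclic subgroup of
`q`-power index such that the number of fixed points of `x` on its cosets is prime to `q`. -/
theorem exists_quasiElementary (q : ℕ) [Fact q.Prime] (x : G) :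
    ∃ (H : Subgroup G) (V : Subgroup H), V.Normal ∧ IsCyclic V ∧ (∃ k, V.index = q ^ k) ∧
      ¬ q ∣ fixCount H x := by
  have hq : q.Prime := Fact.out
  set k := (orderOf x).factorization q with hk
  set v := x ^ (q ^ k) with hv
  have hvord : ¬ q ∣ orderOf v := by
    rw [hv, orderOf_pow' _ (pow_ne_zero _ hq.ne_zero),
      Nat.gcd_eq_right (Nat.ordProj_dvd (orderOf x) q)]
    exact Nat.not_dvd_ordCompl hq (orderOf_pos x).ne'
  set V := Subgroup.zpowers v with hV
  set N := Subgroup.normalizer (V : Set G) with hN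
  haveI hVN : (V.subgroupOf N).Normal := Subgroup.normal_subgroupOf_iff_le_normalizer
    (Subgroup.le_normalizer) |>.mpr le_rfl
  set π := QuotientGroup.mk' (V.subgroupOf N) with hπ
  obtain ⟨Q⟩ : Nonempty (Sylow q (N ⧸ V.subgroupOf N)) := inferInstance
  set H : Subgroup G := ((Q : Subgroup _).comap π).map N.subtype with hH
  have hHN : H ≤ N := Subgroup.map_subtype_le _
  have hVle : V ≤ H := by
    intro w hw
    refine ⟨⟨w, Subgroup.le_normalizer hw⟩, ?_, rfl⟩
    rw [SetLike.mem_coe, Subgroup.mem_comap]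
    have : π ⟨w, Subgroup.le_normalizer hw⟩ = 1 := by
      rw [hπ, QuotientGroup.mk'_apply, QuotientGroup.eq_one_iff]
      exact hw
    rw [this]
    exact one_mem _
  have hq' : ∀ h ∈ H, ∃ j, h ^ (q ^ j) ∈ V := by
    rintro h ⟨n, hn, rfl⟩
    obtain ⟨j, hj⟩ := Q.2 ⟨π n, hn⟩
    refine ⟨j, ?_⟩
    have h1 : π (n ^ (q ^ j)) = 1 := by
      rw [map_pow]
      exact congrArg Subtype.val hj
    rw [hπ, QuotientGroup.mk'_apply, QuotientGroup.eq_one_iff] at h1
    exact h1
  have hqV : ∀ h ∈ H, ¬ q ∣ orderOf h → h ∈ V := by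
    intro h hh hord
    obtain ⟨j, hj⟩ := hq' h hh
    obtain ⟨m, hm⟩ := exists_pow_eq_self_of_coprime (x := h)
      (Nat.Coprime.pow_left j (hq.coprime_iff_not_dvd.mpr hord))
    rw [← hm]
    exact V.pow_mem hj _
  haveI hVH : (V.subgroupOf H).Normal := Subgroup.normal_subgroupOf_iff_le_normalizer hVle
    |>.mpr hHN
  refine ⟨H, V.subgroupOf H, hVH, ?_, ?_, ?_⟩
  · exact (Subgroup.subgroupOfEquivOfLe hVle).isCyclic.mpr inferInstance
  · have hpg : IsPGroup q (H ⧸ V.subgroupOf H) := by
      intro y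
      obtain ⟨⟨h, hh⟩, rfl⟩ := QuotientGroup.mk_surjective y
      obtain ⟨j, hj⟩ := hq' h hh
      refine ⟨j, ?_⟩
      rw [← QuotientGroup.mk_pow, QuotientGroup.eq_one_iff]
      exact hj
    exact hpg.exists_card_eq
  · have hxN : x ∈ N := by
      refine Subgroup.centralizer_le_normalizer _ ?_
      intro w hw
      obtain ⟨i, rfl⟩ := Subgroup.mem_zpowers_iff.mp hw
      exact ((Commute.refl x).pow_left _ |>.zpow_left i).eq
    -- the orbit of `N`
    set X := {y : G ⧸ H // ∃ n ∈ N, (n : G ⧸ H) = y} with hX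
    have hxX : ∀ y : G ⧸ H, (∃ n ∈ N, (n : G ⧸ H) = y) → ∃ n ∈ N, (n : G ⧸ H) = x • y := by
      rintro y ⟨n, hn, rfl⟩
      exact ⟨x * n, N.mul_mem hxN hn, rfl⟩
    have hxX' : ∀ y : G ⧸ H, (∃ n ∈ N, (n : G ⧸ H) = y) → ∃ n ∈ N, (n : G ⧸ H) = x⁻¹ • y := by
      rintro y ⟨n, hn, rfl⟩
      exact ⟨x⁻¹ * n, N.mul_mem (N.inv_mem hxN) hn, rfl⟩
    let σ : Equiv.Perm X :=
      { toFun := fun y => ⟨x • y.1, hxX y.1 y.2⟩
        invFun := fun y => ⟨x⁻¹ • y.1, hxX' y.1 y.2⟩
        left_inv := fun y => Subtype.ext (inv_smul_smul x y.1)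
        right_inv := fun y => Subtype.ext (smul_inv_smul x y.1) }
    have hσpow : ∀ (i : ℕ) (y : X), ((σ ^ i) y).1 = x ^ i • y.1 := by
      intro i
      induction i with
      | zero => intro y; simp
      | succ i ih =>
        intro y
        rw [pow_succ', Equiv.Perm.mul_apply, pow_succ', mul_smul, ← ih y]
        rfl
    have hσ : σ ^ (q ^ k) = 1 := by
      ext y
      obtain ⟨n, hn, hy⟩ := y.2
      rw [hσpow, ← hv, Equiv.Perm.one_apply, ← hy]
      refine (QuotientGroup.eq.mpr ?_)
      refine hVle ?_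
      have h1 := (Subgroup.mem_normalizer_iff.mp (N.inv_mem hn) v⁻¹).mp
        (V.inv_mem (Subgroup.mem_zpowers v))
      simpa [mul_assoc] using h1
    have hcardX : Nat.card X = (H.subgroupOf N).index := by
      rw [Subgroup.index]
      refine (Nat.card_congr (Equiv.ofBijective
        (Quotient.lift (fun n : N => (⟨((n : G) : G ⧸ H), n, n.2, rfl⟩ : X)) ?_) ⟨?_, ?_⟩)).symm
      · intro a b hab
        refine Subtype.ext (QuotientGroup.eq.mpr ?_)
        exact (QuotientGroup.leftRel_apply (s := H.subgroupOf N)).mp hab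
      · intro a b hab
        induction a using Quotient.inductionOn
        induction b using Quotient.inductionOn
        refine Quotient.sound (QuotientGroup.leftRel_apply.mpr ?_)
        simp only [Quotient.lift_mk, Subtype.mk.injEq] at hab
        have h := QuotientGroup.eq.mp hab
        simpa [Subgroup.mem_subgroupOf] using h
      · rintro ⟨y, n, hn, rfl⟩
        exact ⟨Quotient.mk'' ⟨n, hn⟩, rfl⟩
    have hXnot : ¬ q ∣ Nat.card X := by
      rw [hcardX, hH, Subgroup.subgroupOf, Subgroup.comap_map_eq_self_of_injective N.subtype_injective]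
      have := Q.not_dvd_index
      rwa [Subgroup.index_comap_of_surjective _ (QuotientGroup.mk'_surjective _)]
    -- count fixed points
    have hpg : IsPGroup q (Subgroup.zpowers σ) := by
      rintro ⟨τ, hτ⟩
      obtain ⟨i, rfl⟩ := Subgroup.mem_zpowers_iff.mp hτ
      refine ⟨k, Subtype.ext ?_⟩
      show (σ ^ i) ^ (q ^ k) = 1
      rw [← zpow_natCast, ← zpow_mul, mul_comm, zpow_mul, zpow_natCast, hσ, one_zpow]
    have hmod := hpg.card_modEq_card_fixedPoints X
    have hmem : ∀ y : {y : G ⧸ H // x • y = y}, ∃ n ∈ N, (n : G ⧸ H) = y.1 := by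
      intro y
      obtain ⟨g, hg⟩ := QuotientGroup.mk_surjective y.1
      refine ⟨g, ?_, hg⟩
      have h1 : g⁻¹ * x * g ∈ H := by
        have h2 := y.2
        rw [← hg] at h2
        have h3 := QuotientGroup.eq.mp h2.symm
        simpa [mul_assoc] using h3
      have h4 : g⁻¹ * v * g ∈ V := by
        refine hqV _ ?_ ?_
        · rw [hv, show g⁻¹ * x ^ (q ^ k) * g = (g⁻¹ * x * g) ^ (q ^ k) by
            simpa using (conj_pow (i := q ^ k) (a := g⁻¹) (b := x)).symm]
          exact H.pow_mem h1 _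
        · rw [show g⁻¹ * v * g = MulAut.conj g⁻¹ v by simp, MulEquiv.orderOf_eq]
          exact hvord
      have h5 : V.map (MulAut.conj g⁻¹).toMonoidHom = V := by
        refine Subgroup.eq_of_le_of_card_ge ?_ ?_
        · rw [hV, MonoidHom.map_zpowers, Subgroup.zpowers_le]
          simpa using h4
        · rw [Subgroup.card_map_of_injective (MulAut.conj g⁻¹).injective]
      refine N.inv_mem_iff.mp ?_
      rw [hN, Subgroup.mem_normalizer_iff]
      intro w
      conv_rhs => rw [← h5]
      rw [Subgroup.mem_map_equiv]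
      simp [mul_assoc]
    have hfix : fixCount H x = Nat.card (MulAction.fixedPoints (Subgroup.zpowers σ) X) := by
      refine Nat.card_congr (Equiv.ofBijective
        (fun y => (⟨⟨y.1, hmem y⟩, ?_⟩ : MulAction.fixedPoints (Subgroup.zpowers σ) X)) ⟨?_, ?_⟩)
      · rintro ⟨τ, hτ⟩
        have hfixσ : σ ∈ MulAction.stabilizer (Equiv.Perm X)
            (⟨y.1, hmem y⟩ : X) := Subtype.ext y.2
        exact (Subgroup.zpowers_le.mpr hfixσ) hτ
      · intro a b hab
        exact Subtype.ext (congrArg (fun z => z.1.1) hab)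
      · rintro ⟨y, hy⟩
        exact ⟨⟨y.1, congrArg Subtype.val (hy ⟨σ, Subgroup.mem_zpowers σ⟩)⟩, rfl⟩
    intro hdvd
    rw [hfix] at hdvd
    exact hXnot (Nat.modEq_zero_iff_dvd.mp (hmod.trans (Nat.modEq_zero_iff_dvd.mpr hdvd)))

/-- On a group with a normal cyclic subgroup of `q`-power index the sum over the `p`-regular
elements is divisible by the full power of `q` in the group order. -/
theorem pregSum_quasi {p q : ℕ} [Fact p.Prime] [Fact q.Prime] (hpq : p ≠ q) (V : Subgroup G)
    [V.Normal] [IsCyclic V] (hV : ∃ k, V.index = q ^ k) {f : G → ℂ} (hf : IsRepChar G f) :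
    IntMultiple (q ^ (Nat.card G).factorization q) (pregSum p f) := by
  have hp : p.Prime := Fact.out
  have hq : q.Prime := Fact.out
  obtain ⟨P⟩ : Nonempty (Sylow p G) := inferInstance
  obtain ⟨k, hk⟩ := hV
  have hPV : (P : Subgroup G) ≤ V := by
    intro u hu
    obtain ⟨i, hi⟩ := (IsPGroup.iff_orderOf.mp P.2) ⟨u, hu⟩
    rw [Subgroup.orderOf_mk] at hi
    obtain ⟨m, hm⟩ := exists_pow_eq_self_of_coprime (x := u) (n := q ^ k) (by
      rw [hi]
      exact Nat.Coprime.pow _ _ ((Nat.coprime_primes hq hp).mpr hpq.symm))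
    rw [← hm]
    exact V.pow_mem (hk ▸ Subgroup.pow_index_mem V u) _
  haveI hPn : (P : Subgroup G).Normal := by
    refine ⟨fun u hu g => ?_⟩
    have h1 : g * u * g⁻¹ ∈ V := (inferInstance : V.Normal).conj_mem u (hPV hu) g
    letI := IsCyclic.commGroup (α := V)
    -- the p-elements of `V` form a p-group containing `P`
    have hW : IsPGroup p ((P : Subgroup G) ⊔ Subgroup.zpowers (g * u * g⁻¹) : Subgroup G) := by
      refine IsPGroup.to_sup_of_normal_right' P.2 ?_ ?_
      · obtain ⟨i, hi⟩ := (IsPGroup.iff_orderOf.mp P.2) ⟨u, hu⟩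
        rw [Subgroup.orderOf_mk] at hi
        refine IsPGroup.of_card (n := i) ?_
        rw [Nat.card_zpowers, show g * u * g⁻¹ = MulAut.conj g u from rfl, MulEquiv.orderOf_eq, hi]
      · refine (fun a ha => Subgroup.centralizer_le_normalizer _ ?_)
        intro b hb
        have hb' : b ∈ V := (Subgroup.zpowers_le.mpr h1) hb
        exact congrArg Subtype.val (mul_comm (⟨b, hb'⟩ : V) ⟨a, hPV ha⟩)
    rw [← P.3 hW le_sup_left]
    exact Subgroup.mem_sup_right (Subgroup.mem_zpowers _)
  haveI : IsCyclic (P : Subgroup G) :=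
    (Subgroup.subgroupOfEquivOfLe hPV).isCyclic.mp inferInstance
  refine (pregSum_cyclic_sylow (P : Subgroup G) P.2 P.not_dvd_index hf).of_dvd ?_
  have h1 : q ^ (Nat.card G).factorization q ∣ Nat.card (P : Subgroup G) * (P : Subgroup G).index := by
    rw [Subgroup.card_mul_index]; exact Nat.ordProj_dvd _ _
  obtain ⟨e, he⟩ := P.2.exists_card_eq
  refine Nat.Coprime.dvd_of_dvd_mul_left ?_ h1
  rw [he]
  exact Nat.Coprime.pow _ _ ((Nat.coprime_primes hq hp).mpr hpq.symm)

/-- Multiplying by a permutation character on cosets of a quasi-elementary subgroup. -/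
theorem pregSum_mul_fixCount {p q : ℕ} [Fact p.Prime] [Fact q.Prime] (hpq : p ≠ q)
    (H : Subgroup G) (V : Subgroup H) [V.Normal] [IsCyclic V] (hV : ∃ k, V.index = q ^ k)
    {f : G → ℂ} (hf : IsRepChar G f) :
    IntMultiple (q ^ (Nat.card G).factorization q) (pregSum p (fun g => f g * fixCount H g)) := by
  have h1 : pregSum p (fun g => f g * fixCount H g) =
      (H.index : ℂ) * pregSum p (fun h : H => f h) := by
    have e1 : ∀ g : G, f g * fixCount H g = ∑ y : G ⧸ H, if g • y = y then f g else 0 := by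
      intro g
      rw [fixCount, Nat.card_eq_fintype_card, Fintype.card_subtype, Finset.sum_ite,
        Finset.sum_const_zero, add_zero, Finset.sum_const, nsmul_eq_mul, mul_comm]
    rw [pregSum, Finset.sum_congr rfl (fun g _ => e1 g), Finset.sum_comm, Subgroup.index,
      Nat.card_eq_fintype_card, ← nsmul_eq_mul, ← Finset.card_univ, ← Finset.sum_const]
    refine Finset.sum_congr rfl fun y _ => ?_
    obtain ⟨c, rfl⟩ := QuotientGroup.mk_surjective y
    rw [← Finset.sum_filter, Finset.filter_filter, pregSum]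
    refine Finset.sum_bij' (fun g hg => (⟨c⁻¹ * g * c, ?_⟩ : H))
      (fun h _ => c * h * c⁻¹) ?_ ?_ ?_ ?_ ?_
    · simp only [Finset.mem_filter, Finset.mem_univ, true_and] at hg
      have h3 := QuotientGroup.eq.mp hg.2.symm
      simpa [mul_assoc] using h3
    · intro g hg
      simp only [Finset.mem_filter, Finset.mem_univ, true_and] at hg ⊢
      rw [Subgroup.orderOf_mk, show c⁻¹ * g * c = MulAut.conj c⁻¹ g by simp, MulEquiv.orderOf_eq]
      exact hg.1
    · intro h hh
      simp only [Finset.mem_filter, Finset.mem_univ, true_and] at hh ⊢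
      refine ⟨?_, ?_⟩
      · rw [show c * (h : G) * c⁻¹ = MulAut.conj c (h : G) from rfl, MulEquiv.orderOf_eq,
          Subgroup.orderOf_coe]
        exact hh
      · symm
        refine QuotientGroup.eq.mpr ?_
        simp [mul_assoc]
    · intro g _; simp [mul_assoc]
    · intro h _; ext; simp [mul_assoc]
    · intro g _
      simpa using (hf.conj_eq g c⁻¹).symm
  rw [h1]
  obtain ⟨z, hz⟩ := pregSum_quasi hpq V hV (hf.comp H.subtype)
  refine IntMultiple.of_dvd (M := H.index * q ^ (Nat.card H).factorization q) ⟨z, ?_⟩ ?_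
  · rw [show (fun h : H => f h) = (fun h : H => f (H.subtype h)) from rfl, hz]
    push_cast
    ring
  · refine dvd_trans (dvd_of_eq ?_) (Nat.mul_dvd_mul (Nat.ordProj_dvd H.index q) dvd_rfl)
    rw [← pow_add, ← H.index_mul_card, Nat.factorization_mul Subgroup.index_ne_zero_of_finite
      Nat.card_pos.ne', Finsupp.add_apply]

/-- The permutation character is the trace function of a representation. -/
theorem isRepChar_fixCount (H : Subgroup G) : IsRepChar G (fun g => (fixCount H g : ℂ)) := by
  let e : Fin (Nat.card (G ⧸ H)) ≃ G ⧸ H := (Finite.equivFin _).symm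
  letI : MulAction G (Fin (Nat.card (G ⧸ H))) :=
    { smul := fun g i => e.symm (g • e i)
      one_smul := fun i => by show e.symm ((1 : G) • e i) = i; simp
      mul_smul := fun g h i => by
        show e.symm ((g * h) • e i) = e.symm (g • e (e.symm (h • e i)))
        simp [mul_smul] }
  refine ⟨Fin (Nat.card (G ⧸ H)) → ℂ, inferInstance, inferInstance, inferInstance,
    funRep _, ?_⟩
  funext g
  rw [funRep_character, fixCount]
  congr 1
  refine Nat.card_congr (e.subtypeEquiv fun i => ?_)
  show e.symm (g • e i) = i ↔ g • e i = e i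
  exact e.symm_apply_eq

theorem isIntegral_pregSum (p : ℕ) {f : G → ℂ} (hf : IsRepChar G f) :
    IsIntegral ℤ (pregSum p f) :=
  IsIntegral.sum _ fun g _ => hf.isIntegral g

/-- The full power of `q` divides the sum over the `p`-regular elements. -/
theorem pregSum_prime_power {p q : ℕ} [Fact p.Prime] [Fact q.Prime] (hpq : p ≠ q)
    {f : G → ℂ} (hf : IsRepChar G f) :
    ∃ z : ℤ, pregSum p f = z ∧ ((q ^ (Nat.card G).factorization q : ℕ) : ℤ) ∣ z := by
  choose H V hVn hVc hVi hfix using fun x : G => exists_quasiElementary q x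
  set N := q ^ (Nat.card G).factorization q with hN
  have hstep : ∀ (T : Finset G) (f : G → ℂ), IsRepChar G f →
      IntMultiple N ((∏ x ∈ T, (fixCount (H x) x : ℂ)) * pregSum p f -
        pregSum p (fun g => f g * ∏ x ∈ T, ((fixCount (H x) x : ℂ) - fixCount (H x) g))) := by
    intro T
    induction T using Finset.induction_on with
    | empty =>
      intro f _
      exact ⟨0, by simp⟩
    | @insert a T ha ih =>
      intro f hf
      have h1 := (ih f hf).int_mul (fixCount (H a) a : ℤ)
      have hff := hf.mul (isRepChar_fixCount (H a))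
      have h2 := ih _ hff
      haveI := hVn a
      haveI := hVc a
      have h3 := pregSum_mul_fixCount (p := p) hpq (H a) (V a) (hVi a) hf
      have h4 := h1.add ((h3.int_mul (∏ x ∈ T, (fixCount (H x) x : ℤ))).sub h2)
      refine Eq.subst (motive := IntMultiple N) ?_ h4
      simp only [Pi.mul_apply, pregSum, Finset.prod_insert ha]
      have h5 : ∀ g : G, f g * (((fixCount (H a) a : ℂ) - fixCount (H a) g) *
          ∏ x ∈ T, ((fixCount (H x) x : ℂ) - fixCount (H x) g)) =
          (fixCount (H a) a : ℂ) * (f g * ∏ x ∈ T, ((fixCount (H x) x : ℂ) - fixCount (H x) g))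
          - f g * (fixCount (H a) g : ℂ) * ∏ x ∈ T, ((fixCount (H x) x : ℂ) - fixCount (H x) g) :=
        fun g => by ring
      rw [Finset.sum_congr rfl (fun g _ => h5 g), Finset.sum_sub_distrib, ← Finset.mul_sum]
      push_cast
      ring
  obtain ⟨z, hz⟩ := hstep Finset.univ f hf
  have hzero : pregSum p (fun g => f g *
      ∏ x : G, ((fixCount (H x) x : ℂ) - fixCount (H x) g)) = 0 := by
    refine Finset.sum_eq_zero fun g _ => ?_
    rw [Finset.prod_eq_zero (Finset.mem_univ g) (sub_self _), mul_zero]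
  rw [hzero, sub_zero] at hz
  set c : ℤ := ∏ x : G, (fixCount (H x) x : ℤ) with hc
  have hcq : IsCoprime (N : ℤ) c := by
    rw [hc]
    refine IsCoprime.prod_right fun x _ => ?_
    rw [Int.isCoprime_iff_nat_coprime]
    simp only [Int.natAbs_natCast, hN]
    exact Nat.Coprime.pow_left _ ((Fact.out : q.Prime).coprime_iff_not_dvd.mpr (hfix x))
  have hz' : (c : ℂ) * pregSum p f = (((N : ℤ) * z : ℤ) : ℂ) := by
    rw [hc]; push_cast; exact hz
  have hc0 : c ≠ 0 := Finset.prod_ne_zero_iff.mpr fun x _ =>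
    Int.natCast_ne_zero.mpr fun h => hfix x (h ▸ dvd_zero q)
  obtain ⟨w, hw⟩ := exists_int_of_isIntegral (isIntegral_pregSum p hf) hc0 hz'
  refine ⟨w, hw, hcq.dvd_of_dvd_mul_left ⟨z, ?_⟩⟩
  rw [hw] at hz'
  exact_mod_cast hz'

/-- The `p'`-part of the group order divides the sum of a character over the `p`-regular
elements. -/
theorem pregSum_dvd (p : ℕ) [Fact p.Prime] {f : G → ℂ} (hf : IsRepChar G f) :
    ∃ z : ℤ, pregSum p f =
      ((Nat.card G / p ^ (Nat.card G).factorization p : ℕ) : ℂ) * (z : ℂ) := by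
  have hp : p.Prime := Fact.out
  set M := Nat.card G / p ^ (Nat.card G).factorization p with hM
  have hMne : M ≠ 0 := (Nat.ordCompl_pos p Nat.card_pos.ne').ne'
  obtain ⟨q, hqge, hq⟩ := Nat.exists_infinite_primes (p + 1)
  haveI := Fact.mk hq
  obtain ⟨z, hz, -⟩ := pregSum_prime_power (p := p) (q := q) (by omega) hf
  suffices h : (M : ℤ) ∣ z by
    obtain ⟨w, rfl⟩ := h
    exact ⟨w, by rw [hz]; push_cast; ring⟩
  rw [Int.natCast_dvd]
  refine (Nat.dvd_iff_prime_pow_dvd_dvd z.natAbs M).mpr fun r k hr hrk => ?_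
  rcases Nat.eq_zero_or_pos k with rfl | hk
  · simp
  by_cases hrp : r = p
  · subst hrp
    exact absurd ((dvd_pow_self r hk.ne').trans hrk)
      (Nat.not_dvd_ordCompl hp Nat.card_pos.ne')
  haveI := Fact.mk hr
  obtain ⟨z', hz', hdvd⟩ := pregSum_prime_power (p := p) (q := r) (Ne.symm hrp) hf
  have : z = z' := by rw [hz] at hz'; exact_mod_cast hz'
  subst this
  rw [Int.natCast_dvd] at hdvd
  refine dvd_trans (pow_dvd_pow r ?_) hdvd
  exact (hr.pow_dvd_iff_le_factorization Nat.card_pos.ne').mp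
    (hrk.trans (Nat.ordCompl_dvd _ _))

/-- The number of `p`-regular elements is not divisible by `p` times the `p'`-part of the
order; in particular it is prime to `p`. -/
theorem not_dvd_card_pRegular (p : ℕ) [Fact p.Prime] :
    ¬ p ∣ Nat.card {g : G // ¬ p ∣ orderOf g} := by
  have hp : p.Prime := Fact.out
  obtain ⟨P⟩ : Nonempty (Sylow p G) := inferInstance
  set C := Subgroup.centralizer ((P : Subgroup G) : Set G) with hC
  letI : MulAction (P : Subgroup G) {g : G // ¬ p ∣ orderOf g} :=
    { smul := fun u g => ⟨(u : G) * g.1 * (u : G)⁻¹, by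
        rw [show (u : G) * g.1 * (u : G)⁻¹ = MulAut.conj (u : G) g.1 from rfl, MulEquiv.orderOf_eq]
        exact g.2⟩
      one_smul := fun g => Subtype.ext (by
        show ((1 : (P : Subgroup G)) : G) * g.1 * _ = g.1
        simp)
      mul_smul := fun u w g => Subtype.ext (by
        show ((u * w : (P : Subgroup G)) : G) * g.1 * _ =
          (u : G) * ((w : G) * g.1 * (w : G)⁻¹) * (u : G)⁻¹
        simp [mul_assoc]) }
  have hmod := P.2.card_modEq_card_fixedPoints {g : G // ¬ p ∣ orderOf g}
  intro hdvd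
  have hfix : Nat.card (MulAction.fixedPoints (P : Subgroup G) {g : G // ¬ p ∣ orderOf g}) =
      Nat.card {g : C // ¬ p ∣ orderOf g} := by
    refine Nat.card_congr
      { toFun := fun g => ⟨⟨g.1.1, ?_⟩, ?_⟩
        invFun := fun g => ⟨⟨g.1.1, ?_⟩, ?_⟩
        left_inv := fun _ => rfl
        right_inv := fun _ => rfl }
    · rw [hC, Subgroup.mem_centralizer_iff]
      intro u hu
      have h := congrArg Subtype.val (g.2 ⟨u, hu⟩)
      exact mul_inv_eq_iff_eq_mul.mp h
    · rw [Subgroup.orderOf_mk]; exact g.1.2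
    · rw [Subgroup.orderOf_coe]; exact g.2
    · intro u
      refine Subtype.ext ?_
      show (u : G) * g.1.1 * (u : G)⁻¹ = g.1.1
      rw [mul_inv_eq_iff_eq_mul]
      exact Subgroup.mem_centralizer_iff.mp g.1.2 u u.2
  -- `Z = C ∩ P` is the set of p-elements of `C`, central in `C`
  set Z := (P : Subgroup G).subgroupOf C with hZ
  have hZc : ∀ z ∈ Z, ∀ c : C, Commute z c := fun z hz c =>
    Subtype.ext (Subgroup.mem_centralizer_iff.mp c.2 _ hz)
  haveI hZn : Z.Normal := ⟨fun z hz c => by
    rw [(hZc z hz c).symm.eq, mul_inv_cancel_right]; exact hz⟩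
  have hZp : IsPGroup p Z := P.2.comap_of_injective C.subtype C.subtype_injective
  have hpZ : ∀ c : C, (∃ k, orderOf c = p ^ k) → c ∈ Z := by
    rintro c ⟨k, hk⟩
    have hW : IsPGroup p ((P : Subgroup G) ⊔ Subgroup.zpowers (c : G) : Subgroup G) := by
      refine IsPGroup.to_sup_of_normal_right' P.2 ?_ ?_
      · refine IsPGroup.of_card (n := k) ?_
        rw [Nat.card_zpowers, Subgroup.orderOf_coe, hk]
      · intro a ha
        refine Subgroup.centralizer_le_normalizer _ ?_
        intro b hb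
        have hbC : b ∈ C := (Subgroup.zpowers_le.mpr c.2) hb
        exact (Subgroup.mem_centralizer_iff.mp hbC a ha).symm
    show (c : G) ∈ (P : Subgroup G)
    rw [← P.3 hW le_sup_left]
    exact Subgroup.mem_sup_right (Subgroup.mem_zpowers _)
  have hidx : ¬ p ∣ Z.index := by
    intro h
    obtain ⟨y, hy⟩ := exists_prime_orderOf_dvd_card' (G := C ⧸ Z) p h
    obtain ⟨c, rfl⟩ := QuotientGroup.mk_surjective y
    obtain ⟨e, he⟩ := hZp.exists_card_eq
    have hfac := Nat.ordProj_dvd (orderOf c) p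
    set n := orderOf c / p ^ (orderOf c).factorization p with hn
    have hcn : c ^ n ∈ Z := hpZ _ ⟨(orderOf c).factorization p, by
      rw [orderOf_pow' _ (Nat.ordCompl_pos p (orderOf_pos c).ne').ne',
        Nat.gcd_eq_right (Nat.ordCompl_dvd _ _), Nat.div_div_self hfac (orderOf_pos c).ne']⟩
    have h1 : orderOf (QuotientGroup.mk c : C ⧸ Z) ∣ n :=
      orderOf_dvd_of_pow_eq_one (by rw [← QuotientGroup.mk_pow, QuotientGroup.eq_one_iff]; exact hcn)
    rw [hy] at h1
    exact Nat.not_dvd_ordCompl hp (orderOf_pos c).ne' h1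
  obtain ⟨K, hK⟩ := Subgroup.exists_right_complement'_of_coprime (N := Z) (by
    obtain ⟨e, he⟩ := hZp.exists_card_eq
    rw [he]
    exact Nat.Coprime.pow_left e (hp.coprime_iff_not_dvd.mpr hidx))
  have hKidx : Nat.card K = Z.index := (Subgroup.IsComplement'.index_eq_card hK.symm).symm
  have hset : ∀ c : C, (¬ p ∣ orderOf c) ↔ c ∈ K := by
    intro c
    constructor
    · intro hc
      obtain ⟨⟨z, k⟩, hzk⟩ := hK.2 c
      simp only at hzk
      have hz1 : (z : C) = 1 := by
        obtain ⟨e, he⟩ := hZp.exists_card_eq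
        have h1 : (z : C) ^ orderOf c = 1 ∧ True := by
          refine ⟨?_, trivial⟩
          have h2 : (z : C) ^ (orderOf c * Nat.card K) = 1 := by
            have h3 : ((z : C) * (k : C)) ^ (orderOf c * Nat.card K) = 1 := by
              rw [hzk, pow_mul, pow_orderOf_eq_one, one_pow]
            rw [(hZc _ z.2 _).mul_pow, mul_comm, pow_mul (k : C), show (k : C) ^ Nat.card K = 1 from
              congrArg Subtype.val (pow_card_eq_one' (x := k)), one_pow, mul_one, mul_comm] at h3
            exact h3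
          obtain ⟨m, hm⟩ := exists_pow_eq_self_of_coprime (x := (z : C)) (n := Nat.card K) (by
            refine Nat.Coprime.coprime_dvd_right (m := p ^ e) (he ▸ Z.orderOf_dvd_natCard z.2) ?_
            rw [hKidx]
            exact (Nat.Coprime.pow_left e (hp.coprime_iff_not_dvd.mpr hidx)).symm)
          rw [← hm, ← pow_mul, ← pow_mul]
          rw [mul_comm (orderOf c), pow_mul] at h2
          rw [mul_comm m, ← mul_assoc, pow_mul, pow_mul, h2, one_pow]
        obtain ⟨m, hm⟩ := exists_pow_eq_self_of_coprime (x := (z : C)) (n := orderOf c) (by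
          refine Nat.Coprime.coprime_dvd_right (m := p ^ e) (he ▸ Z.orderOf_dvd_natCard z.2) ?_
          exact (Nat.Coprime.pow_left e (hp.coprime_iff_not_dvd.mpr hc)).symm)
        rw [← hm, h1.1, one_pow]
      rw [← hzk, hz1, one_mul]
      exact k.2
    · intro hc h
      exact hidx (hKidx ▸ h.trans (K.orderOf_dvd_natCard hc))
  have hcard : Nat.card {g : C // ¬ p ∣ orderOf g} = Z.index := by
    rw [← hKidx]
    exact Nat.card_congr (Equiv.subtypeEquivRight hset)
  rw [hfix, hcard] at hmod
  exact hidx (Nat.modEq_zero_iff_dvd.mp (hmod.symm.trans (Nat.modEq_zero_iff_dvd.mpr hdvd)))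

end Main

end Cfsg.Agent.BlockCount
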