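import Mathlib.Algebra.Order.BigOperators.Group.Finset
import Mathlib.Algebra.Order.Field.Basic
import Mathlib.Algebra.BigOperators.Field
import Mathlib.Tactic.Linarith
import Mathlib.Tactic.NormNum
import Mathlib.Tactic.Positivity
import Mathlib.Tactic.IntervalCases
import Mathlib.Data.Rat.Cast.Order

/-!
# Arithmetic of the pair count in one p-section
-/

set_option autoImplicit false

namespace Cfsg.Agent.BlockCount

theorem false_of_pair_bound {ι : Type*} (s : Finset ι) (A : ι → ℤ) (D : ι → ℕ) (p q : ℕ)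
    (hp3 : 3 ≤ p) (hpq : p ≤ q) (hq4 : q ≤ 4 → q = 3 ∧ p = 3)
    (hD : ∀ i ∈ s, A i + q ≤ D i) (hA2 : ∀ i ∈ s, (A i) ^ 2 < q)
    (h1 : ∑ i ∈ s, A i ^ 2 = (q : ℤ) - 1) (h2 : ∑ i ∈ s, (D i : ℤ) * A i = -1)
    (hT : ((p : ℚ) - 1) * ((q : ℚ) - 1 - ∑ i ∈ s, (A i : ℚ) ^ 3 / D i) ≤ q) : False := by
  have h1' : ∑ i ∈ s, (A i : ℚ) ^ 2 = (q : ℚ) - 1 := by
    have := congrArg (Int.cast : ℤ → ℚ) h1
    push_cast at this
    exact this
  have hp3' : (3 : ℚ) ≤ p := by exact_mod_cast hp3
  have hneg : ∀ i, A i ≤ 0 → (A i : ℚ) ^ 3 / D i ≤ 0 := fun i h => by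
    have h3 : (A i : ℚ) ≤ 0 := by exact_mod_cast h
    refine div_nonpos_of_nonpos_of_nonneg ?_ (Nat.cast_nonneg _)
    nlinarith [sq_nonneg (A i : ℚ)]
  by_cases hq : q ≤ 4
  · obtain ⟨rfl, rfl⟩ := hq4 hq
    have key : ∀ i ∈ s, (A i : ℚ) ^ 3 / D i ≤ (A i : ℚ) ^ 2 / 4 := by
      intro i hi
      rcases le_or_gt (A i) 0 with h | h
      · nlinarith [hneg i h, sq_nonneg (A i : ℚ)]
      · have hA : A i = 1 := by
          have hb := hA2 i hi
          push_cast at hb
          nlinarith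
        have h4 : (4 : ℚ) ≤ D i := by
          have := hD i hi
          rw [hA] at this
          exact_mod_cast (by omega : 4 ≤ D i)
        simp only [hA, Int.cast_one, one_pow]
        exact one_div_le_one_div_of_le (by norm_num) h4
    have hsum : ∑ i ∈ s, (A i : ℚ) ^ 3 / D i < ∑ i ∈ s, (A i : ℚ) ^ 2 / 4 := by
      refine Finset.sum_lt_sum key ?_
      by_contra hcon
      push_neg at hcon
      have h0 : 0 ≤ ∑ i ∈ s, (D i : ℤ) * A i := by
        refine Finset.sum_nonneg fun i hi => mul_nonneg (Int.natCast_nonneg _) ?_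
        by_contra hlt
        have h3 : (A i : ℚ) < 0 := by exact_mod_cast (not_le.1 hlt)
        nlinarith [hcon i hi, hneg i (not_le.1 hlt).le]
      omega
    rw [← Finset.sum_div, h1'] at hsum
    push_cast at hsum hT
    linarith
  · have key : ∀ i ∈ s, (A i : ℚ) ^ 3 / D i ≤ (A i : ℚ) ^ 2 / 3 := by
      intro i hi
      rcases le_or_gt (A i) 0 with h | h
      · nlinarith [hneg i h, sq_nonneg (A i : ℚ)]
      · have hA : 2 * A i ≤ q := by
          rcases eq_or_lt_of_le (Int.add_one_le_iff.2 h : 0 + 1 ≤ A i) with h' | h'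
          · omega
          · nlinarith [hA2 i hi]
        have hD3 : (3 : ℚ) * A i ≤ D i := by
          have := hD i hi
          exact_mod_cast (by omega : 3 * A i ≤ (D i : ℤ))
        have h0 : (0 : ℚ) < A i := by exact_mod_cast h
        rw [div_le_div_iff₀ (by linarith) (by norm_num)]
        nlinarith [mul_nonneg (sq_nonneg (A i : ℚ)) (sub_nonneg.2 hD3)]
    have hsum := Finset.sum_le_sum key
    rw [← Finset.sum_div, h1'] at hsum
    have hq5 : (5 : ℚ) ≤ q := by exact_mod_cast (by omega : 5 ≤ q)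
    nlinarith

end Cfsg.Agent.BlockCount
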