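import Cfsg.Prelude.Def_Blocks
import Cfsg.Agent.Lib.BlockCount.PRegularSum
import Cfsg.Agent.Lib.Char.Orthogonality

/-!
# The principal block and sums over the p-regular elements

A character in the principal block has a non-zero sum over the p-regular elements; hence the
principal block has at most `p ^ (2 a)` members, `p ^ a` being the p-part of the group order.
-/

set_option autoImplicit false

open scoped Classical ComplexConjugate

namespace Cfsg.Agent.BlockCount

universe u

theorem isRepChar_of_isCharacter {G : Type u} [Group G] {χ : G → ℂ}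
    (h : Cfsg.IsCharacter G χ) : IsRepChar G χ := by
  obtain ⟨n, ρ, hρ⟩ := h
  exact ⟨Fin n → ℂ, inferInstance, inferInstance, inferInstance, ρ, hρ⟩

section Local

variable {M : Ideal Cfsg.AlgInt}

theorem localIdeal_zero (hM : M.IsMaximal) : Cfsg.MemLocalIdeal M 0 := by
  refine ⟨0, 1, M.zero_mem, fun h => hM.ne_top ((Ideal.eq_top_iff_one M).mpr h), by simp⟩

theorem localIdeal_add (hM : M.IsMaximal) {x y : ℂ} (hx : Cfsg.MemLocalIdeal M x)
    (hy : Cfsg.MemLocalIdeal M y) : Cfsg.MemLocalIdeal M (x + y) := by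
  obtain ⟨a, b, ha, hb, rfl⟩ := hx
  obtain ⟨c, d, hc, hd, rfl⟩ := hy
  refine ⟨a * d + c * b, b * d, M.add_mem (M.mul_mem_right _ ha) (M.mul_mem_right _ hc),
    fun h => (hM.isPrime.mem_or_mem h).elim hb hd, ?_⟩
  have hb0 : (b : ℂ) ≠ 0 := fun h => hb ((ZeroMemClass.coe_eq_zero.mp h) ▸ M.zero_mem)
  have hd0 : (d : ℂ) ≠ 0 := fun h => hd ((ZeroMemClass.coe_eq_zero.mp h) ▸ M.zero_mem)
  push_cast
  field_simp

theorem localIdeal_neg {x : ℂ} (hx : Cfsg.MemLocalIdeal M x) : Cfsg.MemLocalIdeal M (-x) := by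
  obtain ⟨a, b, ha, hb, rfl⟩ := hx
  exact ⟨-a, b, M.neg_mem ha, hb, by push_cast; ring⟩

theorem localIdeal_mul_isIntegral {x y : ℂ} (hx : Cfsg.MemLocalIdeal M x)
    (hy : IsIntegral ℤ y) : Cfsg.MemLocalIdeal M (y * x) := by
  obtain ⟨a, b, ha, hb, rfl⟩ := hx
  exact ⟨⟨y, hy⟩ * a, b, M.mul_mem_left _ ha, hb, by push_cast; ring⟩

theorem localIdeal_sum (hM : M.IsMaximal) {ι : Type*} (s : Finset ι) {f : ι → ℂ}
    (h : ∀ i ∈ s, Cfsg.MemLocalIdeal M (f i)) : Cfsg.MemLocalIdeal M (∑ i ∈ s, f i) :=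
  Finset.sum_induction f _ (fun _ _ => localIdeal_add hM) (localIdeal_zero hM) h

/-- The only natural numbers in the local ideal are the multiples of `p`. -/
theorem dvd_of_natCast_mem_localIdeal {p : ℕ} (hM : Cfsg.IsPModular p M) {n : ℕ}
    (h : Cfsg.MemLocalIdeal M (n : ℂ)) : p ∣ n := by
  obtain ⟨hp, hmax, hpM⟩ := hM
  obtain ⟨a, b, ha, hb, hab⟩ := h
  have hb0 : (b : ℂ) ≠ 0 := fun h => hb ((ZeroMemClass.coe_eq_zero.mp h) ▸ M.zero_mem)
  have hn : (n : Cfsg.AlgInt) * b = a := by
    apply Subtype.ext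
    push_cast
    rw [← hab, div_mul_cancel₀ _ hb0]
  have hnM : (n : Cfsg.AlgInt) ∈ M := (hmax.isPrime.mem_or_mem (hn ▸ ha)).resolve_right hb
  by_contra hdvd
  have hcop : IsCoprime (p : ℤ) (n : ℤ) := by
    rw [Int.isCoprime_iff_nat_coprime]
    simpa using hp.coprime_iff_not_dvd.mpr hdvd
  obtain ⟨u, v, huv⟩ := hcop
  refine hmax.ne_top ((Ideal.eq_top_iff_one M).mpr ?_)
  have h1 : ((u : Cfsg.AlgInt) * p + (v : Cfsg.AlgInt) * n) ∈ M :=
    M.add_mem (M.mul_mem_left _ hpM) (M.mul_mem_left _ hnM)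
  rwa [show ((u : Cfsg.AlgInt) * p + (v : Cfsg.AlgInt) * n) = 1 by exact_mod_cast huv] at h1

end Local

variable {G : Type u} [Group G] [Fintype G]

theorem pregSum_eq_sum_classes (p : ℕ) {f : G → ℂ} (hf : Cfsg.IsClassFunction G f) :
    pregSum p f = ∑ C ∈ (Finset.univ.filter (fun g : G => ¬ p ∣ orderOf g)).image ConjClasses.mk,
      ((Subgroup.centralizer ({Quotient.out C} : Set G)).index : ℂ) * f (Quotient.out C) := by
  rw [pregSum, ← Finset.sum_fiberwise_of_maps_to (g := ConjClasses.mk)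
    (t := (Finset.univ.filter (fun g : G => ¬ p ∣ orderOf g)).image ConjClasses.mk)
    (fun a ha => Finset.mem_image_of_mem _ ha)]
  refine Finset.sum_congr rfl fun C hC => ?_
  obtain ⟨a, ha, rfl⟩ := Finset.mem_image.mp hC
  simp only [Finset.mem_filter, Finset.mem_univ, true_and] at ha
  set r := Quotient.out (ConjClasses.mk a) with hr
  have hra : ConjClasses.mk r = ConjClasses.mk a := Quotient.out_eq _
  have hfib : (Finset.univ.filter (fun g : G => ¬ p ∣ orderOf g)).filter
      (fun b => ConjClasses.mk b = ConjClasses.mk a) = (ConjClasses.mk r).carrier.toFinset := by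
    ext b
    simp only [Finset.mem_filter, Finset.mem_univ, true_and, Set.mem_toFinset,
      ConjClasses.mem_carrier_iff_mk_eq, hra]
    refine ⟨fun h => h.2, fun h => ⟨?_, h⟩⟩
    obtain ⟨c, hc⟩ := isConj_iff.mp (ConjClasses.mk_eq_mk_iff_isConj.mp h.symm)
    rw [← hc, show c * a * c⁻¹ = MulAut.conj c a from rfl, MulEquiv.orderOf_eq]
    exact ha
  rw [hfib, card_carrier_eq_index, Nat.card_eq_fintype_card, ← Set.toFinset_card, ← nsmul_eq_mul,
    ← Finset.sum_const]
  refine Finset.sum_congr rfl fun b hb => ?_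
  rw [Set.mem_toFinset, ConjClasses.mem_carrier_iff_mk_eq] at hb
  obtain ⟨c, hc⟩ := isConj_iff.mp (ConjClasses.mk_eq_mk_iff_isConj.mp hb.symm)
  rw [← hc, hf]

/-- The sum over the p-regular elements of a character of the principal block is not zero. -/
theorem pregSum_ne_zero {p : ℕ} [Fact p.Prime] {M : Ideal Cfsg.AlgInt}
    (hM : Cfsg.IsPModular p M) {χ : Cfsg.IrrCharacter G}
    (hχ : χ ∈ Cfsg.principalBlock M G) : pregSum p (χ : G → ℂ) ≠ 0 := by
  intro h0
  have hclass : Cfsg.IsClassFunction G (χ : G → ℂ) :=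
    Char.IsCharacter.isClassFunction (Char.irr_isCharacter χ)
  rw [pregSum_eq_sum_classes p hclass] at h0
  have hone : Cfsg.IsClassFunction G (fun _ : G => (1 : ℂ)) := fun _ _ => rfl
  set T := (Finset.univ.filter (fun g : G => ¬ p ∣ orderOf g)).image ConjClasses.mk with hT
  have h1 : Cfsg.MemLocalIdeal M (∑ C ∈ T,
      (Cfsg.centralChar (fun _ : G => (1 : ℂ)) (Quotient.out C) -
        Cfsg.centralChar (χ : G → ℂ) (Quotient.out C))) :=
    localIdeal_sum hM.2.1 T fun C _ => hχ _
  have h2 : ∑ C ∈ T, Cfsg.centralChar (χ : G → ℂ) (Quotient.out C) = 0 := by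
    simp only [Cfsg.centralChar]
    rw [← Finset.sum_div, h0, zero_div]
  have h3 : ∑ C ∈ T, Cfsg.centralChar (fun _ : G => (1 : ℂ)) (Quotient.out C) =
      (Nat.card {g : G // ¬ p ∣ orderOf g} : ℂ) := by
    have := pregSum_eq_sum_classes p hone
    simp only [Cfsg.centralChar, div_one]
    rw [← this, pregSum, Finset.sum_const, nsmul_eq_mul, mul_one, Nat.card_eq_fintype_card,
      Fintype.card_subtype]
  rw [Finset.sum_sub_distrib, h2, sub_zero, h3] at h1
  exact not_dvd_card_pRegular p (dvd_of_natCast_mem_localIdeal hM h1)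

/-- The principal block has at most `p ^ (2 * a)` members. -/
theorem card_principalBlock_le {p : ℕ} [Fact p.Prime] {M : Ideal Cfsg.AlgInt}
    (hM : Cfsg.IsPModular p M) :
    Nat.card (Cfsg.principalBlock M G) ≤ p ^ (2 * (Nat.card G).factorization p) := by
  set a := (Nat.card G).factorization p with ha
  set n := Nat.card G / p ^ a with hn
  have hG : (Nat.card G : ℂ) = ((p ^ a : ℕ) : ℂ) * (n : ℂ) := by
    rw [← Nat.cast_mul, hn, ha, Nat.ordProj_mul_ordCompl_eq_self]
  choose z hz using fun χ : Cfsg.IrrCharacter G =>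
    pregSum_dvd p (isRepChar_of_isCharacter (Char.irr_isCharacter χ))
  set f : G → ℂ := fun g => if ¬ p ∣ orderOf g then 1 else 0 with hf
  have hfc : Cfsg.IsClassFunction G f := fun g h => by
    simp only [hf]
    rw [show h * g * h⁻¹ = MulAut.conj h g from rfl, MulEquiv.orderOf_eq]
  have hinner : ∀ χ : Cfsg.IrrCharacter G,
      Cfsg.classInner (χ : G → ℂ) f = (z χ : ℂ) / ((p ^ a : ℕ) : ℂ) := by
    intro χ
    have h1 : ∑ g : G, (χ : G → ℂ) g * conj (f g) = pregSum p (χ : G → ℂ) := by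
      rw [pregSum, Finset.sum_filter]
      refine Finset.sum_congr rfl fun g _ => ?_
      simp only [hf]
      split_ifs <;> simp
    rw [Cfsg.classInner, h1, hz χ, ← hn, hG]
    have : (n : ℂ) ≠ 0 := Nat.cast_ne_zero.mpr (Nat.ordCompl_pos p Nat.card_pos.ne').ne'
    field_simp
  have hinner' : ∀ χ : Cfsg.IrrCharacter G,
      Cfsg.classInner f (χ : G → ℂ) = (z χ : ℂ) / ((p ^ a : ℕ) : ℂ) := by
    intro χ
    rw [← Char.conj_classInner (χ : G → ℂ) f, hinner χ]
    simp
  have hsum : (∑ χ : Cfsg.IrrCharacter G, ((z χ : ℝ) / ((p ^ a : ℕ) : ℝ)) ^ 2) ≤ 1 := by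
    have h1 : Cfsg.classInner f f =
        ((((Nat.card {g : G // ¬ p ∣ orderOf g} : ℕ) : ℝ) / (Nat.card G : ℝ) : ℝ) : ℂ) := by
      have : ∀ g : G, f g * conj (f g) = f g := fun g => by
        simp only [hf]; split_ifs <;> simp
      rw [Cfsg.classInner, Finset.sum_congr rfl (fun g _ => this g), hf]
      push_cast
      rw [← Finset.sum_filter, Finset.sum_const, nsmul_eq_mul, mul_one, Nat.card_eq_fintype_card
        (α := {g : G // ¬ p ∣ orderOf g}), Fintype.card_subtype, div_eq_mul_inv, mul_comm]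
    rw [Char.classInner_eq_sum hfc] at h1
    simp only [hinner, hinner'] at h1
    have h2 : (∑ χ : Cfsg.IrrCharacter G, ((z χ : ℝ) / ((p ^ a : ℕ) : ℝ)) ^ 2) =
        ((Nat.card {g : G // ¬ p ∣ orderOf g} : ℕ) : ℝ) / (Nat.card G : ℝ) := by
      apply Complex.ofReal_injective
      rw [← h1]
      push_cast
      exact Finset.sum_congr rfl fun χ _ => sq _
    rw [h2, div_le_one (by exact_mod_cast Nat.card_pos)]
    exact_mod_cast Finite.card_subtype_le _
  set B := (Cfsg.principalBlock M G).toFinset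
  have hcard : Nat.card (Cfsg.principalBlock M G) = B.card := by
    rw [Nat.card_eq_fintype_card, ← Set.toFinset_card]
  have hterm : ∀ χ ∈ B, (1 : ℝ) / ((p ^ a : ℕ) : ℝ) ^ 2 ≤ ((z χ : ℝ) / ((p ^ a : ℕ) : ℝ)) ^ 2 := by
    intro χ hχ
    rw [div_pow]
    gcongr
    have hne : z χ ≠ 0 := by
      intro h
      exact pregSum_ne_zero hM (Set.mem_toFinset.mp hχ) (by rw [hz χ, h]; simp)
    have : (1 : ℤ) ≤ z χ ^ 2 := by
      rw [← sq_abs]; exact one_le_pow₀ (Int.one_le_abs hne)
    exact_mod_cast this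
  have hfinal : (B.card : ℝ) * (1 / ((p ^ a : ℕ) : ℝ) ^ 2) ≤ 1 := by
    refine le_trans ?_ (le_trans (Finset.sum_le_univ_sum_of_nonneg (s := B)
      (fun χ => sq_nonneg _)) hsum)
    rw [← nsmul_eq_mul, ← Finset.sum_const]
    exact Finset.sum_le_sum hterm
  rw [hcard, mul_comm, pow_mul]
  rw [mul_one_div, div_le_one (pow_pos (Nat.cast_pos.mpr (pow_pos (Fact.out : p.Prime).pos a)) 2)] at hfinal
  exact_mod_cast hfinal

/-- Bounded multisets: naturals whose reciprocals sum to a given positive rational. -/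
theorem exists_bound_sum_inv (n : ℕ) :
    ∀ s : ℚ, ∃ N : ℕ, ∀ m : Multiset ℕ, m.card = n → (∀ x ∈ m, 0 < x) →
      (m.map (fun x : ℕ => (x : ℚ)⁻¹)).sum = s → ∀ x ∈ m, x ≤ N := by
  induction n with
  | zero =>
    intro s
    refine ⟨0, fun m hm _ _ x hx => ?_⟩
    rw [Multiset.card_eq_zero.mp hm] at hx
    simp at hx
  | succ n ih =>
    intro s
    choose N hN using ih
    -- the least member is at most `(n + 1) / s`
    set B := ⌊((n : ℚ) + 1) / s⌋₊ with hB
    refine ⟨B + ∑ x ∈ Finset.range (B + 1), N (s - (x : ℚ)⁻¹), fun m hm hpos hsum y hy => ?_⟩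
    obtain ⟨x, hx, hmin⟩ := Finset.exists_min_image m.toFinset id ⟨y, Multiset.mem_toFinset.mpr hy⟩
    rw [Multiset.mem_toFinset] at hx
    have hx0 : (0 : ℚ) < x := by exact_mod_cast hpos x hx
    have hle : s ≤ ((n : ℚ) + 1) * (x : ℚ)⁻¹ := by
      rw [← hsum]
      refine (Multiset.sum_le_card_nsmul _ ((x : ℚ)⁻¹) ?_).trans ?_
      · intro w hw
        obtain ⟨k, hk, rfl⟩ := Multiset.mem_map.mp hw
        have : x ≤ k := hmin k (Multiset.mem_toFinset.mpr hk)
        gcongr
      · rw [Multiset.card_map, hm, nsmul_eq_mul]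
        push_cast
        exact le_rfl
    have hs : 0 < s := by
      rw [← hsum]
      obtain ⟨m', rfl⟩ := Multiset.exists_cons_of_mem hx
      rw [Multiset.map_cons, Multiset.sum_cons]
      refine add_pos_of_pos_of_nonneg (inv_pos.mpr hx0) (Multiset.sum_nonneg ?_)
      intro w hw
      obtain ⟨k, _, rfl⟩ := Multiset.mem_map.mp hw
      positivity
    have hxB : x ≤ B := by
      rw [hB, Nat.le_floor_iff (by positivity), le_div_iff₀ hs]
      rw [← div_eq_mul_inv, le_div_iff₀ hx0] at hle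
      linarith
    obtain ⟨m', rfl⟩ := Multiset.exists_cons_of_mem hx
    rw [Multiset.map_cons, Multiset.sum_cons] at hsum
    have hm' := hN (s - (x : ℚ)⁻¹) m' (by simpa using hm)
      (fun w hw => hpos w (Multiset.mem_cons_of_mem hw)) (by rw [← hsum]; ring)
    rcases Multiset.mem_cons.mp hy with rfl | hy'
    · omega
    · have hsum' : N (s - (x : ℚ)⁻¹) ≤ ∑ w ∈ Finset.range (B + 1), N (s - (w : ℚ)⁻¹) :=
        Finset.single_le_sum (f := fun w : ℕ => N (s - (w : ℚ)⁻¹)) (fun _ _ => Nat.zero_le _)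
          (Finset.mem_range.mpr (by omega))
      have := hm' y hy'
      omega

/-- Landau: a bound on the number of classes bounds the order. -/
theorem exists_card_le_of_conjClasses (k : ℕ) : ∃ N : ℕ, ∀ (G : Type u) [Group G] [Finite G],
    Nat.card (ConjClasses G) ≤ k → Nat.card G ≤ N := by
  choose N hN using fun n => exists_bound_sum_inv n 1
  refine ⟨∑ n ∈ Finset.range (k + 1), N n, fun G _ _ hk => ?_⟩
  haveI := Fintype.ofFinite G
  haveI : Finite (ConjClasses G) := Finite.of_surjective _ ConjClasses.mk_surjective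
  haveI := Fintype.ofFinite (ConjClasses G)
  set m : Multiset ℕ := (Finset.univ : Finset (ConjClasses G)).val.map
    (fun C : ConjClasses G => Nat.card (Subgroup.centralizer ({Quotient.out C} : Set G))) with hm
  have hcard : m.card = Nat.card (ConjClasses G) := by
    rw [hm, Multiset.card_map, Nat.card_eq_fintype_card]
    rfl
  have hsum : (m.map (fun x : ℕ => (x : ℚ)⁻¹)).sum = 1 := by
    rw [hm, Multiset.map_map]
    show ∑ C : ConjClasses G, ((Nat.card (Subgroup.centralizer ({Quotient.out C} : Set G)) : ℚ))⁻¹ = 1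
    have h1 : ∀ C : ConjClasses G,
        ((Nat.card (Subgroup.centralizer ({Quotient.out C} : Set G)) : ℚ))⁻¹ =
          (Nat.card C.carrier : ℚ) / (Nat.card G : ℚ) := by
      intro C
      have h2 := Subgroup.card_mul_index (Subgroup.centralizer ({Quotient.out C} : Set G))
      rw [card_carrier_eq_index, show ConjClasses.mk (Quotient.out C) = C from Quotient.out_eq C]
        at h2
      have hG0 : (Nat.card G : ℚ) ≠ 0 := Nat.cast_ne_zero.mpr Nat.card_pos.ne'
      rw [← h2] at hG0 ⊢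
      push_cast at hG0 ⊢
      have hA0 := (mul_ne_zero_iff.mp hG0).1
      have hB0 := (mul_ne_zero_iff.mp hG0).2
      field_simp
    rw [Finset.sum_congr rfl (fun C _ => h1 C), ← Finset.sum_div,
      div_eq_one_iff_eq (Nat.cast_ne_zero.mpr Nat.card_pos.ne'), ← Nat.cast_sum]
    congr 1
    rw [Nat.card_eq_fintype_card]
    simpa [Nat.card_eq_fintype_card] using sum_conjClasses_card_eq_card G
  have hmem : Nat.card G ∈ m := by
    rw [hm, Multiset.mem_map]
    refine ⟨ConjClasses.mk 1, Finset.mem_univ _, ?_⟩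
    have h1 : Quotient.out (ConjClasses.mk (1 : G)) = 1 :=
      isConj_one_right.mp (ConjClasses.mk_eq_mk_iff_isConj.mp (Quotient.out_eq _)).symm
    rw [h1]
    have : Subgroup.centralizer ({1} : Set G) = ⊤ := by
      ext x; simp [Subgroup.mem_centralizer_singleton_iff]
    rw [this, Subgroup.card_top]
  refine (hN m.card m rfl ?_ hsum _ hmem).trans ?_
  · intro x hx
    obtain ⟨C, _, rfl⟩ := Multiset.mem_map.mp hx
    exact Nat.card_pos
  · exact Finset.single_le_sum (f := N) (fun _ _ => Nat.zero_le _)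
      (Finset.mem_range.mpr (by omega))

end Cfsg.Agent.BlockCount
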