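import Cfsg.Agent.Lib.Blocks.ThirdMain
import Cfsg.Agent.Lib.Char.Orthogonality
import Cfsg.Agent.Lib.CharInt.Basic
import Cfsg.Agent.Lib.Transfer.Residual
import Mathlib.RingTheory.IntegralClosure.IntegrallyClosed

/-!
# Sums over a single p-section covering all p-singular elements

Let `x` have order `p`, let every p-singular element have p-part conjugate to `x`, and let
`C(x)` have a normal p-complement `V`.  A sum of a class function over the p-singular elements is
then a multiple of its sum over `x V`.  Also: sums of irreducible characters over shifted sets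
of p-regular elements, and integrality of a value that is constant on a p-subgroup minus 1.
-/

set_option autoImplicit false
set_option linter.style.haveILetI false
set_option linter.unusedSectionVars false
open Cfsg

namespace Cfsg.Agent.BlockCount

open Cfsg.Agent.Blocks
open scoped Classical ComplexConjugate

universe u

variable {G : Type u} [Group G] [Fintype G] {p : ℕ} [hp : Fact p.Prime]

theorem isPPart_one_of_regular {g : G} (hg : IsPRegular p g) : IsPPart p g 1 :=
  ⟨g, one_mul g, Commute.one_left g, ⟨0, by simp⟩, hg⟩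

theorem commute_and_regular_of_mem_core {x v : G} (hv : v ∈ centralizerPPrimeCore p x) :
    Commute x v ∧ IsPRegular p v := by
  obtain ⟨v', hv', rfl⟩ := Subgroup.mem_map.1 hv
  refine ⟨(Subgroup.mem_centralizer_singleton_iff.1 v'.2).symm, ?_⟩
  show ¬ p ∣ orderOf (v' : G)
  rw [Subgroup.orderOf_coe]
  exact fun hd => PCore.not_dvd_card_pPrimeCore (p := p)
    (G := Subgroup.centralizer ({x} : Set G))
    (hd.trans (Subgroup.orderOf_dvd_natCard _ hv'))

theorem mem_core_of_commute_regular {x : G}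
    (hnc : HasNormalPComplement p (Subgroup.centralizer ({x} : Set G))) {v : G}
    (hc : Commute x v) (hv : IsPRegular p v) : v ∈ centralizerPPrimeCore p x := by
  haveI := Transfer.pResidual_normal (G := Subgroup.centralizer ({x} : Set G)) p
  refine Subgroup.mem_map.2 ⟨⟨v, Subgroup.mem_centralizer_singleton_iff.2 hc.eq.symm⟩, ?_, rfl⟩
  refine PCore.le_pPrimeCore (N := Cfsg.pResidual p _) ?_ (Transfer.mem_residual_of_coprime ?_)
  · exact ((Nat.Prime.coprime_iff_not_dvd hp.out).2
      (Transfer.hasNormalPComplement_iff.1 hnc)).symm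
  · rw [← Subgroup.orderOf_coe]
    exact ((Nat.Prime.coprime_iff_not_dvd hp.out).2 hv).symm

theorem isPPart_mul_core {x : G} (hx : orderOf x = p) {v : G}
    (hv : v ∈ centralizerPPrimeCore p x) : IsPPart p (x * v) x :=
  isPPart_mul (commute_and_regular_of_mem_core hv).1 ⟨1, by rw [hx, pow_one]⟩
    (commute_and_regular_of_mem_core hv).2

/-- A sum of a class function over the p-singular elements, when one class of elements of
order `p` gives all the p-parts. -/
theorem sum_singular {x : G} (hx : orderOf x = p)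
    (hsec : ∀ g : G, ¬ IsPRegular p g → ∃ h : G, IsPPart p g (h * x * h⁻¹))
    (hnc : HasNormalPComplement p (Subgroup.centralizer ({x} : Set G)))
    {f : G → ℂ} (hf : IsClassFunction G f) :
    (Nat.card (Subgroup.centralizer ({x} : Set G)) : ℂ) *
        ∑ g ∈ Finset.univ.filter (fun g => ¬ IsPRegular p g), f g =
      (Nat.card G : ℂ) *
        ∑ v ∈ Finset.univ.filter (· ∈ centralizerPPrimeCore p x), f (x * v) := by
  set Vf := Finset.univ.filter (· ∈ centralizerPPrimeCore p x) with hVf
  let φ : G × G → G := fun a => a.1 * (x * a.2) * a.1⁻¹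
  have e1 : ∑ a ∈ Finset.univ ×ˢ Vf, f (φ a) = (Nat.card G : ℂ) * ∑ v ∈ Vf, f (x * v) := by
    rw [Finset.sum_product, Finset.sum_congr rfl (g := fun _ => ∑ v ∈ Vf, f (x * v))
      (fun h _ => Finset.sum_congr rfl fun v _ => hf (x * v) h), Finset.sum_const, Finset.card_univ,
      nsmul_eq_mul, Nat.card_eq_fintype_card]
  have hpp : ∀ a ∈ Finset.univ ×ˢ Vf, IsPPart p (φ a) (a.1 * x * a.1⁻¹) := fun a ha =>
    IsPPart.conj (isPPart_mul_core hx (Finset.mem_filter.1 (Finset.mem_product.1 ha).2).2) a.1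
  have hmaps : ∀ a ∈ Finset.univ ×ˢ Vf, φ a ∈ Finset.univ.filter (fun g => ¬ IsPRegular p g) := by
    refine fun a ha => Finset.mem_filter.2 ⟨Finset.mem_univ _, fun hreg => ?_⟩
    have h1 := IsPPart.unique (hpp a ha) (isPPart_one_of_regular hreg)
    rw [conj_eq_one_iff] at h1
    rw [h1, orderOf_one] at hx
    exact hp.out.ne_one hx.symm
  rw [← e1, ← Finset.sum_fiberwise_of_maps_to hmaps, Finset.mul_sum]
  refine Finset.sum_congr rfl fun g hg => ?_
  rw [Finset.sum_congr rfl (g := fun _ => f g) (fun a ha => by rw [(Finset.mem_filter.1 ha).2]),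
    Finset.sum_const, nsmul_eq_mul]
  congr 1
  obtain ⟨h0, hh0⟩ := hsec g (Finset.mem_filter.1 hg).2
  obtain ⟨w, hw, hwc, hwp, hwr⟩ := hh0
  set v0 := h0⁻¹ * w * h0 with hv0
  have hv0m : v0 ∈ centralizerPPrimeCore p x := by
    refine mem_core_of_commute_regular hnc ?_ ?_
    · show x * v0 = v0 * x
      calc x * (h0⁻¹ * w * h0) = h0⁻¹ * (h0 * x * h0⁻¹ * w) * h0 := by group
        _ = h0⁻¹ * (w * (h0 * x * h0⁻¹)) * h0 := by rw [hwc.eq]
        _ = h0⁻¹ * w * h0 * x := by group
    · have : IsPRegular p (h0⁻¹ * w * h0⁻¹⁻¹) := (isPRegular_conj _).2 hwr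
      rwa [inv_inv] at this
  rw [Nat.card_eq_fintype_card, ← Finset.card_univ]
  congr 1
  refine (Finset.card_bij (fun a ha => (⟨h0⁻¹ * a.1, ?_⟩ : Subgroup.centralizer ({x} : Set G)))
    (fun _ _ => Finset.mem_univ _) ?_ ?_).symm
  · obtain ⟨ha1, ha2⟩ := Finset.mem_filter.1 ha
    have hg' : IsPPart p g (h0 * x * h0⁻¹) := ⟨w, hw, hwc, hwp, hwr⟩
    have := IsPPart.unique (hpp a ha1) (ha2.symm ▸ hg')
    rw [Subgroup.mem_centralizer_singleton_iff]
    calc h0⁻¹ * a.1 * x = h0⁻¹ * (a.1 * x * a.1⁻¹) * a.1 := by group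
      _ = x * (h0⁻¹ * a.1) := by rw [this]; group
  · intro a ha b hb hab
    have h1 : a.1 = b.1 := mul_left_cancel (congrArg Subtype.val hab)
    refine Prod.ext h1 ?_
    have h3 : a.1 * (x * a.2) * a.1⁻¹ = b.1 * (x * b.2) * b.1⁻¹ :=
      ((Finset.mem_filter.1 ha).2).trans ((Finset.mem_filter.1 hb).2).symm
    rw [h1] at h3
    exact mul_left_cancel (mul_left_cancel (mul_right_cancel h3))
  · intro c _
    have hc : (c : G) * x = x * c := Subgroup.mem_centralizer_singleton_iff.1 c.2
    have hmem : (c : G)⁻¹ * v0 * c ∈ centralizerPPrimeCore p x := by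
      obtain ⟨hv1, hv2⟩ := commute_and_regular_of_mem_core hv0m
      have hc' : Commute x (c : G) := hc.symm
      refine mem_core_of_commute_regular hnc ((hc'.inv_right.mul_right hv1).mul_right hc') ?_
      have : IsPRegular p ((c : G)⁻¹ * v0 * (c : G)⁻¹⁻¹) := (isPRegular_conj _).2 hv2
      rwa [inv_inv] at this
    refine ⟨(h0 * c, (c : G)⁻¹ * v0 * c), Finset.mem_filter.2
      ⟨Finset.mem_product.2 ⟨Finset.mem_univ _, Finset.mem_filter.2 ⟨Finset.mem_univ _, hmem⟩⟩,
        ?_⟩, Subtype.ext (inv_mul_cancel_left _ _)⟩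
    show h0 * c * (x * ((c : G)⁻¹ * v0 * c)) * (h0 * c)⁻¹ = g
    calc h0 * c * (x * ((c : G)⁻¹ * v0 * c)) * (h0 * c)⁻¹
        = h0 * ((c : G) * x) * (c : G)⁻¹ * v0 * h0⁻¹ := by group
      _ = h0 * x * h0⁻¹ * w := by rw [hc, hv0]; group
      _ = g := hw

theorem sum_univ_irr (χ : IrrCharacter G) :
    ∑ g : G, χ.1 g = if χ = Char.trivialChar G then (Nat.card G : ℂ) else 0 := by
  have h := Char.classInner_irr χ (Char.trivialChar G)
  have hG : (Nat.card G : ℂ) ≠ 0 := Nat.cast_ne_zero.2 Nat.card_pos.ne'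
  simp only [classInner, Char.trivialChar_apply, map_one, mul_one] at h
  split_ifs at h ⊢ with hc
  · field_simp at h
    exact h
  · simpa [hG] using h

/-- A character summed over `x` times the p-regular elements. -/
theorem sum_regular_shift (p : ℕ) (χ : IrrCharacter G) (x : G) :
    ∑ g ∈ Finset.univ.filter (IsPRegular p), χ.1 (x * g) =
      (∑ g ∈ Finset.univ.filter (IsPRegular p), χ.1 g) / χ.1 1 * χ.1 x := by
  have hz : regSum p G = ∑ g ∈ Finset.univ.filter (IsPRegular p),
      MonoidAlgebra.single g (1 : ℂ) := by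
    conv_lhs => rw [eq_sum_single (regSum p G)]
    rw [Finset.sum_filter]
    refine Finset.sum_congr rfl fun g _ => ?_
    rw [coeff_regSum]
    split_ifs <;> simp
  have h := chiL_mul_of_central χ (isCentralElt_regSum p) (MonoidAlgebra.single x (1 : ℂ))
  rw [omega, hz, Finset.sum_mul] at h
  simp only [chiL_sum, MonoidAlgebra.single_mul_single, chiL_single, one_mul] at h
  rw [← h]
  exact Finset.sum_congr rfl fun g _ =>
    Char.IsClassFunction.apply_mul_comm (irr_classFun χ) x g

/-- A value shared by all non-trivial elements of a subgroup of order `q` is an integer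
congruent to the degree modulo `q`. -/
theorem exists_int_value (P : Subgroup G) (χ : IrrCharacter G) {x : G} (hq : 1 < Nat.card P)
    (hval : ∀ z ∈ P, z ≠ 1 → χ.1 z = χ.1 x) :
    ∃ a k : ℤ, χ.1 x = a ∧ (Char.degree χ : ℤ) - a = (Nat.card P : ℤ) * k := by
  obtain ⟨m, -, hm⟩ := Char.IsCharacter.exists_decomp
    (Char.IsCharacter.restrict (Char.irr_isCharacter χ) P)
  have h := hm (Char.trivialChar P)
  simp only [classInner, Char.trivialChar_apply, map_one, mul_one] at h
  set q := Nat.card P with hqdef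
  set d := Char.degree χ with hd
  have hs : ∑ z : P, χ.1 (z : G) = (d : ℂ) + ((q : ℂ) - 1) * χ.1 x := by
    rw [← Finset.add_sum_erase _ _ (Finset.mem_univ (1 : P)), OneMemClass.coe_one,
      Char.apply_one_eq_degree, Finset.sum_congr rfl (g := fun _ => χ.1 x)
      (fun z hz => hval _ z.2 fun h1 => (Finset.mem_erase.1 hz).1 (Subtype.ext h1)),
      Finset.sum_const, Finset.card_erase_of_mem (Finset.mem_univ _), Finset.card_univ,
      nsmul_eq_mul, ← Nat.card_eq_fintype_card, Nat.cast_sub (by omega), Nat.cast_one]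
  rw [hs] at h
  set k0 := m (Char.trivialChar P)
  have hq0 : (q : ℂ) ≠ 0 := Nat.cast_ne_zero.2 (by omega)
  have hq1 : (q : ℂ) - 1 ≠ 0 := by
    rw [sub_ne_zero]; exact_mod_cast (by omega : q ≠ 1)
  field_simp at h
  have hr : χ.1 x = algebraMap ℚ ℂ (((q : ℚ) * k0 - d) / ((q : ℚ) - 1)) := by
    simp only [eq_ratCast]
    push_cast
    rw [eq_div_iff hq1]
    linear_combination h
  have hi : IsIntegral ℤ (((q : ℚ) * k0 - d) / ((q : ℚ) - 1)) :=
    (isIntegral_algebraMap_iff (algebraMap ℚ ℂ).injective).1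
      (hr ▸ CharInt.isIntegral_char (Char.irr_isCharacter χ) x)
  obtain ⟨a, ha⟩ := IsIntegrallyClosed.isIntegral_iff.1 hi
  have hxa : χ.1 x = (a : ℂ) := by rw [hr, ← ha]; simp
  refine ⟨a, (k0 : ℤ) - a, hxa, ?_⟩
  rw [hxa] at h
  have h' : (((d : ℤ) + ((q : ℤ) - 1) * a : ℤ) : ℂ) = (((q : ℤ) * k0 : ℤ) : ℂ) := by
    push_cast; linear_combination h
  linear_combination (Int.cast_injective h' : (d : ℤ) + ((q : ℤ) - 1) * a = (q : ℤ) * k0)

theorem eq_trivial_of_apply_eq [IsSimpleGroup G] (χ : IrrCharacter G) {x : G} (hx : x ≠ 1)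
    (hk : χ.1 x = χ.1 1) : χ = Char.trivialChar G := by
  set K := CharInt.charKernel (Char.irr_isCharacter χ)
  have htop : K = ⊤ :=
    ((CharInt.charKernel_normal (Char.irr_isCharacter χ)).eq_bot_or_eq_top).resolve_left
      fun hb => hx (Subgroup.mem_bot.1 (hb ▸ hk : x ∈ (⊥ : Subgroup G)))
  have hc : ∀ g, χ.1 g = χ.1 1 := fun g => (htop ▸ Subgroup.mem_top g : g ∈ K)
  by_contra hne
  have h := sum_univ_irr χ
  rw [if_neg hne, Finset.sum_congr rfl (fun g _ => hc g), Finset.sum_const, Finset.card_univ,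
    nsmul_eq_mul] at h
  exact mul_ne_zero (Nat.cast_ne_zero.2 Fintype.card_ne_zero) (irr_one_ne_zero χ) h

end Cfsg.Agent.BlockCount
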