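import Cfsg.Agent.Lib.Involution.BrauerFowler
import Cfsg.Agent.Lib.RankOne.Inverted
import Mathlib.GroupTheory.SchurZassenhaus

/-!
# Groups with an involution of small centraliser

A four-group acting on a group of odd order with small fixed point groups bounds it, and a group
without non-trivial normal subgroups of odd order is bounded by its 2-part and the order of the
centraliser of one involution.
-/

set_option autoImplicit false

open scoped Classical

namespace Cfsg.Agent.BlockCount

universe u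

variable {M : Type u} [Group M]

/-- Every element of an odd group acted on by a four-group is `c * e * v * e`. -/
theorem exists_four_group_factors {K : Subgroup M} (hodd : Odd (Nat.card K)) {x y : M}
    (hx : x * x = 1) (hy : y * y = 1) (hxy : x * y = y * x)
    (hnx : ∀ k ∈ K, x * k * x⁻¹ ∈ K) (hny : ∀ k ∈ K, y * k * y⁻¹ ∈ K) {k : M} (hk : k ∈ K) :
    ∃ c e v : M, (c ∈ K ∧ x * c * x⁻¹ = c) ∧ (e ∈ K ∧ y * e * y⁻¹ = e) ∧
      (v ∈ K ∧ (x * y) * v * (x * y)⁻¹ = v) ∧ k = c * e * v * e := by
  obtain ⟨c, i, hc, hcx, hi, hix, rfl⟩ := RankOne.exists_fix_mul_inverted hodd hx hnx hk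
  obtain ⟨d, j, hd, hdy, hj, hjy, rfl⟩ := RankOne.exists_fix_mul_inverted hodd hy hny hi
  have e1 : y * (x * d * x⁻¹) * y⁻¹ = x * d * x⁻¹ := by
    calc y * (x * d * x⁻¹) * y⁻¹ = (y * x) * d * (y * x)⁻¹ := by group
      _ = (x * y) * d * (x * y)⁻¹ := by rw [hxy]
      _ = x * (y * d * y⁻¹) * x⁻¹ := by group
      _ = x * d * x⁻¹ := by rw [hdy]
  have e2 : y * (x * j * x⁻¹) * y⁻¹ = (x * j * x⁻¹)⁻¹ := by
    calc y * (x * j * x⁻¹) * y⁻¹ = (y * x) * j * (y * x)⁻¹ := by group
      _ = (x * y) * j * (x * y)⁻¹ := by rw [hxy]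
      _ = x * (y * j * y⁻¹) * x⁻¹ := by group
      _ = (x * j * x⁻¹)⁻¹ := by rw [hjy]; group
  have e3 : y * (d * j⁻¹ * d⁻¹) * y⁻¹ = (d * j⁻¹ * d⁻¹)⁻¹ := by
    calc y * (d * j⁻¹ * d⁻¹) * y⁻¹
        = (y * d * y⁻¹) * (y * j * y⁻¹)⁻¹ * (y * d * y⁻¹)⁻¹ := by group
      _ = (d * j⁻¹ * d⁻¹)⁻¹ := by rw [hdy, hjy]; group
  have e4 : y * d⁻¹ * y⁻¹ = d⁻¹ := by
    calc y * d⁻¹ * y⁻¹ = (y * d * y⁻¹)⁻¹ := by group
      _ = d⁻¹ := by rw [hdy]
  have e5 : (x * d * x⁻¹) * (x * j * x⁻¹) = d⁻¹ * (d * j⁻¹ * d⁻¹) := by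
    calc (x * d * x⁻¹) * (x * j * x⁻¹) = x * (d * j) * x⁻¹ := by group
      _ = (d * j)⁻¹ := hix
      _ = d⁻¹ * (d * j⁻¹ * d⁻¹) := by group
  obtain ⟨f1, f2⟩ := RankOne.fix_mul_inverted_unique hodd (hnx j hj)
    (mul_mem (mul_mem hd (inv_mem hj)) (inv_mem hd)) e1 e4 e2 e3 e5
  obtain ⟨e, he, hee⟩ := RankOne.exists_sqrt hodd hd
  have heX : e ∈ K := Subgroup.zpowers_le.2 hd he
  have hex : x * e * x⁻¹ = e⁻¹ := RankOne.conj_zpowers_inv f1 he
  have hey : y * e * y⁻¹ = e := RankOne.conj_zpowers_fix hdy he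
  have hexy : (x * y) * e * (x * y)⁻¹ = e⁻¹ := by
    calc (x * y) * e * (x * y)⁻¹ = x * (y * e * y⁻¹) * x⁻¹ := by group
      _ = e⁻¹ := by rw [hey, hex]
  have hjxy : (x * y) * j * (x * y)⁻¹ = d * j * d⁻¹ := by
    calc (x * y) * j * (x * y)⁻¹ = x * (y * j * y⁻¹) * x⁻¹ := by group
      _ = (x * j * x⁻¹)⁻¹ := by rw [hjy]; group
      _ = d * j * d⁻¹ := by rw [f2]; group
  have hu : (x * y) * (e * j * e⁻¹) * (x * y)⁻¹ = e * j * e⁻¹ := by
    calc (x * y) * (e * j * e⁻¹) * (x * y)⁻¹
        = ((x * y) * e * (x * y)⁻¹) * ((x * y) * j * (x * y)⁻¹) *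
            ((x * y) * e * (x * y)⁻¹)⁻¹ := by group
      _ = e⁻¹ * (d * j * d⁻¹) * e := by rw [hexy, hjxy, inv_inv]
      _ = e * j * e⁻¹ := by rw [← hee]; group
  exact ⟨c, e, e * j * e⁻¹, ⟨hc, hcx⟩, ⟨heX, hey⟩, ⟨mul_mem (mul_mem heX hj) (inv_mem heX), hu⟩,
    by rw [← hee]; group⟩

/-- A four-group bounds an odd group by its three fixed point groups. -/
theorem card_le_of_four_group [Finite M] {K : Subgroup M} (hodd : Odd (Nat.card K)) {x y : M}
    (hx : x * x = 1) (hy : y * y = 1) (hxy : x * y = y * x)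
    (hnx : ∀ k ∈ K, x * k * x⁻¹ ∈ K) (hny : ∀ k ∈ K, y * k * y⁻¹ ∈ K) {c : ℕ}
    (hcx : Nat.card (Subgroup.centralizer ({x} : Set M)) ≤ c)
    (hcy : Nat.card (Subgroup.centralizer ({y} : Set M)) ≤ c)
    (hcxy : Nat.card (Subgroup.centralizer ({x * y} : Set M)) ≤ c) :
    Nat.card K ≤ c * c * c := by
  choose a e v ha he hv hk using fun k : K => exists_four_group_factors hodd hx hy hxy hnx hny k.2
  have hmem : ∀ {t b : M}, t * b * t⁻¹ = b → b ∈ Subgroup.centralizer ({t} : Set M) :=
    fun h => Subgroup.mem_centralizer_singleton_iff.2 (mul_inv_eq_iff_eq_mul.1 h).symm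
  let f : K → (Subgroup.centralizer ({x} : Set M) × Subgroup.centralizer ({y} : Set M)) ×
      Subgroup.centralizer ({x * y} : Set M) := fun k =>
    ((⟨a k, hmem (ha k).2⟩, ⟨e k, hmem (he k).2⟩), ⟨v k, hmem (hv k).2⟩)
  have hf : Function.Injective f := by
    intro k l h
    simp only [f, Prod.mk.injEq, Subtype.mk.injEq] at h
    refine Subtype.ext ?_
    rw [hk k, hk l, h.1.1, h.1.2, h.2]
  refine (Nat.card_le_card_of_injective f hf).trans ?_
  rw [Nat.card_prod, Nat.card_prod]
  exact Nat.mul_le_mul (Nat.mul_le_mul hcx hcy) hcxy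

/-- The elements whose commutator with `x` lies in `R` are few. -/
theorem card_centralizer_quotient_le [Finite M] (R : Subgroup M) [R.Normal] (x : M) :
    Nat.card (Subgroup.centralizer ({(x : M ⧸ R)} : Set (M ⧸ R))) ≤
      Nat.card (Subgroup.centralizer ({x} : Set M)) * Nat.card R := by
  let P := (Subgroup.centralizer ({(x : M ⧸ R)} : Set (M ⧸ R))).comap (QuotientGroup.mk' R)
  have hP : ∀ g : P, (g : M) * x * (g : M)⁻¹ * x⁻¹ ∈ R := fun g => by
    have h := Subgroup.mem_centralizer_singleton_iff.1 g.2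
    rw [QuotientGroup.mk'_apply] at h
    rw [← QuotientGroup.eq_one_iff]
    rw [QuotientGroup.mk_mul, QuotientGroup.mk_mul, QuotientGroup.mk_mul, QuotientGroup.mk_inv,
      QuotientGroup.mk_inv, h]
    group
  let f : P → R := fun g => ⟨_, hP g⟩
  have hfib : ∀ r : R, Nat.card {g : P // f g = r} ≤
      Nat.card (Subgroup.centralizer ({x} : Set M)) := by
    intro r
    rcases isEmpty_or_nonempty {g : P // f g = r} with h | ⟨⟨g₀, h₀⟩⟩
    · simp
    refine Nat.card_le_card_of_injective (fun g => ⟨(g₀ : M)⁻¹ * (g.1 : M), ?_⟩) ?_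
    · rw [Subgroup.mem_centralizer_singleton_iff]
      have h := congrArg Subtype.val (g.2.trans h₀.symm)
      simp only [f] at h
      have h2 : (g.1 : M) * x * (g.1 : M)⁻¹ = (g₀ : M) * x * (g₀ : M)⁻¹ := mul_right_cancel h
      calc (g₀ : M)⁻¹ * (g.1 : M) * x = (g₀ : M)⁻¹ * ((g.1 : M) * x * (g.1 : M)⁻¹) * g.1 := by group
        _ = x * ((g₀ : M)⁻¹ * (g.1 : M)) := by rw [h2]; group
    · intro g g' h
      exact Subtype.ext (Subtype.ext (mul_left_cancel (congrArg Subtype.val h)))
  have h1 : Nat.card P ≤ Nat.card (Subgroup.centralizer ({x} : Set M)) * Nat.card R := by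
    haveI := Fintype.ofFinite R
    rw [← Nat.card_congr (Equiv.sigmaFiberEquiv f), Nat.card_sigma, mul_comm,
      Nat.card_eq_fintype_card (α := R), ← Finset.card_univ, ← smul_eq_mul, ← Finset.sum_const]
    exact Finset.sum_le_sum fun r _ => hfib r
  refine le_trans (Nat.card_le_card_of_surjective (fun g : P => ⟨QuotientGroup.mk' R g, g.2⟩) ?_) h1
  rintro ⟨q, hq⟩
  obtain ⟨g, rfl⟩ := QuotientGroup.mk'_surjective R q
  exact ⟨⟨g, hq⟩, rfl⟩

/-- A normal subgroup with central 2-group of odd index has that as the whole group when there are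
no odd normal subgroups. -/
theorem eq_of_central_odd_index [Finite M] (hO : ∀ K : Subgroup M, K.Normal → Odd (Nat.card K) → K = ⊥)
    {Z S : Subgroup M} [S.Normal] (hZS : Z ≤ S) (hcent : ∀ z ∈ Z, ∀ s ∈ S, s * z = z * s)
    {n : ℕ} (hZ : Nat.card Z = 2 ^ n) (hodd : Odd (Z.relIndex S)) : Z = S := by
  haveI : (Z.subgroupOf S).Normal := ⟨fun z hz s => by
    rw [Subgroup.mem_subgroupOf] at hz ⊢
    push_cast
    rw [hcent _ hz _ s.2, mul_inv_cancel_right]
    exact hz⟩
  have hcard : Nat.card (Z.subgroupOf S) = 2 ^ n := by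
    rw [Nat.card_congr (Subgroup.subgroupOfEquivOfLe hZS).toEquiv, hZ]
  obtain ⟨C, hC⟩ := Subgroup.exists_right_complement'_of_coprime (N := Z.subgroupOf S) (by
    rw [hcard]
    exact (Nat.coprime_two_left.2 hodd).pow_left n)
  have hCm : Nat.card C = Z.relIndex S := hC.symm.index_eq_card.symm
  set m := Z.relIndex S
  have hchar : ∀ s : S, s ∈ C ↔ s ^ m = 1 := by
    intro s
    constructor
    · intro hs
      rw [← hCm]
      exact congrArg Subtype.val (pow_card_eq_one' (x := (⟨s, hs⟩ : C)))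
    · intro hs
      obtain ⟨⟨z, c⟩, hzc⟩ := hC.2 s
      have hcomm : Commute (z : S) (c : S) :=
        Subtype.ext (hcent _ (Subgroup.mem_subgroupOf.1 z.2) _ (c : S).2).symm
      have hc1 : ((c : S)) ^ m = 1 := by
        rw [← hCm]
        exact congrArg Subtype.val (pow_card_eq_one' (x := c))
      simp only at hzc
      rw [← hzc, hcomm.mul_pow, hc1, mul_one] at hs
      have h1 : orderOf ((z : S)) ∣ m := orderOf_dvd_of_pow_eq_one hs
      have h2 : orderOf ((z : S)) ∣ 2 ^ n := by
        rw [← hcard]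
        exact Subgroup.orderOf_dvd_natCard _ z.2
      have h3 := Nat.eq_one_of_dvd_coprimes ((Nat.coprime_two_left.2 hodd).pow_left n) h2 h1
      rw [orderOf_eq_one_iff] at h3
      rw [← hzc, h3, one_mul]
      exact c.2
  have hCn : (C.map S.subtype).Normal := ⟨by
    rintro _ ⟨s, hs, rfl⟩ g
    refine ⟨⟨g * s * g⁻¹, Subgroup.Normal.conj_mem inferInstance _ s.2 g⟩, ?_, rfl⟩
    rw [SetLike.mem_coe, hchar] at hs ⊢
    refine Subtype.ext ?_
    push_cast
    rw [conj_pow, ← Subgroup.coe_pow, hs]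
    simp⟩
  have hC1 := hO _ hCn (by rw [Subgroup.card_map_of_injective S.subtype_injective, hCm]; exact hodd)
  rw [Subgroup.map_eq_bot_iff_of_injective _ S.subtype_injective] at hC1
  rw [hC1, Subgroup.card_bot] at hCm
  exact le_antisymm hZS (Subgroup.relIndex_eq_one.1 hCm.symm)

/-- A group without odd normal subgroups is bounded by its 2-part and one involution centraliser. -/
theorem exists_card_le_of_centralizer : ∀ (a c : ℕ), ∃ N : ℕ, ∀ (G : Type u) [Group G] [Finite G],
    (Nat.card G).factorization 2 ≤ a → (∀ K : Subgroup G, K.Normal → Odd (Nat.card K) → K = ⊥) →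
    ∀ x : G, orderOf x = 2 → Nat.card (Subgroup.centralizer ({x} : Set G)) ≤ c →
    Nat.card G ≤ N := by
  intro a
  induction a with
  | zero =>
    refine fun c => ⟨0, fun G _ _ ha _ x hx _ => ?_⟩
    have h := Nat.prime_two.factorization_pos_of_dvd Nat.card_pos.ne' (hx ▸ orderOf_dvd_natCard x)
    omega
  | succ a ih =>
    intro c
    set B := 2 ^ (a + 1) * Nat.factorial (2 * c ^ 2) with hB
    obtain ⟨N, hN⟩ := ih (c * B)
    refine ⟨2 * c + c * B + B * N, fun G _ _ ha hO x hx hc => ?_⟩
    by_cases hbig : 2 < (Subgroup.centralizer ({x} : Set G)).index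
    swap
    · rw [← Subgroup.card_mul_index (Subgroup.centralizer ({x} : Set G))]
      calc _ ≤ c * 2 := Nat.mul_le_mul hc (not_lt.1 hbig)
        _ ≤ _ := by omega
    obtain ⟨g, hg, hgi⟩ := Involution.brauer_fowler hx hbig
    set L := (Subgroup.centralizer ({g} : Set G)).normalCore with hL
    have hLi : L.index ≤ Nat.factorial (2 * c ^ 2) := by
      set H := Subgroup.centralizer ({g} : Set G) with hH
      haveI := Fintype.ofFinite (G ⧸ H)
      have h1 : L.index ≤ Nat.card (Equiv.Perm (G ⧸ H)) := by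
        rw [hL, Subgroup.normalCore_eq_ker, Subgroup.index_ker]
        exact Subgroup.card_le_card_group _
      refine h1.trans ?_
      rw [Nat.card_eq_fintype_card, Fintype.card_perm, ← Nat.card_eq_fintype_card]
      refine Nat.factorial_le (hgi.trans ?_)
      exact Nat.mul_le_mul_left 2 (Nat.pow_le_pow_left hc 2)
    haveI hLn : L.Normal := Subgroup.normalCore_normal _
    set W := Subgroup.centralizer (L : Set G) with hW
    haveI hWn : W.Normal := Subgroup.normal_centralizer
    have hgW : g ∈ W := Subgroup.mem_centralizer_iff.2 fun l hl =>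
      Subgroup.mem_centralizer_singleton_iff.1 (Subgroup.normalCore_le _ hl)
    set Z := W ⊓ L with hZ
    have hcomm : ∀ z ∈ Z, ∀ l ∈ L, l * z = z * l := fun z hz l hl =>
      Subgroup.mem_centralizer_iff.1 hz.1 l hl
    have hZ2 : ∃ n, n ≤ a + 1 ∧ Nat.card Z = 2 ^ n := by
      have h2 : IsPGroup 2 Z := by
        rw [IsPGroup.iff_card]
        refine ⟨_, Nat.eq_prime_pow_of_unique_prime_dvd Nat.card_pos.ne' fun {q} hq hqd => ?_⟩
        by_contra hq2
        haveI := Fact.mk hq
        let K : Subgroup G :=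
          { carrier := {z | z ∈ Z ∧ z ^ q = 1}
            one_mem' := ⟨Z.one_mem, one_pow _⟩
            mul_mem' := fun {z w} hz hw => ⟨Z.mul_mem hz.1 hw.1, by
              rw [(show Commute z w from hcomm w hw.1 z hz.1.2).mul_pow, hz.2, hw.2, one_mul]⟩
            inv_mem' := fun {z} hz => ⟨Z.inv_mem hz.1, by rw [inv_pow, hz.2, inv_one]⟩ }
        have hKn : K.Normal := ⟨fun z hz s => ⟨(inferInstance : Z.Normal).conj_mem z hz.1 s, by
          rw [conj_pow, hz.2]; group⟩⟩
        have hKp : IsPGroup q K := fun z => ⟨1, Subtype.ext (by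
          rw [pow_one, Subgroup.coe_pow]; exact z.2.2)⟩
        obtain ⟨k, hk⟩ := IsPGroup.iff_card.1 hKp
        have hKodd : Odd (Nat.card K) := by
          rw [hk]
          exact (hq.odd_of_ne_two hq2).pow
        obtain ⟨z, hz⟩ := exists_prime_orderOf_dvd_card' (G := Z) q hqd
        have hzK : (z : G) ∈ K := ⟨z.2, by
          rw [← hz, ← Subgroup.coe_pow, pow_orderOf_eq_one, Subgroup.coe_one]⟩
        rw [hO K hKn hKodd, Subgroup.mem_bot] at hzK
        rw [← Subgroup.orderOf_coe, hzK, orderOf_one] at hz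
        exact hq.ne_one hz.symm
      obtain ⟨n, hn⟩ := IsPGroup.iff_card.1 h2
      refine ⟨n, ?_, hn⟩
      have h3 := Subgroup.card_subgroup_dvd_card Z
      rw [hn, Nat.prime_two.pow_dvd_iff_le_factorization Nat.card_pos.ne'] at h3
      omega
    obtain ⟨n, hn, hZc⟩ := hZ2
    have hrel : ∀ R : Subgroup G, L.relIndex R ≤ L.index := fun R => by
      rw [← Subgroup.relIndex_top_right]
      exact Subgroup.relIndex_le_of_le_right le_top (by
        rw [Subgroup.relIndex_top_right]; exact Subgroup.index_ne_zero_of_finite)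
    obtain ⟨R, ⟨hRn, hWR, hRodd⟩, hRmax⟩ := (Set.toFinite
      {R : Subgroup G | R.Normal ∧ W ≤ R ∧ Odd (W.relIndex R)}).exists_maximal
      ⟨W, hWn, le_rfl, by rw [Subgroup.relIndex_self]; exact odd_one⟩
    haveI := hRn
    have hS : R ⊓ L = Z := by
      refine (eq_of_central_odd_index hO (n := n) (Z := Z) (S := R ⊓ L)
        (inf_le_inf_right L hWR) (fun z hz s hs => hcomm z hz s hs.2) hZc ?_).symm
      refine hRodd.of_dvd_nat ?_
      have h1 : Z.relIndex (R ⊓ L) = W.relIndex (R ⊓ L) := by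
        rw [← Subgroup.inf_relIndex_right W (R ⊓ L), hZ]
        congr 1
        ext g
        exact ⟨fun h => ⟨h.1, hWR h.1, h.2⟩, fun h => ⟨h.1, h.2.2⟩⟩
      rw [h1]
      have hk := fun T : Subgroup G => Subgroup.relIndex_ker (K := T) (QuotientGroup.mk' W)
      simp only [QuotientGroup.ker_mk'] at hk
      rw [hk, hk]
      exact Subgroup.card_dvd_of_le (Subgroup.map_mono inf_le_left)
    have hRcard : Nat.card R ≤ B := by
      rw [← Subgroup.card_mul_index ((R ⊓ L).subgroupOf R), Nat.card_congr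
        (Subgroup.subgroupOfEquivOfLe inf_le_left).toEquiv, hS, hZc, hB]
      refine Nat.mul_le_mul (Nat.pow_le_pow_right two_pos hn) ?_
      calc (Z.subgroupOf R).index = L.relIndex R := by
            rw [← hS, Subgroup.inf_subgroupOf_left, Subgroup.relIndex]
        _ ≤ _ := (hrel R).trans hLi
    by_cases hxR : x ∈ R
    · have h := card_centralizer_quotient_le R x
      rw [(QuotientGroup.eq_one_iff x).2 hxR, Subgroup.centralizer_eq_top_iff_subset.2 (by
        intro z hz; rw [Set.mem_singleton_iff.1 hz]; exact Subgroup.one_mem _),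
        Subgroup.card_top] at h
      have hGR := Subgroup.card_eq_card_quotient_mul_card_subgroup R
      have hR' : R = ⊤ → Nat.card G ≤ B := fun h => by rwa [h, Subgroup.card_top] at hRcard
      have hmul : Nat.card G ≤ Nat.card (Subgroup.centralizer ({x} : Set G)) * Nat.card R := by
        have hP : ∀ g : G, g * x * g⁻¹ ∈ R := fun g => hRn.conj_mem x hxR g
        have h1 : (Subgroup.centralizer ({x} : Set G)).index ≤ Nat.card R := by
          rw [← Involution.card_conjugates x]
          refine Nat.card_le_card_of_injective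
            (fun u : {u : G // IsConj x u} => (⟨u.1, ?_⟩ : R)) fun u v h =>
              Subtype.ext (congrArg Subtype.val h :)
          obtain ⟨g, hg⟩ := isConj_iff.1 u.2
          exact hg ▸ hP g
        rw [← Subgroup.card_mul_index (Subgroup.centralizer ({x} : Set G))]
        exact Nat.mul_le_mul_left _ h1
      exact hmul.trans ((Nat.mul_le_mul hc hRcard).trans (by omega))
    have hxo : orderOf (x : G ⧸ R) = 2 := orderOf_eq_prime (by
      rw [← QuotientGroup.mk_pow, ← hx, pow_orderOf_eq_one]; rfl)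
      (by rwa [ne_eq, QuotientGroup.eq_one_iff])
    have hQ : Nat.card (G ⧸ R) ≤ N := by
      refine hN (G ⧸ R) ?_ ?_ (x : G ⧸ R) hxo
        ((card_centralizer_quotient_le R x).trans (Nat.mul_le_mul hc hRcard))
      · have h2 : 2 ∣ Nat.card R := by
          refine dvd_trans ?_ (Subgroup.card_dvd_of_le hWR)
          by_contra hodd
          have := hO W hWn (Nat.odd_iff.2 (by omega))
          rw [this, Subgroup.mem_bot] at hgW
          exact hg hgW
        have h3 := Nat.prime_two.factorization_pos_of_dvd Nat.card_pos.ne' h2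
        have h4 : (Nat.card G).factorization 2 =
            (Nat.card (G ⧸ R)).factorization 2 + (Nat.card R).factorization 2 := by
          rw [Subgroup.card_eq_card_quotient_mul_card_subgroup R,
            Nat.factorization_mul Nat.card_pos.ne' Nat.card_pos.ne', Finsupp.add_apply]
        omega
      · intro K hKn hKodd
        haveI := hKn
        set R' := K.comap (QuotientGroup.mk' R)
        have hRR' : R ≤ R' := fun r hr => by
          rw [Subgroup.mem_comap, QuotientGroup.mk'_apply, (QuotientGroup.eq_one_iff r).2 hr]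
          exact K.one_mem
        have hrel' : R.relIndex R' = Nat.card K := by
          have h := Subgroup.relIndex_comap (f := QuotientGroup.mk' R) (H := ⊥) R'
          rw [MonoidHom.comap_bot, QuotientGroup.ker_mk', Subgroup.relIndex_bot_left,
            Subgroup.map_comap_eq_self_of_surjective (QuotientGroup.mk'_surjective R)] at h
          exact h
        have hle := hRmax ⟨inferInstance, hWR.trans hRR', by
          rw [← Subgroup.relIndex_mul_relIndex W R R' hWR hRR', hrel']
          exact hRodd.mul hKodd⟩ hRR'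
        rw [← Subgroup.map_comap_eq_self_of_surjective (QuotientGroup.mk'_surjective R) K,
          Subgroup.map_eq_bot_iff, QuotientGroup.ker_mk']
        exact hle
    rw [Subgroup.card_eq_card_quotient_mul_card_subgroup R]
    calc _ ≤ N * B := Nat.mul_le_mul hQ hRcard
      _ ≤ _ := by rw [mul_comm N B]; omega

end Cfsg.Agent.BlockCount
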